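import Groth.Agent.Henz21.Henselization

/-! Uniqueness of henselizations and strict henselizations. -/

universe u

open IsLocalRing

noncomputable section

namespace Groth.Agent.Henz21

variable {R : Type u} [CommRing R] [IsLocalRing R]
variable (S : Type u) [CommRing S] [IsLocalRing S] [Algebra R S] [IsLocalHom (algebraMap R S)]

/-- Two henselizations are isomorphic. -/
theorem exists_henselization_equiv [hS : Hensel.IsHenselization R S]
    (S' : Type u) [CommRing S'] [IsLocalRing S'] [Algebra R S'] [IsLocalHom (algebraMap R S')]
    [hS' : Hensel.IsHenselization R S'] : Nonempty (S ≃ₐ[R] S') := by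
  have := hS.henselian
  have := hS'.henselian
  obtain ⟨g, hg, -⟩ := hS.universal S' (algebraMap R S') inferInstance
  obtain ⟨h, hh, -⟩ := hS'.universal S (algebraMap R S) inferInstance
  obtain ⟨_, -, u1⟩ := hS.universal S (algebraMap R S) inferInstance
  obtain ⟨_, -, u2⟩ := hS'.universal S' (algebraMap R S') inferInstance
  have e1 : h.comp g = RingHom.id S :=
    (u1 _ (by dsimp only; rw [RingHom.comp_assoc, hg, hh])).trans (u1 _ (RingHom.id_comp _)).symm
  have e2 : g.comp h = RingHom.id S' :=
    (u2 _ (by dsimp only; rw [RingHom.comp_assoc, hh, hg])).trans (u2 _ (RingHom.id_comp _)).symm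
  exact ⟨AlgEquiv.ofRingEquiv (f := RingEquiv.ofRingHom g h e2 e1) (RingHom.congr_fun hg)⟩

/-- A henselization is isomorphic to the standard one. -/
def henselizationEquiv [Hensel.IsHenselization R S] : Henselization R ≃ₐ[R] S :=
  (exists_henselization_equiv (Henselization R) S).some

/-- Two strict henselizations are isomorphic, compatibly with a chosen isomorphism of residue
fields. -/
theorem exists_strictHenselization_equiv [hS : Hensel.IsStrictHenselization R S]
    (S' : Type u) [CommRing S'] [IsLocalRing S'] [Algebra R S'] [IsLocalHom (algebraMap R S')]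
    [hS' : Hensel.IsStrictHenselization R S']
    (τ : ResidueField S ≃ₐ[ResidueField R] ResidueField S') :
    ∃ e : S ≃ₐ[R] S', ∀ x, residue S' (e x) = τ (residue S x) := by
  have := hS.henselian
  have := hS'.henselian
  have hτ : τ.toRingEquiv.toRingHom.comp (ResidueField.map (algebraMap R S)) =
      ResidueField.map (algebraMap R S') := RingHom.ext fun x => τ.commutes x
  have hτ' : τ.symm.toRingEquiv.toRingHom.comp (ResidueField.map (algebraMap R S')) =
      ResidueField.map (algebraMap R S) := RingHom.ext fun x => τ.symm.commutes x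
  obtain ⟨g, ⟨hg, hgr⟩, -⟩ := hS.universal S' (algebraMap R S') τ.toRingEquiv.toRingHom hτ
  obtain ⟨h, ⟨hh, hhr⟩, -⟩ := hS'.universal S (algebraMap R S) τ.symm.toRingEquiv.toRingHom hτ'
  obtain ⟨_, -, u1⟩ := hS.universal S (algebraMap R S) (RingHom.id _) (RingHom.id_comp _)
  obtain ⟨_, -, u2⟩ := hS'.universal S' (algebraMap R S') (RingHom.id _) (RingHom.id_comp _)
  have e1 : h.comp g = RingHom.id S :=
    (u1 _ ⟨by rw [RingHom.comp_assoc, hg, hh], fun x => by
      rw [RingHom.comp_apply, hhr, hgr]; exact τ.symm_apply_apply _⟩).trans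
      (u1 _ ⟨RingHom.id_comp _, fun _ => rfl⟩).symm
  have e2 : g.comp h = RingHom.id S' :=
    (u2 _ ⟨by rw [RingHom.comp_assoc, hh, hg], fun x => by
      rw [RingHom.comp_apply, hgr, hhr]; exact τ.apply_symm_apply _⟩).trans
      (u2 _ ⟨RingHom.id_comp _, fun _ => rfl⟩).symm
  exact ⟨AlgEquiv.ofRingEquiv (f := RingEquiv.ofRingHom g h e2 e1) (RingHom.congr_fun hg), hgr⟩

/-- A strict henselization is isomorphic to the standard one. -/
def strictHenselizationEquiv [hS : Hensel.IsStrictHenselization R S] :
    StrictHenselization R ≃ₐ[R] S :=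
  haveI : IsSepClosure (ResidueField R) (ResidueField S) := hS.isSepClosure
  haveI : IsSepClosure (ResidueField R) (ResidueField (StrictHenselization R)) :=
    (StrictHenselization.isStrictHenselization R).isSepClosure
  (exists_strictHenselization_equiv (StrictHenselization R) S
    (IsSepClosure.equiv (ResidueField R) _ _)).choose

theorem henselization_map_maximalIdeal [Hensel.IsHenselization R S] :
    (maximalIdeal R).map (algebraMap R S) = maximalIdeal S := by
  let e := henselizationEquiv (R := R) S
  rw [← e.toAlgHom.comp_algebraMap, ← Ideal.map_map, H.map_maximalIdeal]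
  exact map_ringEquiv_maximalIdeal e.toRingEquiv

theorem strictHenselization_map_maximalIdeal [Hensel.IsStrictHenselization R S] :
    (maximalIdeal R).map (algebraMap R S) = maximalIdeal S := by
  let e := strictHenselizationEquiv (R := R) S
  rw [← e.toAlgHom.comp_algebraMap, ← Ideal.map_map, H.map_maximalIdeal]
  exact map_ringEquiv_maximalIdeal e.toRingEquiv

end Groth.Agent.Henz21
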