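import Groth.Agent.Henz21.IntegralPair
import Groth.Agent.EtAlg23.HenselBasic

/-! A local ring integral over a henselian local ring is henselian. -/

set_option autoImplicit false

universe u

open IsLocalRing

namespace Groth.Agent.Henz21

theorem maximalIdeal_radical_map {A B : Type u} [CommRing A] [IsLocalRing A] [CommRing B]
    [IsLocalRing B] [Algebra A B] [Algebra.IsIntegral A B] :
    ((maximalIdeal A).map (algebraMap A B)).radical = maximalIdeal B := by
  have hc : (maximalIdeal B).comap (algebraMap A B) = maximalIdeal A :=
    eq_maximalIdeal (Ideal.isMaximal_comap_of_isIntegral_of_isMaximal _)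
  refine le_antisymm ((maximalIdeal.isMaximal B).isPrime.radical_le_iff.mpr
    (Ideal.map_le_iff_le_comap.mpr hc.ge)) ?_
  rw [Ideal.radical_eq_sInf]
  refine le_sInf fun P ⟨hP, hPp⟩ => ?_
  have := Ideal.map_le_iff_le_comap.mp hP
  have hmax : (P.comap (algebraMap A B)).IsMaximal :=
    (maximalIdeal.isMaximal A).eq_of_le (Ideal.comap_ne_top _ hPp.ne_top) this ▸
      maximalIdeal.isMaximal A
  exact (eq_maximalIdeal (Ideal.isMaximal_of_isIntegral_of_isMaximal_comap P hmax)).ge

theorem henselianLocalRing_of_isIntegral {A B : Type u} [CommRing A] [HenselianLocalRing A]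
    [CommRing B] [IsLocalRing B] [Algebra A B] [Algebra.IsIntegral A B] : HenselianLocalRing B := by
  have h := henselianRing_of_isIntegral (maximalIdeal A) B
  have : HenselianRing B (maximalIdeal B) :=
    (EtAlg23.henselianRing_congr_radical (by
      rw [maximalIdeal_radical_map, (maximalIdeal.isMaximal B).isPrime.radical])).mp h
  exact EtAlg23.henselianLocalRing_of_henselianRing B

end Groth.Agent.Henz21
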