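import Groth.Agent.Henz21.Colim
import Mathlib.RingTheory.Flat.Basic
import Mathlib.RingTheory.Etale.Basic
import Mathlib.RingTheory.Smooth.Flat

/-! `H R K` is flat over `R`. -/

universe u

open CategoryTheory TensorProduct

namespace Groth.Agent.Henz21.H

variable {R K : Type u} [CommRing R] [CommRing K] [Algebra R K]

theorem exists_lTensor_rep {M : Type u} [AddCommGroup M] [Module R M] (z : M ⊗[R] H R K) :
    ∃ (i : Pt R K) (w : M ⊗[R] i.S), (incl i).toLinearMap.lTensor M w = z := by
  induction z using TensorProduct.induction_on with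
  | zero => exact ⟨base R K, 0, by simp⟩
  | tmul m x =>
    obtain ⟨i, s, rfl⟩ := exists_rep x
    exact ⟨i, m ⊗ₜ s, by simp⟩
  | add z₁ z₂ h₁ h₂ =>
    obtain ⟨i, w₁, rfl⟩ := h₁
    obtain ⟨j, w₂, rfl⟩ := h₂
    refine ⟨IsFiltered.max i j, (IsFiltered.leftToMax i j).φ.toLinearMap.lTensor M w₁ +
      (IsFiltered.rightToMax i j).φ.toLinearMap.lTensor M w₂, ?_⟩
    rw [map_add, ← LinearMap.lTensor_comp_apply, ← LinearMap.lTensor_comp_apply,
      ← AlgHom.comp_toLinearMap, ← AlgHom.comp_toLinearMap, incl_comp, incl_comp]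

instance flat : Module.Flat R (H R K) := by
  rw [Module.Flat.iff_rTensor_injective']
  intro I
  rw [← LinearMap.ker_eq_bot]
  refine eq_bot_iff.mpr fun z hz => ?_
  obtain ⟨i, w, rfl⟩ := exists_lTensor_rep z
  rw [LinearMap.mem_ker, ← LinearMap.comp_apply, LinearMap.rTensor_comp_lTensor,
    ← LinearMap.lTensor_comp_rTensor, LinearMap.comp_apply] at hz
  set v := LinearMap.rTensor i.S I.subtype w
  set s := TensorProduct.lid R i.S v
  have hv : v = (1 : R) ⊗ₜ s := ((TensorProduct.lid R i.S).symm_apply_apply v).symm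
  rw [hv, LinearMap.lTensor_tmul] at hz
  have hs : incl i s = incl i 0 := by
    rw [map_zero]
    simpa using congrArg (TensorProduct.lid R (H R K)) hz
  obtain ⟨k, f, g, hfg⟩ := (incl_eq_iff s 0).mp hs
  rw [map_zero] at hfg
  have : LinearMap.rTensor k.S I.subtype (f.φ.toLinearMap.lTensor I w) = 0 := by
    rw [← LinearMap.comp_apply, LinearMap.rTensor_comp_lTensor, ← LinearMap.lTensor_comp_rTensor,
      LinearMap.comp_apply]
    change LinearMap.lTensor R f.φ.toLinearMap v = 0
    rw [hv, LinearMap.lTensor_tmul, AlgHom.toLinearMap_apply, hfg, tmul_zero]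
  have hinj := Module.Flat.rTensor_preserves_injective_linearMap (M := k.S) I.subtype
    Subtype.val_injective
  have h0 := hinj (this.trans (map_zero _).symm)
  rw [Submodule.mem_bot, ← incl_comp f, AlgHom.comp_toLinearMap, LinearMap.lTensor_comp_apply, h0,
    map_zero]

end Groth.Agent.Henz21.H
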