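import Groth.Agent.Henz21.Unique
import Groth.Agent.Henz21.Flat
import Mathlib.RingTheory.Flat.FaithfullyFlat.Algebra

/-! (Strict) henselizations are faithfully flat. -/

universe u

noncomputable section

namespace Groth.Agent.Henz21

variable {R : Type u} [CommRing R] [IsLocalRing R]
variable (S : Type u) [CommRing S] [IsLocalRing S] [Algebra R S] [IsLocalHom (algebraMap R S)]

theorem henselization_faithfullyFlat [Hensel.IsHenselization R S] : Module.FaithfullyFlat R S := by
  have : Module.Flat R S := Module.Flat.of_linearEquiv (henselizationEquiv (R := R) S).symm.toLinearEquiv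
  exact Module.FaithfullyFlat.of_flat_of_isLocalHom

theorem strictHenselization_faithfullyFlat [Hensel.IsStrictHenselization R S] :
    Module.FaithfullyFlat R S := by
  have : Module.Flat R S :=
    Module.Flat.of_linearEquiv (strictHenselizationEquiv (R := R) S).symm.toLinearEquiv
  exact Module.FaithfullyFlat.of_flat_of_isLocalHom

end Groth.Agent.Henz21
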