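import Mathlib.RingTheory.Henselian
import Mathlib.Algebra.Polynomial.Lifts

/-! Quotients of henselian local rings are henselian. -/

open IsLocalRing Polynomial

namespace Groth.Agent.Henz21

theorem henselianLocalRing_of_surjective {A B : Type*} [CommRing A] [HenselianLocalRing A]
    [CommRing B] [Nontrivial B] (φ : A →+* B) (hφ : Function.Surjective φ) :
    HenselianLocalRing B := by
  haveI : IsLocalHom φ := IsLocalHom.of_surjective φ hφ
  haveI : IsLocalRing B := .of_surjective' φ hφ
  refine { is_henselian := fun f hf b₀ h₁ h₂ => ?_ }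
  obtain ⟨g, rfl, -, hg⟩ := Polynomial.lifts_and_natDegree_eq_and_monic
    (Polynomial.map_surjective φ hφ f) hf
  obtain ⟨a₀, rfl⟩ := hφ b₀
  rw [eval_map_apply] at h₁
  rw [derivative_map, eval_map_apply] at h₂
  obtain ⟨a, ha, ha'⟩ := HenselianLocalRing.is_henselian g hg a₀
    (fun h => h₁ (h.map φ)) (isUnit_of_map_unit φ _ h₂)
  refine ⟨φ a, ?_, ?_⟩
  · rw [IsRoot.def, eval_map_apply, ha, map_zero]
  · rw [← map_sub]
    exact map_nonunit φ _ ha'

end Groth.Agent.Henz21
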