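import Mathlib.RingTheory.Henselian
import Mathlib.RingTheory.Unramified.LocalStructure
import Mathlib.RingTheory.Etale.StandardEtale

/-! Maps from etale algebras to the residue field of a henselian local ring lift uniquely. -/

universe u v w

open IsLocalRing Polynomial

namespace Groth.Agent.Henz21

variable {R : Type u} {S : Type v} {T : Type w} [CommRing R] [CommRing S] [Algebra R S]
  [CommRing T] [HenselianLocalRing T] [Algebra R T]

theorem existsUnique_standardEtale_lift (P : StandardEtalePair R)
    (x : ResidueField T) (hx : P.HasMap x) :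
    ∃! a : T, P.HasMap a ∧ residue T a = x := by
  have hd : IsUnit (P.f.derivative.aeval x) := hx.isUnit_derivative_f
  have h1 : ∀ (a : T) (p : R[X]), residue T (aeval a p) = aeval (residue T a) p := fun a p =>
    (aeval_algHom_apply (IsScalarTower.toAlgHom R T (ResidueField T)) a p).symm
  obtain ⟨a₀, rfl⟩ := residue_surjective x
  have hder : ∀ a : T, residue T a = residue T a₀ →
      IsUnit ((P.f.map (algebraMap R T)).derivative.eval a) := fun a ha => by
    rw [derivative_map, eval_map, ← aeval_def]
    exact isUnit_of_map_unit (residue T) _ (by rw [h1, ha]; exact hd)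
  obtain ⟨a, ha, ha'⟩ := HenselianLocalRing.is_henselian (P.f.map (algebraMap R T))
    (P.monic_f.map _) a₀ (by
      rw [← residue_eq_zero_iff, eval_map, ← aeval_def, h1]; exact hx.1) (hder a₀ rfl)
  rw [IsRoot.def, eval_map, ← aeval_def] at ha
  have hres : residue T a = residue T a₀ := by
    rw [← sub_eq_zero, ← map_sub, residue_eq_zero_iff]; exact ha'
  refine ⟨a, ⟨⟨ha, isUnit_of_map_unit (residue T) _ (by rw [h1, hres]; exact hx.2)⟩, hres⟩, ?_⟩
  rintro b ⟨⟨hb, -⟩, hb'⟩
  refine eq_of_eval_eq_zero_of_not_isUnit_sub (f := P.f.map (algebraMap R T))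
    (by rw [eval_map, ← aeval_def]; exact hb) (by rw [eval_map, ← aeval_def]; exact ha) ?_
    (hder b hb')
  rw [← mem_nonunits_iff, ← mem_maximalIdeal, ← residue_eq_zero_iff, map_sub, hb', hres, sub_self]

/-- An etale algebra point in the residue field of a henselian local ring lifts uniquely. -/
theorem existsUnique_lift [Algebra.Etale R S] (σ : S →ₐ[R] ResidueField T) :
    ∃! g : S →ₐ[R] T, (IsScalarTower.toAlgHom R T (ResidueField T)).comp g = σ := by
  let q : Ideal S := RingHom.ker σ
  have : q.IsPrime := RingHom.ker_isPrime _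
  have : Algebra.IsEtaleAt R q := Algebra.FormallyEtale.comp R S (Localization.AtPrime q)
  obtain ⟨s, hs, hstd⟩ := Algebra.IsEtaleAt.exists_isStandardEtale (R := R) q
  obtain ⟨P⟩ := hstd.nonempty_standardEtalePresentation
  let Ss := Localization.Away s
  let e : Ss ≃ₐ[R] P.P.Ring := P.equivRing
  have hs' : IsUnit (σ s) := isUnit_iff_ne_zero.mpr (by simpa [q, RingHom.mem_ker] using hs)
  let σs : Ss →ₐ[R] ResidueField T :=
    IsLocalization.liftAlgHom (M := Submonoid.powers s) (f := σ) (by
      rintro ⟨y, n, rfl⟩; simpa using hs'.pow n)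
  let π : T →ₐ[R] ResidueField T := IsScalarTower.toAlgHom R T (ResidueField T)
  have hπ : ∀ t, π t = residue T t := fun _ => rfl
  have hσs : ∀ t, σs (algebraMap S Ss t) = σ t := fun t => IsLocalization.lift_eq _ t
  obtain ⟨a, ⟨ha, hax⟩, huniq⟩ := existsUnique_standardEtale_lift P.P (T := T)
    (σs (e.symm P.P.X)) ((StandardEtalePair.hasMap_X).map (σs.comp e.symm.toAlgHom))
  let g₁ : Ss →ₐ[R] T := (P.P.lift a ha).comp e.toAlgHom
  have hg₁ : π.comp g₁ = σs := by
    have : π.comp (P.P.lift a ha) = σs.comp e.symm.toAlgHom :=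
      P.P.hom_ext (by simp [hπ, hax])
    refine AlgHom.ext fun t => ?_
    have := DFunLike.congr_fun this (e t)
    simpa [g₁] using this
  refine ⟨g₁.comp (IsScalarTower.toAlgHom R S Ss), AlgHom.ext fun t =>
    (DFunLike.congr_fun hg₁ _).trans (hσs t), ?_⟩
  intro g hg
  have hgs : IsUnit (g s) := isUnit_of_map_unit (residue T) _ (by
    have := DFunLike.congr_fun hg s
    simp only [AlgHom.comp_apply, hπ, π] at this ⊢
    exact this ▸ hs')
  let g₂ : Ss →ₐ[R] T := IsLocalization.liftAlgHom (M := Submonoid.powers s) (f := g) (by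
      rintro ⟨y, n, rfl⟩; simpa using hgs.pow n)
  have hg₂' : ∀ t, g₂ (algebraMap S Ss t) = g t := fun t => IsLocalization.lift_eq _ t
  have hg₂ : π.comp g₂ = σs := IsLocalization.algHom_ext (Submonoid.powers s) <| AlgHom.ext fun t => by
    show π (g₂ (algebraMap S Ss t)) = σs (algebraMap S Ss t)
    rw [hg₂', hσs]
    exact DFunLike.congr_fun hg t
  have hb : g₂.comp e.symm.toAlgHom = P.P.lift a ha := P.P.hom_ext (by
    rw [StandardEtalePair.lift_X]
    refine huniq _ ⟨StandardEtalePair.hasMap_X.map (g₂.comp e.symm.toAlgHom), ?_⟩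
    exact DFunLike.congr_fun hg₂ (e.symm P.P.X))
  refine AlgHom.ext fun t => ?_
  rw [← hg₂']
  have := DFunLike.congr_fun hb (e (algebraMap S Ss t))
  simpa [g₁] using this

end Groth.Agent.Henz21
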