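import Groth.Agent.Henz21.Henselian
import Groth.Agent.Henz21.LocalLift
import Mathlib.RingTheory.Unramified.LocalRing
import Mathlib.RingTheory.Unramified.Locus

/-! Properties of `H R K` for a local ring `R` and a field `K` under which the maximal ideal dies. -/

universe u

open IsLocalRing

noncomputable section

namespace Groth.Agent.Henz21

namespace H

variable {R K : Type u} [CommRing R] [IsLocalRing R] [Field K] [Algebra R K]
  [IsLocalHom (algebraMap R K)]

instance isLocalHom_algebraMap : IsLocalHom (algebraMap R (H R K)) where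
  map_nonunit r hr := by
    have := hr.map (proj R K)
    rw [AlgHom.commutes] at this
    exact isUnit_of_map_unit (algebraMap R K) r this

theorem map_maximalIdeal_le : (maximalIdeal R).map (algebraMap R (H R K)) ≤ maximalIdeal (H R K) :=
  Ideal.map_le_iff_le_comap.mpr fun r hr => by
    rw [Ideal.mem_comap, mem_maximalIdeal]
    exact map_nonunit (algebraMap R (H R K)) r hr

theorem map_maximalIdeal : (maximalIdeal R).map (algebraMap R (H R K)) = maximalIdeal (H R K) := by
  refine le_antisymm map_maximalIdeal_le fun x hx => ?_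
  obtain ⟨i, s, rfl⟩ := exists_rep x
  rw [maximalIdeal_eq, RingHom.mem_ker, proj_incl] at hx
  let q : Ideal i.S := RingHom.ker i.pt
  have : q.IsPrime := RingHom.ker_isPrime _
  have hq : q.comap (algebraMap R i.S) = maximalIdeal R := by
    ext r
    rw [Ideal.mem_comap, RingHom.mem_ker, AlgHom.commutes, mem_maximalIdeal, mem_nonunits_iff,
      ← isUnit_map_iff (algebraMap R K), isUnit_iff_ne_zero, not_not]
  have : q.LiesOver (maximalIdeal R) := ⟨hq.symm⟩
  have : Algebra.IsUnramifiedAt R q := Algebra.FormallyUnramified.comp R i.S (Localization.AtPrime q)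
  let _ := Localization.AtPrime.algebraOfLiesOver (maximalIdeal R) q
  have h := ((Algebra.isUnramifiedAt_iff_map_eq R (maximalIdeal R) q).mp inferInstance).2
  have hs : algebraMap i.S (Localization.AtPrime q) s ∈
      ((maximalIdeal R).map (algebraMap R i.S)).map (algebraMap i.S (Localization.AtPrime q)) := by
    rw [Ideal.map_map, ← IsScalarTower.algebraMap_eq, h, IsLocalization.AtPrime.to_map_mem_maximal_iff (Localization.AtPrime q) q]
    exact hx
  obtain ⟨m, hm, hms⟩ :=
    (IsLocalization.algebraMap_mem_map_algebraMap_iff q.primeCompl _ _ _).mp hs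
  have hu : IsUnit (incl i m) := isUnit_of_isUnit_proj (isUnit_iff_ne_zero.mpr (by
    rw [proj_incl]; simpa [q, Ideal.primeCompl, RingHom.mem_ker] using hm))
  have h1 : incl i (m * s) ∈ (maximalIdeal R).map (algebraMap R (H R K)) := by
    have := Ideal.mem_map_of_mem (incl i).toRingHom hms
    rw [Ideal.map_map] at this
    rwa [show (incl i).toRingHom.comp (algebraMap R i.S) = algebraMap R (H R K) from
      RingHom.ext (incl i).commutes] at this
  rw [map_mul] at h1
  exact (Ideal.unit_mul_mem_iff_mem _ hu).mp h1

omit [IsLocalRing R] [IsLocalHom (algebraMap R K)] in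
/-- A map to the residue field of a henselian local ring lifts uniquely. -/
theorem existsUnique_lift {T : Type u} [CommRing T] [HenselianLocalRing T] [Algebra R T]
    (θ : H R K →ₐ[R] ResidueField T) :
    ∃! g : H R K →ₐ[R] T, (IsScalarTower.toAlgHom R T (ResidueField T)).comp g = θ := by
  choose φ hφ hφu using fun i : Pt R K => Henz21.existsUnique_lift (T := T) (θ.comp (incl i))
  refine ⟨lift φ fun i j f => ?_, ?_, ?_⟩
  · refine hφu i _ ?_
    show (IsScalarTower.toAlgHom R T (ResidueField T)).comp ((φ j).comp f.φ) = θ.comp (incl i)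
    rw [← AlgHom.comp_assoc, hφ, AlgHom.comp_assoc, incl_comp]
  · refine algHom_ext fun i s => ?_
    rw [AlgHom.comp_apply, lift_incl]
    exact DFunLike.congr_fun (hφ i) s
  · intro g hg
    refine algHom_ext fun i s => ?_
    rw [lift_incl, ← hφu i (g.comp (incl i)) (by
      show (IsScalarTower.toAlgHom R T (ResidueField T)).comp (g.comp (incl i)) = θ.comp (incl i)
      rw [← AlgHom.comp_assoc, hg])]
    rfl

end H

end Groth.Agent.Henz21
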