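import Groth.Prelude.Def_Hensel
import Mathlib.FieldTheory.IsSepClosed
import Mathlib.RingTheory.LocalRing.ResidueField.Instances
import Mathlib.FieldTheory.PurelyInseparable.Basic

/-! Criteria for a henselian ring to be a (strict) henselization. -/

set_option autoImplicit false

universe u

open IsLocalRing

namespace Groth.Agent.Henz21

variable {R S T : Type u} [CommRing R] [IsLocalRing R] [CommRing S] [IsLocalRing S] [Algebra R S]
  [IsLocalHom (algebraMap R S)] [CommRing T] [HenselianLocalRing T]

/-- A henselian ring mapping to the henselization and rigid over the base is the henselization. -/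
theorem bijective_of_henselization [hS : Hensel.IsHenselization R S] (j : R →+* T) (ψ : T →+* S)
    [IsLocalHom ψ] (hψ : ψ.comp j = algebraMap R S)
    (hfix : ∀ h : T →+* T, IsLocalHom h → h.comp j = j → h = RingHom.id T) :
    Function.Bijective ψ := by
  haveI := hS.henselian
  haveI hj : IsLocalHom j := ⟨fun r hr => isUnit_of_map_unit (algebraMap R S) r (by
    rw [← hψ]; exact hr.map ψ)⟩
  obtain ⟨g, hg, -⟩ := hS.universal T j hj
  obtain ⟨_, -, u⟩ := hS.universal S (algebraMap R S) inferInstance
  have e1 : ψ.comp g = RingHom.id S :=
    (u (ψ.comp g) (by dsimp only; rw [RingHom.comp_assoc, hg, hψ])).trans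
      (u (RingHom.id S) (RingHom.id_comp _)).symm
  have hgl : IsLocalHom g := ⟨fun s hs => by
    have := hs.map ψ
    rwa [show ψ (g s) = s from RingHom.congr_fun e1 s] at this⟩
  have e2 : g.comp ψ = RingHom.id T :=
    hfix _ (RingHom.isLocalHom_comp g ψ) (by rw [RingHom.comp_assoc, hψ, hg])
  exact ⟨Function.LeftInverse.injective (RingHom.congr_fun e2),
    Function.RightInverse.surjective (RingHom.congr_fun e1)⟩

/-- In a separable algebraic extension, a separably closed subfield containing the base is all. -/
theorem surjective_of_isSepClosed {k F K : Type u} [Field k] [Field F] [Field K] [Algebra k K]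
    [Algebra.IsSeparable k K] [IsSepClosed F] (a : k →+* F) (f : F →+* K)
    (hf : f.comp a = algebraMap k K) : Function.Surjective f := by
  letI := a.toAlgebra
  letI := f.toAlgebra
  haveI : IsScalarTower k F K := IsScalarTower.of_algebraMap_eq' hf.symm
  haveI : Algebra.IsSeparable F K := Algebra.isSeparable_tower_top_of_isSeparable k F K
  exact IsSepClosed.algebraMap_surjective F K

/-- A strictly henselian ring mapping to the strict henselization and rigid over the base is the
strict henselization. -/
theorem bijective_of_strictHenselization [hS : Hensel.IsStrictHenselization R S]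
    [IsSepClosed (ResidueField T)] (j : R →+* T) (ψ : T →+* S)
    [IsLocalHom ψ] (hψ : ψ.comp j = algebraMap R S)
    (hfix : ∀ h : T →+* T, IsLocalHom h → h.comp j = j →
      (∀ x, residue T (h x) = residue T x) → h = RingHom.id T) :
    Function.Bijective ψ := by
  haveI := hS.henselian
  haveI := hS.isSepClosure
  haveI hj : IsLocalHom j := ⟨fun r hr => isUnit_of_map_unit (algebraMap R S) r (by
    rw [← hψ]; exact hr.map ψ)⟩
  have hres : (ResidueField.map ψ).comp (ResidueField.map j) =
      algebraMap (ResidueField R) (ResidueField S) := by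
    refine RingHom.ext fun x => ?_
    obtain ⟨r, rfl⟩ := residue_surjective x
    rw [RingHom.comp_apply, ResidueField.map_residue, ResidueField.map_residue]
    exact congrArg (residue S) (RingHom.congr_fun hψ r)
  let e := RingEquiv.ofBijective (ResidueField.map ψ)
    ⟨RingHom.injective _, surjective_of_isSepClosed _ _ hres⟩
  obtain ⟨g, ⟨hg, hgres⟩, -⟩ := hS.universal T j e.symm.toRingHom (RingHom.ext fun x => by
    rw [RingHom.comp_apply, RingEquiv.toRingHom_eq_coe, RingEquiv.coe_toRingHom,
      RingEquiv.symm_apply_eq]
    exact (RingHom.congr_fun hres x).symm)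
  obtain ⟨_, -, u⟩ := hS.universal S (algebraMap R S) (RingHom.id _) (RingHom.id_comp _)
  have e1 : ψ.comp g = RingHom.id S :=
    (u (ψ.comp g) ⟨by rw [RingHom.comp_assoc, hg, hψ], fun x => by
      rw [RingHom.comp_apply, ← ResidueField.map_residue, hgres]
      exact e.apply_symm_apply _⟩).trans (u _ ⟨RingHom.id_comp _, fun _ => rfl⟩).symm
  have hgl : IsLocalHom g := ⟨fun s hs => by
    have := hs.map ψ
    rwa [show ψ (g s) = s from RingHom.congr_fun e1 s] at this⟩
  have e2 : g.comp ψ = RingHom.id T :=
    hfix _ (RingHom.isLocalHom_comp g ψ) (by rw [RingHom.comp_assoc, hψ, hg]) fun x => by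
      rw [RingHom.comp_apply, hgres]
      exact (RingEquiv.symm_apply_eq e).mpr (ResidueField.map_residue ψ x).symm
  exact ⟨Function.LeftInverse.injective (RingHom.congr_fun e2),
    Function.RightInverse.surjective (RingHom.congr_fun e1)⟩

end Groth.Agent.Henz21
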