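import Groth.Agent.Henz21.IntegralSh
import Mathlib.FieldTheory.IsSepClosed

/-! Existence of maps between strict henselizations. -/

set_option autoImplicit false
set_option linter.style.haveILetI false

universe u

open IsLocalRing

namespace Groth.Agent.Henz21

/-- A local map to a strictly henselian ring extends to the strict henselization. -/
theorem exists_map_of_strictHenselization {A Ash T : Type u} [CommRing A] [IsLocalRing A]
    [CommRing Ash] [IsLocalRing Ash] [Algebra A Ash] [IsLocalHom (algebraMap A Ash)]
    [hA : Hensel.IsStrictHenselization A Ash] [CommRing T] [HenselianLocalRing T]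
    [IsSepClosed (ResidueField T)] (f : A →+* T) [IsLocalHom f] :
    ∃ g : Ash →+* T, g.comp (algebraMap A Ash) = f ∧ IsLocalHom g := by
  haveI := hA.isSepClosure
  letI : Algebra (ResidueField A) (ResidueField T) := (ResidueField.map f).toAlgebra
  haveI : Algebra.IsSeparable (ResidueField A) (ResidueField Ash) := IsSepClosure.separable
  let τ : ResidueField Ash →ₐ[ResidueField A] ResidueField T := IsSepClosed.lift
  obtain ⟨g, ⟨hg, hg'⟩, -⟩ := hA.universal T f τ.toRingHom (RingHom.ext fun x => by
    obtain ⟨r, rfl⟩ := residue_surjective x
    exact τ.commutes (residue A r))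
  refine ⟨g, hg, ⟨fun x hx => ?_⟩⟩
  have h1 : residue T (g x) ≠ 0 := fun h => notMem_maximalIdeal.mpr hx ((residue_eq_zero_iff _).mp h)
  rw [hg'] at h1
  exact notMem_maximalIdeal.mp fun h => h1 (by rw [(residue_eq_zero_iff x).mpr h, map_zero])

/-- An integral algebra which is local has local structure map. -/
theorem isLocalHom_of_isIntegral {A B : Type u} [CommRing A] [IsLocalRing A] [CommRing B]
    [IsLocalRing B] [Algebra A B] [Algebra.IsIntegral A B] : IsLocalHom (algebraMap A B) :=
  ((local_hom_TFAE _).out 0 4).mpr
    (eq_maximalIdeal (Ideal.isMaximal_comap_of_isIntegral_of_isMaximal (maximalIdeal B)))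

end Groth.Agent.Henz21
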