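import Groth.Agent.Henz21.Henselian
import Groth.Agent.Henz21.LocalLift
import Mathlib.RingTheory.LocalRing.ResidueField.Ideal

/-! Pairs `(S, q)` with trivial residue field extension at `p` are points in `κ(p)`. -/

universe u

open IsLocalRing

noncomputable section

namespace Groth.Agent.Henz21

variable {R : Type u} [CommRing R]

namespace H

variable {K : Type u} [Field K] [Algebra R K]

/-- Two maps of an etale algebra into `H R K` with the same point are equal. -/
theorem algHom_ext_proj {S : Type u} [CommRing S] [Algebra R S] [Algebra.Etale R S]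
    {f g : S →ₐ[R] H R K} (h : (proj R K).comp f = (proj R K).comp g) : f = g := by
  refine (Henz21.existsUnique_lift (T := H R K)
    ((IsScalarTower.toAlgHom R (H R K) _).comp f)).unique rfl (AlgHom.ext fun s => ?_)
  show residue _ (g s) = residue _ (f s)
  rw [← sub_eq_zero, ← map_sub, residue_eq_zero_iff, maximalIdeal_eq, RingHom.mem_ker, map_sub,
    sub_eq_zero]
  exact (DFunLike.congr_fun h s).symm

theorem comap_maximalIdeal {S : Type u} [CommRing S] [Algebra R S] (f : S →ₐ[R] H R K) :
    (maximalIdeal (H R K)).comap f.toRingHom = RingHom.ker ((proj R K).comp f) := by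
  ext s
  simp [maximalIdeal_eq, RingHom.mem_ker]

end H

section point

variable (p : Ideal R) [p.IsPrime] {S : Type u} [CommRing S] [Algebra R S]

theorem algebraMap_residueField_eq_zero (r : R) : algebraMap R p.ResidueField r = 0 ↔ r ∈ p :=
  Ideal.algebraMap_residueField_eq_zero

/-- A point in `κ(p)` gives a prime over `p` with trivial residue field extension. -/
theorem point_pair (σ : S →ₐ[R] p.ResidueField) :
    ∃ (_ : (RingHom.ker σ).IsPrime) (hq : p = (RingHom.ker σ).comap (algebraMap R S)),
      Function.Bijective (Ideal.ResidueField.map p (RingHom.ker σ) (algebraMap R S) hq) := by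
  have hP : (RingHom.ker σ).IsPrime := RingHom.ker_isPrime _
  have hq : p = (RingHom.ker σ).comap (algebraMap R S) := by
    ext r; simp [RingHom.mem_ker, algebraMap_residueField_eq_zero]
  refine ⟨hP, hq, RingHom.injective _, ?_⟩
  let L : (RingHom.ker σ).ResidueField →+* p.ResidueField :=
    Ideal.ResidueField.lift _ σ.toRingHom le_rfl fun s hs => IsUnit.mk0 _ hs
  intro y
  refine ⟨L y, L.injective ?_⟩
  have : L.comp (Ideal.ResidueField.map p (RingHom.ker σ) (algebraMap R S) hq) =
      RingHom.id _ := Ideal.ResidueField.ringHom_ext (RingHom.ext fun r => by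
    simp [L, Ideal.ResidueField.lift_algebraMap])
  exact RingHom.congr_fun this (L y)

/-- A prime over `p` with trivial residue field extension gives a point in `κ(p)`. -/
theorem exists_point {q : Ideal S} [q.IsPrime] (hq : p = q.comap (algebraMap R S))
    (hb : Function.Bijective (Ideal.ResidueField.map p q (algebraMap R S) hq)) :
    ∃ σ : S →ₐ[R] p.ResidueField, RingHom.ker σ = q := by
  let e := RingEquiv.ofBijective _ hb
  have he : ∀ r, e.symm (algebraMap R q.ResidueField r) = algebraMap R p.ResidueField r := fun r => by
    rw [RingEquiv.symm_apply_eq]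
    refine Eq.symm ((RingEquiv.ofBijective_apply _ hb _).trans ?_)
    rw [Ideal.ResidueField.map_algebraMap, ← IsScalarTower.algebraMap_apply]
  refine ⟨{ e.symm.toRingHom.comp (algebraMap S q.ResidueField) with
    commutes' := fun r => by
      show e.symm (algebraMap S q.ResidueField (algebraMap R S r)) = _
      rw [← IsScalarTower.algebraMap_apply, he] }, ?_⟩
  ext s
  rw [RingHom.mem_ker]
  show e.symm (algebraMap S q.ResidueField s) = 0 ↔ s ∈ q
  simp

/-- A point in `κ(p)` is determined by its kernel. -/
theorem point_ext {σ τ : S →ₐ[R] p.ResidueField} (h : RingHom.ker σ = RingHom.ker τ) : σ = τ := by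
  obtain ⟨hP, hq, hb⟩ := point_pair p σ
  let Lσ : (RingHom.ker σ).ResidueField →+* p.ResidueField :=
    Ideal.ResidueField.lift _ σ.toRingHom le_rfl fun s hs => IsUnit.mk0 _ hs
  let Lτ : (RingHom.ker σ).ResidueField →+* p.ResidueField :=
    Ideal.ResidueField.lift _ τ.toRingHom (h ▸ le_rfl) fun s hs => IsUnit.mk0 _ fun h0 =>
      hs (h ▸ h0)
  have hL : Lσ = Lτ := by
    refine RingHom.ext fun y => ?_
    obtain ⟨x, rfl⟩ := hb.2 y
    have : Lσ.comp (Ideal.ResidueField.map p (RingHom.ker σ) (algebraMap R S) hq) =
        Lτ.comp (Ideal.ResidueField.map p (RingHom.ker σ) (algebraMap R S) hq) :=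
      Ideal.ResidueField.ringHom_ext (RingHom.ext fun r => by
        simp [Lσ, Lτ, Ideal.ResidueField.lift_algebraMap])
    exact RingHom.congr_fun this x
  refine AlgHom.ext fun s => ?_
  have := RingHom.congr_fun hL (algebraMap S _ s)
  simpa [Lσ, Lτ, Ideal.ResidueField.lift_algebraMap] using this

end point

end Groth.Agent.Henz21
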