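import Groth.Prelude.Def_Hensel
import Groth.Agent.Henz21.LocalProps
import Mathlib.FieldTheory.IsAlgClosed.AlgebraicClosure
import Mathlib.FieldTheory.IsSepClosed

/-! The henselization and the strict henselization of a local ring. -/

universe u

open IsLocalRing Polynomial

noncomputable section

namespace Groth.Agent.Henz21

variable (R : Type u) [CommRing R] [IsLocalRing R]

/-- The henselization of a local ring. -/
abbrev Henselization : Type u := H R (ResidueField R)

/-- The strict henselization of a local ring. -/
abbrev StrictHenselization : Type u := H R (SeparableClosure (ResidueField R))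

instance isLocalHom_separableClosure :
    IsLocalHom (algebraMap R (SeparableClosure (ResidueField R))) := by
  rw [IsScalarTower.algebraMap_eq R (ResidueField R) (SeparableClosure (ResidueField R)),
    ResidueField.algebraMap_eq]
  exact RingHom.isLocalHom_comp _ _

instance isLocalHom_residueField : IsLocalHom (algebraMap R (ResidueField R)) := by
  rw [ResidueField.algebraMap_eq]; infer_instance

namespace Henselization

theorem proj_surjective : Function.Surjective (H.proj R (ResidueField R)) := fun x => by
  obtain ⟨r, rfl⟩ := residue_surjective x
  exact ⟨algebraMap R _ r, AlgHom.commutes _ r⟩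

instance isHenselization : Hensel.IsHenselization R (Henselization R) where
  henselian := inferInstance
  universal T _ _ f hf := by
    let _ : Algebra R T := f.toAlgebra
    let θ : Henselization R →ₐ[R] ResidueField T :=
      AlgHom.comp { (ResidueField.map f) with commutes' := fun r => rfl } (H.proj R _)
    obtain ⟨g, hg, hgu⟩ := H.existsUnique_lift θ
    refine ⟨g.toRingHom, g.comp_algebraMap, fun g' hg' => ?_⟩
    let g'' : Henselization R →ₐ[R] T := { g' with commutes' := RingHom.congr_fun hg' }
    refine congrArg AlgHom.toRingHom (hgu g'' ?_)
    refine AlgHom.ext fun x => ?_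
    obtain ⟨r, hr⟩ := residue_surjective (H.proj R (ResidueField R) x)
    have hd : x - algebraMap R _ r ∈ maximalIdeal (Henselization R) := by
      rw [H.maximalIdeal_eq, RingHom.mem_ker, map_sub, AlgHom.commutes, ← hr,
        ResidueField.algebraMap_eq, sub_self]
    rw [← H.map_maximalIdeal] at hd
    have h2 : g' (x - algebraMap R _ r) ∈ maximalIdeal T := by
      have := Ideal.mem_map_of_mem g' hd
      rw [Ideal.map_map, show g'.comp (algebraMap R (Henselization R)) = f from hg'] at this
      exact Ideal.map_le_iff_le_comap.mpr (((local_hom_TFAE f).out 0 3).mp hf) this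
    rw [map_sub, ← residue_eq_zero_iff, map_sub, sub_eq_zero,
      show g' (algebraMap R _ r) = f r from RingHom.congr_fun hg' r] at h2
    show residue T (g' x) = ResidueField.map f (H.proj R (ResidueField R) x)
    rw [h2, ← hr, ResidueField.map_residue]

end Henselization

namespace StrictHenselization

variable {R}

theorem proj_surjective :
    Function.Surjective (H.proj R (SeparableClosure (ResidueField R))) := fun α => by
  have hi : IsIntegral (ResidueField R) α := Algebra.IsIntegral.isIntegral α
  have hmon := minpoly.monic hi
  obtain ⟨p, hp, -, hpm⟩ := Polynomial.lifts_and_natDegree_eq_and_monic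
    (Polynomial.map_surjective (residue R) residue_surjective (minpoly (ResidueField R) α))
    hmon
  have hsep : (minpoly (ResidueField R) α).Separable := Algebra.IsSeparable.isSeparable _ α
  have h1 : ∀ q : R[X], q.eval₂ (algebraMap R (SeparableClosure (ResidueField R))) α =
      aeval α (q.map (residue R)) := fun q => by
    rw [aeval_def, eval₂_map, ← ResidueField.algebraMap_eq, ← IsScalarTower.algebraMap_eq]
  have hc : (H.proj R (SeparableClosure (ResidueField R))).toRingHom.comp
      (algebraMap R (StrictHenselization R)) = algebraMap R _ := AlgHom.comp_algebraMap _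
  obtain ⟨a, -, ha⟩ := H.exists_root (K := SeparableClosure (ResidueField R))
    (p.map (algebraMap R (StrictHenselization R))) (hpm.map _) α
    (by rw [eval₂_map, hc, h1, hp, minpoly.aeval])
    (by
      rw [derivative_map, eval₂_map, hc, h1, ← derivative_map, hp, isUnit_iff_ne_zero]
      exact hsep.aeval_derivative_ne_zero (minpoly.aeval _ _))
  exact ⟨a, ha⟩

variable (R)

/-- The residue field of the strict henselization is the separable closure. -/
def residueEquiv :
    ResidueField (StrictHenselization R) ≃ₐ[ResidueField R] SeparableClosure (ResidueField R) :=
  haveI : IsLocalHom (H.proj R (SeparableClosure (ResidueField R))).toRingHom :=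
    ⟨fun _ h => H.isUnit_of_isUnit_proj h⟩
  let φ : ResidueField (StrictHenselization R) →+* SeparableClosure (ResidueField R) :=
    ResidueField.lift (H.proj R _).toRingHom
  AlgEquiv.ofBijective
    { φ with
      commutes' := fun x => by
        obtain ⟨r, rfl⟩ := residue_surjective x
        show φ (residue _ (algebraMap R (StrictHenselization R) r)) = _
        exact (H.proj R (SeparableClosure (ResidueField R))).commutes r }
    ⟨φ.injective, fun y => by
      obtain ⟨x, hx⟩ := proj_surjective y
      exact ⟨residue _ x, hx⟩⟩

instance isStrictHenselization : Hensel.IsStrictHenselization R (StrictHenselization R) where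
  henselian := inferInstance
  isSepClosure := by
    refine ⟨?_, AlgEquiv.Algebra.isSeparable (residueEquiv R).symm⟩
    refine IsSepClosed.of_exists_root _ fun p hp hirr hsep => ?_
    let e : ResidueField (StrictHenselization R) →+* SeparableClosure (ResidueField R) :=
      (residueEquiv R).toRingEquiv.toRingHom
    obtain ⟨x, hx⟩ := IsSepClosed.exists_root (p.map e) (by
      rw [degree_map]; exact (degree_pos_of_irreducible hirr).ne') hsep.map
    refine ⟨(residueEquiv R).symm x, e.injective ?_⟩
    rw [map_zero, ← eval_map_apply]
    simpa [e] using hx
  universal T _ _ f _ τ hτ := by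
    let _ : Algebra R T := f.toAlgebra
    let θ : StrictHenselization R →ₐ[R] ResidueField T :=
      { τ.comp (residue _) with commutes' := fun r => RingHom.congr_fun hτ (residue R r) }
    obtain ⟨g, hg, hgu⟩ := H.existsUnique_lift θ
    refine ⟨g.toRingHom, ⟨g.comp_algebraMap, DFunLike.congr_fun hg⟩, ?_⟩
    rintro g' ⟨hg', hres⟩
    let g'' : StrictHenselization R →ₐ[R] T := { g' with commutes' := RingHom.congr_fun hg' }
    exact congrArg AlgHom.toRingHom (hgu g'' (AlgHom.ext hres))

end StrictHenselization

end Groth.Agent.Henz21
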