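import Groth.Agent.Henz21.FiniteLocal
import Groth.Agent.Hens22.Idempotents
import Mathlib.RingTheory.Artinian.Module
import Mathlib.RingTheory.Spectrum.Prime.Topology
import Mathlib.RingTheory.Spectrum.Prime.Noetherian
import Mathlib.RingTheory.Localization.AtPrime.Basic

/-! Localizations of integral algebras over henselian local rings at maximal ideals. -/

set_option autoImplicit false

universe u

open IsLocalRing

namespace Groth.Agent.Henz21

variable {A : Type u} [CommRing A] [HenselianLocalRing A] {E : Type u} [CommRing E] [Algebra A E]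

theorem exists_idempotent_isolating [Module.Finite A E] (Q : Ideal E) [Q.IsMaximal] :
    ∃ ε : E, IsIdempotentElem ε ∧ ε ∉ Q ∧ ∀ P : Ideal E, P.IsMaximal → ε ∉ P → P = Q := by
  have hover : ∀ P : Ideal E, P.IsMaximal → (maximalIdeal A).map (algebraMap A E) ≤ P :=
    fun P hP => Ideal.map_le_iff_le_comap.mpr
      (eq_maximalIdeal (Ideal.isMaximal_comap_of_isIntegral_of_isMaximal P)).ge
  set J := (maximalIdeal A).map (algebraMap A E)
  haveI : IsArtinianRing (E ⧸ J) := by
    have h : Submodule.FG (⊤ : Submodule A (E ⧸ J)) := Module.Finite.fg_top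
    haveI : Module.Finite (A ⧸ maximalIdeal A) (E ⧸ J) :=
      Module.Finite.of_restrictScalars_finite A _ _
    haveI : IsArtinianRing (A ⧸ maximalIdeal A) :=
      letI := Ideal.Quotient.field (maximalIdeal A)
      inferInstance
    exact IsArtinianRing.of_finite (A ⧸ maximalIdeal A) (E ⧸ J)
  have hQ' : (Q.map (Ideal.Quotient.mk J)).IsMaximal := by
    refine Ideal.IsMaximal.map_of_surjective_of_ker_le Ideal.Quotient.mk_surjective ?_
    rw [Ideal.mk_ker]; exact hover Q inferInstance
  let x : PrimeSpectrum (E ⧸ J) := ⟨Q.map (Ideal.Quotient.mk J), hQ'.isPrime⟩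
  obtain ⟨ē, hē, hbo⟩ := PrimeSpectrum.exists_idempotent_basicOpen_eq_of_isClopen
    (isClopen_discrete ({x} : Set (PrimeSpectrum (E ⧸ J))))
  obtain ⟨e, rfl⟩ := Ideal.Quotient.mk_surjective ē
  obtain ⟨ε, hε, hεe⟩ := Hens22.exists_idempotent_lift (maximalIdeal A) (e := e) (by
    rw [← Ideal.Quotient.eq, map_mul]; exact hē.eq)
  have key : ∀ (P : Ideal E) [P.IsMaximal], ε ∉ P ↔ P = Q := by
    intro P _
    have hP := hover P inferInstance
    have hmax : (P.map (Ideal.Quotient.mk J)).IsMaximal :=
      Ideal.IsMaximal.map_of_surjective_of_ker_le Ideal.Quotient.mk_surjective (by rwa [Ideal.mk_ker])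
    have h1 : ε ∈ P ↔ e ∈ P := by
      have : ε - e ∈ P := hP hεe
      exact ⟨fun h => by simpa using P.sub_mem h this, fun h => by simpa using P.add_mem this h⟩
    have h2 : e ∈ P ↔ Ideal.Quotient.mk J e ∈ P.map (Ideal.Quotient.mk J) := by
      rw [← Ideal.mem_comap, Ideal.comap_map_quotientMk, sup_eq_right.mpr hP]
    have h3 : Ideal.Quotient.mk J e ∉ P.map (Ideal.Quotient.mk J) ↔
        (⟨P.map (Ideal.Quotient.mk J), hmax.isPrime⟩ : PrimeSpectrum (E ⧸ J)) = x := by
      rw [← Set.mem_singleton_iff, hbo]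
      rw [SetLike.mem_coe, PrimeSpectrum.mem_basicOpen]
    rw [h1, h2, h3]
    constructor
    · intro h
      have := congrArg (fun y => y.asIdeal.comap (Ideal.Quotient.mk J)) h
      simp only [x, Ideal.comap_map_quotientMk] at this
      rwa [sup_eq_right.mpr hP, sup_eq_right.mpr (hover Q inferInstance)] at this
    · rintro rfl
      rfl
  exact ⟨ε, hε, (key Q).mpr rfl, fun P hP => (key P).mp⟩

theorem exists_inverse_mod (Q : Ideal E) [Q.IsMaximal] [Algebra.IsIntegral A E] {e : E}
    (he : e ∉ Q) : ∃ y ε : E, ε ∉ Q ∧ ε * (e * y) = ε := by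
  let E0 := Algebra.adjoin A ({e} : Set E)
  haveI : Module.Finite A E0 :=
    ⟨(Submodule.fg_top _).mpr (Algebra.IsIntegral.isIntegral (R := A) e).fg_adjoin_singleton⟩
  haveI : (Q.comap E0.val.toRingHom).IsMaximal :=
    Ideal.isMaximal_comap_of_isIntegral_of_isMaximal' E0.val.toRingHom
      (RingHom.IsIntegral.tower_top (algebraMap A E0) E0.val.toRingHom (by
        intro x
        exact Algebra.IsIntegral.isIntegral x)) Q
  obtain ⟨ε, hε, hεQ, huniq⟩ := exists_idempotent_isolating (A := A) (Q.comap E0.val.toRingHom)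
  let I : Ideal E0 := Ideal.span {1 - ε, ⟨e, Algebra.self_mem_adjoin_singleton A e⟩}
  have hI : I = ⊤ := by
    by_contra hne
    obtain ⟨P, hP, hle⟩ := Ideal.exists_le_maximal I hne
    have h1 : 1 - ε ∈ P := hle (Ideal.subset_span (by simp))
    have h2 : ε ∉ P := fun h => hP.ne_top ((Ideal.eq_top_iff_one _).mpr (by simpa using P.add_mem h1 h))
    have := huniq P hP h2
    subst this
    exact he (hle (Ideal.subset_span (Set.mem_insert_of_mem _ rfl)))
  obtain ⟨a, b, hab⟩ := Ideal.mem_span_pair.mp ((Ideal.eq_top_iff_one I).mp hI)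
  refine ⟨b, ε, hεQ, ?_⟩
  have h1 : ε * (1 - ε) = 0 := by rw [mul_sub, mul_one, hε.eq, sub_self]
  have h2 : ε * ((⟨e, Algebra.self_mem_adjoin_singleton A e⟩ : E0) * b) = ε := by
    linear_combination ε * hab - a * h1
  exact congrArg Subtype.val h2

/-- The localization of an integral algebra over a henselian local ring at a maximal ideal is a
quotient of the algebra. -/
theorem algebraMap_localization_surjective (Q : Ideal E) [Q.IsMaximal] [Algebra.IsIntegral A E] :
    Function.Surjective (algebraMap E (Localization.AtPrime Q)) := by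
  intro z
  obtain ⟨a, ⟨s, hs⟩, rfl⟩ := IsLocalization.exists_mk'_eq Q.primeCompl z
  obtain ⟨y, ε, hε, hy⟩ := exists_inverse_mod (A := A) Q hs
  refine ⟨a * y, (IsLocalization.eq_mk'_iff_mul_eq).mpr ?_⟩
  rw [← map_mul]
  exact (IsLocalization.eq_iff_exists Q.primeCompl _).mpr ⟨⟨ε, hε⟩, by
    show ε * (a * y * s) = ε * a
    linear_combination a * hy⟩

theorem henselianLocalRing_localization_of_isIntegral (Q : Ideal E) [Q.IsMaximal]
    [Algebra.IsIntegral A E] :
    HenselianLocalRing (Localization.AtPrime Q) ∧ Algebra.IsIntegral A (Localization.AtPrime Q) := by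
  haveI : Algebra.IsIntegral A (Localization.AtPrime Q) :=
    Algebra.IsIntegral.of_surjective (IsScalarTower.toAlgHom A E (Localization.AtPrime Q))
      (algebraMap_localization_surjective (A := A) Q)
  exact ⟨henselianLocalRing_of_isIntegral (A := A), inferInstance⟩

end Groth.Agent.Henz21
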