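import Groth.Agent.E4O.UnibranchPoly
import Groth.Agent.E4O.LocalFinite
import Groth.Agent.Desc59.SmoothRing
import Groth.Agent.EtAlg23.HenselBasic
import Mathlib.RingTheory.Smooth.Flat
import Mathlib.FieldTheory.PurelyInseparable.Basic
import Mathlib.RingTheory.Localization.Integral
import Mathlib.RingTheory.IntegralClosure.IntegrallyClosed
import Mathlib.Algebra.CharP.Lemmas

/-! Smooth algebras over strictly henselian domains are geometrically unibranch. -/

set_option autoImplicit false
set_option linter.style.haveILetI false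

universe u

open IsLocalRing TensorProduct

noncomputable section

namespace Groth.Agent.Henz21.SmoothUnib

section normalization

variable (R : Type u) [CommRing R] [IsDomain R]

/-- The normalization. -/
abbrev N : Type u := integralClosure R (FractionRing R)

theorem injective_N : Function.Injective (algebraMap R (N R)) := fun a b h =>
  IsFractionRing.injective R (FractionRing R) (congrArg Subtype.val h)

theorem isIntegrallyClosed_N : IsIntegrallyClosed (N R) := by
  haveI : Algebra.IsAlgebraic R (FractionRing R) :=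
    (IsFractionRing.comap_isAlgebraic_iff (A := R) (K := FractionRing R)).mpr inferInstance
  haveI : IsFractionRing (N R) (FractionRing R) :=
    integralClosure.isFractionRing_of_algebraic fun x hx => IsFractionRing.to_map_eq_zero_iff.mp hx
  exact (isIntegrallyClosed_iff (FractionRing R)).mpr
    fun {x} hx => ⟨⟨x, isIntegral_trans x hx⟩, rfl⟩

theorem isLocalRing_of_integral_henselian [HenselianLocalRing R] (B : Type u) [CommRing B]
    [IsDomain B] [Algebra R B] [Algebra.IsIntegral R B] : IsLocalRing B := by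
  haveI : HenselianRing R (maximalIdeal R) := inferInstance
  obtain ⟨M, hM⟩ := Ideal.exists_maximal B
  refine IsLocalRing.of_unique_max_ideal ⟨M, hM, fun M' hM' => ?_⟩
  by_contra hne
  obtain ⟨x, hxM, hxM'⟩ := SetLike.not_le_iff_exists.mp fun hle => hne (hM'.eq_of_le hM.ne_top hle)
  let D := Algebra.adjoin R ({x} : Set B)
  haveI : Module.Finite R D :=
    ⟨(Submodule.fg_top _).mpr (Algebra.IsIntegral.isIntegral (R := R) x).fg_adjoin_singleton⟩
  haveI : IsLocalRing D := E4O.isLocalRing_of_finite_henselian (A := R)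
  haveI : Algebra.IsIntegral D B := Algebra.IsIntegral.tower_top R
  have h1 : (M.comap (algebraMap D B)).IsMaximal := Ideal.isMaximal_comap_of_isIntegral_of_isMaximal M
  have h2 : (M'.comap (algebraMap D B)).IsMaximal := Ideal.isMaximal_comap_of_isIntegral_of_isMaximal M'
  have h3 := (eq_maximalIdeal h1).trans (eq_maximalIdeal h2).symm
  exact hxM' (show (⟨x, Algebra.self_mem_adjoin_singleton R x⟩ : D) ∈ M.comap (algebraMap D B) from
    h3.symm ▸ hxM)

end normalization

variable (R R' : Type u) [CommRing R] [IsDomain R] [HenselianLocalRing R]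
  [IsSepClosed (ResidueField R)] [CommRing R'] [Algebra R R'] [Algebra.Smooth R R']
  (M₀ : Type u) [CommRing M₀] [IsDomain M₀] [Algebra R M₀] [Algebra.IsIntegral R M₀]

/-- The normal model. -/
abbrev T : Type u := M₀ ⊗[R] R'

theorem isUnit_one_tmul_integral (z : T R R' M₀) :
    ((Algebra.TensorProduct.includeRight : R' →ₐ[R] T R R' M₀).toRingHom).IsIntegralElem z := by
  let _ : Algebra R' (T R R' M₀) := (Algebra.TensorProduct.includeRight : R' →ₐ[R] T R R' M₀).toRingHom.toAlgebra
  haveI : IsScalarTower R R' (T R R' M₀) := IsScalarTower.of_algebraMap_eq fun r =>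
    ((Algebra.TensorProduct.includeRight : R' →ₐ[R] T R R' M₀).commutes r).symm
  show IsIntegral R' z
  induction z using TensorProduct.induction_on with
  | zero => exact isIntegral_zero
  | tmul a b =>
    have h : IsIntegral R (a ⊗ₜ[R] (1 : R') : T R R' M₀) :=
      (Algebra.IsIntegral.isIntegral (R := R) a).map
        (Algebra.TensorProduct.includeLeft : M₀ →ₐ[R] T R R' M₀)
    have h2 : (a ⊗ₜ b : T R R' M₀) = (a ⊗ₜ 1) * algebraMap R' (T R R' M₀) b := by
      show _ = (a ⊗ₜ 1) * ((1 : M₀) ⊗ₜ b)
      simp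
    rw [h2]
    exact IsIntegral.mul (A := T R R' M₀) (IsIntegral.tower_top (B := T R R' M₀) h) isIntegral_algebraMap
  | add x y hx hy => exact IsIntegral.add (A := T R R' M₀) hx hy

theorem exists_smul_mem_range (hbir : ∀ n : M₀, ∃ a b : R, b ≠ 0 ∧ b • n = algebraMap R M₀ a)
    (z : T R R' M₀) :
    ∃ a : R, a ≠ 0 ∧ ∃ r : R', a • z = (1 : M₀) ⊗ₜ[R] r := by
  induction z using TensorProduct.induction_on with
  | zero => exact ⟨1, one_ne_zero, 0, by simp⟩
  | tmul n b =>
    obtain ⟨u, v, hv, huv⟩ := hbir n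
    refine ⟨v, hv, u • b, ?_⟩
    rw [TensorProduct.smul_tmul', huv, Algebra.algebraMap_eq_smul_one, TensorProduct.smul_tmul]
  | add x y hx hy =>
    obtain ⟨a, ha, r, hr⟩ := hx
    obtain ⟨c, hc, s, hs⟩ := hy
    refine ⟨a * c, mul_ne_zero ha hc, c • r + a • s, ?_⟩
    rw [smul_add, TensorProduct.tmul_add, TensorProduct.tmul_smul, TensorProduct.tmul_smul, ← hr, ← hs,
      smul_smul, smul_smul, mul_comm c a]

variable [IsLocalRing M₀]

/-- The ideal above the closed point. -/
abbrev J : Ideal (T R R' M₀) :=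
  (maximalIdeal M₀).map (Algebra.TensorProduct.includeLeft : M₀ →ₐ[R] T R R' M₀).toRingHom

/-- The radicial property. -/
theorem exists_pow_eq (hinj : Function.Injective (algebraMap R M₀)) (z : T R R' M₀) :
    ∃ n : ℕ, ∀ k ≥ n, ∃ r : R',
      z ^ ringExpChar (ResidueField R) ^ k - (1 : M₀) ⊗ₜ[R] r ∈ J R R' M₀ := by
  set q := ringExpChar (ResidueField R) with hq
  haveI : ExpChar (ResidueField R) q := inferInstance
  haveI : IsLocalHom (algebraMap R M₀) :=
    ((algebraMap_isIntegral_iff.mpr inferInstance).isLocalHom hinj)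
  haveI : Algebra.IsAlgebraic (ResidueField R) (ResidueField M₀) := by
    refine ⟨fun x => IsIntegral.isAlgebraic ?_⟩
    obtain ⟨a, rfl⟩ := residue_surjective x
    exact ((Algebra.IsIntegral.isIntegral (R := R) a).map
      (IsScalarTower.toAlgHom R M₀ (ResidueField M₀))).tower_top
  suffices h : ∃ n : ℕ, ∃ r : R', z ^ q ^ n - (1 : M₀) ⊗ₜ[R] r ∈ J R R' M₀ by
    obtain ⟨n, r, hr⟩ := h
    refine ⟨n, fun k hk => ⟨r ^ q ^ (k - n), ?_⟩⟩
    obtain ⟨j, rfl⟩ := Nat.exists_eq_add_of_le hk
    rw [Nat.add_sub_cancel_left, pow_add, pow_mul,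
      show ((1 : M₀) ⊗ₜ[R] (r ^ q ^ j) : T R R' M₀) = ((1 : M₀) ⊗ₜ[R] r) ^ q ^ j by
        rw [Algebra.TensorProduct.tmul_pow, one_pow]]
    exact Ideal.mem_of_dvd (J R R' M₀) (sub_dvd_pow_sub_pow (R := T R R' M₀) _ _ _) hr
  have hfrob : ∀ (x y : T R R' M₀) (n : ℕ), (x + y) ^ q ^ n - (x ^ q ^ n + y ^ q ^ n) ∈ J R R' M₀ := by
    intro x y n
    have key : ∀ (e : ℕ), ExpChar (ResidueField R) e → e = 1 ∨ (e.Prime ∧ (e : ResidueField R) = 0) :=
      fun e he => by
        cases he with
        | zero => exact Or.inl rfl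
        | prime hp => exact Or.inr ⟨hp, CharP.cast_eq_zero _ e⟩
    rcases key q inferInstance with h1 | ⟨hp, hq0⟩
    · simp [h1]
    · obtain ⟨c, hc⟩ := exists_add_pow_prime_pow_eq hp x y n
      have hqR : (q : R) ∈ maximalIdeal R := by
        rw [← residue_eq_zero_iff, map_natCast]; exact hq0
      have hqJ : ((q : ℕ) : T R R' M₀) ∈ J R R' M₀ := by
        have h1 : algebraMap R M₀ (q : R) ∈ maximalIdeal M₀ :=
          IsLocalRing.map_maximalIdeal_le (algebraMap R M₀) (Ideal.mem_map_of_mem _ hqR)
        rw [map_natCast] at h1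
        have h2 := Ideal.mem_map_of_mem (Algebra.TensorProduct.includeLeft : M₀ →ₐ[R] T R R' M₀).toRingHom h1
        rwa [map_natCast] at h2
      rw [hc, show ∀ a b : T R R' M₀, a + b - a = b from fun a b => add_sub_cancel_left a b]
      exact Ideal.mul_mem_right _ _ (Ideal.mul_mem_right _ _ (Ideal.mul_mem_right _ _ hqJ))
  induction z using TensorProduct.induction_on with
  | zero => exact ⟨0, 0, by simp⟩
  | tmul a b =>
    obtain ⟨n, y, hy⟩ := IsPurelyInseparable.pow_mem (ResidueField R) q (residue M₀ a)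
    obtain ⟨r₀, rfl⟩ := residue_surjective y
    refine ⟨n, r₀ • b ^ q ^ n, ?_⟩
    have h1 : a ^ q ^ n - algebraMap R M₀ r₀ ∈ maximalIdeal M₀ := by
      rw [← residue_eq_zero_iff, map_sub, map_pow, ← hy]
      exact sub_eq_zero.mpr rfl
    have h2 := (J R R' M₀).mul_mem_right ((1 : M₀) ⊗ₜ[R] (b ^ q ^ n))
      (Ideal.mem_map_of_mem (Algebra.TensorProduct.includeLeft : M₀ →ₐ[R] T R R' M₀).toRingHom h1)
    convert h2 using 1
    show _ = ((a ^ q ^ n - algebraMap R M₀ r₀) ⊗ₜ[R] (1 : R')) * _
    rw [Algebra.TensorProduct.tmul_mul_tmul, one_mul, mul_one, TensorProduct.sub_tmul,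
      Algebra.TensorProduct.tmul_pow, Algebra.algebraMap_eq_smul_one, TensorProduct.smul_tmul]
  | add x y hx hy =>
    obtain ⟨n, r, hr⟩ := hx
    obtain ⟨m, s, hs⟩ := hy
    refine ⟨n + m, r ^ q ^ m + s ^ q ^ n, ?_⟩
    have h1 := Ideal.mem_of_dvd (J R R' M₀) (sub_dvd_pow_sub_pow (R := T R R' M₀) _ _ (q ^ m)) hr
    have h2 := Ideal.mem_of_dvd (J R R' M₀) (sub_dvd_pow_sub_pow (R := T R R' M₀) _ _ (q ^ n)) hs
    rw [← pow_mul, ← pow_add, Algebra.TensorProduct.tmul_pow, one_pow] at h1 h2
    rw [add_comm m n] at h2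
    rw [TensorProduct.tmul_add]
    convert add_mem (hfrob x y (n + m)) (add_mem h1 h2) using 1
    ring

variable (p : Ideal R') [p.IsPrime]

theorem J_le (hp : (maximalIdeal R).map (algebraMap R R') ≤ p) {P : Ideal (T R R' M₀)} [P.IsPrime]
    (hP : P.comap (Algebra.TensorProduct.includeRight : R' →ₐ[R] T R R' M₀).toRingHom = p) :
    J R R' M₀ ≤ P := by
  rw [Ideal.map_le_iff_le_comap]
  set Q := P.comap (Algebra.TensorProduct.includeLeft : M₀ →ₐ[R] T R R' M₀).toRingHom
  have hle : maximalIdeal R ≤ Q.comap (algebraMap R M₀) := fun r hr => by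
    have h1 : algebraMap R R' r ∈ p := hp (Ideal.mem_map_of_mem _ hr)
    rw [← hP, Ideal.mem_comap] at h1
    show (Algebra.TensorProduct.includeLeft : M₀ →ₐ[R] T R R' M₀) (algebraMap R M₀ r) ∈ P
    rw [AlgHom.commutes, ← (Algebra.TensorProduct.includeRight : R' →ₐ[R] T R R' M₀).commutes r]
    exact h1
  haveI hQ : Q.IsPrime := Ideal.comap_isPrime _ _
  haveI : (Q.comap (algebraMap R M₀)).IsMaximal :=
    (maximalIdeal.isMaximal R).eq_of_le (Ideal.IsPrime.ne_top inferInstance) hle ▸ inferInstance
  exact (eq_maximalIdeal (Ideal.isMaximal_of_isIntegral_of_isMaximal_comap Q this)).ge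

theorem eq_of_comap_eq (hinj : Function.Injective (algebraMap R M₀)) (hp : (maximalIdeal R).map (algebraMap R R') ≤ p) {P P' : Ideal (T R R' M₀)}
    [P.IsPrime] [P'.IsPrime]
    (hP : P.comap (Algebra.TensorProduct.includeRight : R' →ₐ[R] T R R' M₀).toRingHom = p)
    (hP' : P'.comap (Algebra.TensorProduct.includeRight : R' →ₐ[R] T R R' M₀).toRingHom = p) :
    P = P' := by
  have key : ∀ P : Ideal (T R R' M₀), P.IsPrime →
      P.comap (Algebra.TensorProduct.includeRight : R' →ₐ[R] T R R' M₀).toRingHom = p → J R R' M₀ ≤ P :=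
    fun P _ hP => J_le R R' M₀ p hp hP
  ext z
  obtain ⟨n, hn⟩ := exists_pow_eq R R' M₀ hinj z
  obtain ⟨r, hr⟩ := hn n le_rfl
  have hq : ringExpChar (ResidueField R) ^ n ≠ 0 :=
    pow_ne_zero _ (expChar_ne_zero (ResidueField R) _)
  have h : ∀ P : Ideal (T R R' M₀), P.IsPrime →
      P.comap (Algebra.TensorProduct.includeRight : R' →ₐ[R] T R R' M₀).toRingHom = p → (z ∈ P ↔ r ∈ p) := by
    intro P hPp hP
    rw [← hP, Ideal.mem_comap, ← hPp.pow_mem_iff_mem _ (Nat.pos_of_ne_zero hq)]
    constructor
    · intro h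
      have h' := P.sub_mem h (key P hPp hP hr)
      rwa [sub_sub_cancel] at h'
    · intro h
      have h' := P.add_mem (key P hPp hP hr) h
      exact (sub_add_cancel (z ^ ringExpChar (ResidueField R) ^ n) ((1 : M₀) ⊗ₜ[R] r : T R R' M₀)) ▸ h'
  rw [h P ‹_› hP, h P' ‹_› hP']

set_option maxHeartbeats 1000000 in
/-- The theorem. -/
theorem main_of_model [IsIntegrallyClosed M₀] (hinj : Function.Injective (algebraMap R M₀))
    (hbir : ∀ n : M₀, ∃ a b : R, b ≠ 0 ∧ b • n = algebraMap R M₀ a)
    (hp : (maximalIdeal R).map (algebraMap R R') ≤ p) :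
    IsDomain (Localization.AtPrime p) ∧ CAlg2.IsGeomUnibranch (Localization.AtPrime p) := by
  classical
  let ι : R' →+* T R R' M₀ := (Algebra.TensorProduct.includeRight : R' →ₐ[R] T R R' M₀).toRingHom
  let _ : Algebra R' (T R R' M₀) := ι.toAlgebra
  haveI : Algebra.IsIntegral R' (T R R' M₀) := ⟨isUnit_one_tmul_integral R R' M₀⟩
  have hι : Function.Injective ι :=
    Algebra.TensorProduct.includeRight_injective hinj
  let S := Algebra.algebraMapSubmonoid (T R R' M₀) p.primeCompl
  let C := Localization S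
  let φ : Localization.AtPrime p →+* C :=
    IsLocalization.map C (algebraMap R' (T R R' M₀))
      (show p.primeCompl ≤ S.comap _ from p.primeCompl.le_comap_map)
  have hφi : φ.IsIntegral :=
    isIntegral_localization (R := R') (S := T R R' M₀) (M := p.primeCompl) (Rₘ := Localization.AtPrime p) (Sₘ := C)
  haveI : IsLocalization (Submonoid.map ι p.primeCompl) C := (inferInstance : IsLocalization S C)
  have hφinj : Function.Injective φ :=
    IsLocalization.map_injective_of_injective (M := p.primeCompl) (S := Localization.AtPrime p) C hι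
  -- the unique prime over `p`
  obtain ⟨P, hPp, hP⟩ : ∃ P : Ideal (T R R' M₀), P.IsPrime ∧ P.comap ι = p := by
    obtain ⟨P, hP⟩ := (algebraMap_isIntegral_iff.mpr ‹_›).comap_surjective hι ⟨p, inferInstance⟩
    exact ⟨P.asIdeal, P.isPrime, congrArg PrimeSpectrum.asIdeal hP⟩
  have hmax : ∀ M : Ideal C, M.IsMaximal → M.comap (algebraMap (T R R' M₀) C) = P := by
    intro M hM
    haveI := hM
    have h1 : (M.comap φ).IsMaximal := Ideal.isMaximal_comap_of_isIntegral_of_isMaximal' φ hφi M
    have h2 := congrArg (Ideal.comap (algebraMap R' (Localization.AtPrime p))) (eq_maximalIdeal h1)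
    rw [Ideal.comap_comap, show φ.comp (algebraMap R' (Localization.AtPrime p)) =
      (algebraMap (T R R' M₀) C).comp ι from IsLocalization.map_comp _, ← Ideal.comap_comap] at h2
    exact eq_of_comap_eq R R' M₀ p hinj hp
      (h2.trans (IsLocalization.AtPrime.under_maximalIdeal (Localization.AtPrime p) p)) hP
  haveI : Nontrivial C := hφinj.nontrivial
  haveI : IsLocalRing C := by
    obtain ⟨M, hM⟩ := Ideal.exists_maximal C
    exact IsLocalRing.of_unique_max_ideal ⟨M, hM, fun M' hM' => by
      rw [← IsLocalization.map_under S C M', ← IsLocalization.map_under S C M,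
        show M'.under (T R R' M₀) = P from hmax M' hM', show M.under (T R R' M₀) = P from hmax M hM]⟩
  haveI hCP : IsLocalization P.primeCompl C :=
    IsLocalization.of_le S P.primeCompl
      (by
        rintro _ ⟨r, hr, rfl⟩ hrP
        exact hr (hP ▸ hrP))
      fun z hz => by
        by_contra hu
        obtain ⟨M, hM, hzM⟩ := exists_max_ideal_of_mem_nonunits hu
        exact hz (hmax M hM ▸ hzM)
  -- normality
  haveI : IsDomain (Localization.AtPrime (P.under M₀)) := inferInstance
  haveI : IsIntegrallyClosed (Localization.AtPrime (P.under M₀)) :=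
    isIntegrallyClosed_of_isLocalization _ (P.under M₀).primeCompl
      (Ideal.primeCompl_le_nonZeroDivisors _)
  obtain ⟨h1, h2⟩ := (Desc59.SmoothRing.normal_iff M₀ (T R R' M₀) P).mpr ⟨inferInstance, inferInstance⟩
  let e : Localization.AtPrime P ≃ₐ[T R R' M₀] C := IsLocalization.algEquiv P.primeCompl _ _
  haveI : IsDomain C := e.toRingEquiv.symm.toMulEquiv.isDomain (Localization.AtPrime P)
  haveI : IsIntegrallyClosed C := IsIntegrallyClosed.of_equiv e.toRingEquiv
  haveI : IsDomain (Localization.AtPrime p) := hφinj.isDomain φ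
  refine ⟨inferInstance, E4O.isGeomUnibranch_of_model (RingHom.id _) Function.surjective_id
    (by rw [(RingHom.injective_iff_ker_eq_bot (RingHom.id (Localization.AtPrime p))).mp
      Function.injective_id]; exact bot_le) φ hφinj hφi
    (fun c => ?_) (fun c => ?_)⟩
  · obtain ⟨z, ⟨_, s, hs, rfl⟩, rfl⟩ := IsLocalization.exists_mk'_eq S c
    obtain ⟨a, ha, r, hr⟩ := exists_smul_mem_range R R' M₀ hbir z
    haveI : IsLocalHom (algebraMap R (Localization.AtPrime p)) := ⟨fun x hx => by
      by_contra hx'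
      rw [IsScalarTower.algebraMap_apply R R' (Localization.AtPrime p)] at hx
      exact (IsLocalization.AtPrime.to_map_mem_maximal_iff (Localization.AtPrime p) p _).mpr
        (hp (Ideal.mem_map_of_mem _ ((mem_maximalIdeal x).mpr hx'))) hx⟩
    haveI : Module.Flat R (Localization.AtPrime p) := Module.Flat.trans R R' _
    haveI : Module.FaithfullyFlat R (Localization.AtPrime p) :=
      Module.FaithfullyFlat.of_flat_of_isLocalHom
    refine ⟨algebraMap R' _ r, algebraMap R' _ (s * algebraMap R R' a), ?_, ?_⟩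
    · rw [map_mul]
      refine mul_ne_zero (IsLocalization.map_units (Localization.AtPrime p) ⟨s, hs⟩).ne_zero fun h => ha ?_
      rw [← IsScalarTower.algebraMap_apply] at h
      exact (map_eq_zero_iff _ (FaithfulSMul.algebraMap_injective R (Localization.AtPrime p))).mp h
    · simp only [φ, IsLocalization.map_eq, map_mul]
      rw [← mul_assoc, IsLocalization.mk'_spec, ← map_mul]
      congr 1
      show z * ι (algebraMap R R' a) = ι r
      rw [show ι r = (1 : M₀) ⊗ₜ[R] r from rfl, ← hr,
        show ι (algebraMap R R' a) = algebraMap R (T R R' M₀) a from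
          (Algebra.TensorProduct.includeRight : R' →ₐ[R] T R R' M₀).commutes a, Algebra.smul_def, mul_comm]
  · obtain ⟨z, ⟨_, s, hs, rfl⟩, rfl⟩ := IsLocalization.exists_mk'_eq S c
    obtain ⟨n, hn⟩ := exists_pow_eq R R' M₀ hinj z
    obtain ⟨r, hr⟩ := hn n le_rfl
    set q := ringExpChar (ResidueField R)
    have hqC : ringExpChar (ResidueField C) = q := by
      haveI : IsLocalHom φ := hφi.isLocalHom hφinj
      haveI : IsLocalHom (algebraMap R (Localization.AtPrime p)) := ⟨fun x hx => by
        by_contra hx'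
        rw [IsScalarTower.algebraMap_apply R R' (Localization.AtPrime p)] at hx
        exact (IsLocalization.AtPrime.to_map_mem_maximal_iff (Localization.AtPrime p) p _).mpr
          (hp (Ideal.mem_map_of_mem _ ((mem_maximalIdeal x).mpr hx'))) hx⟩
      let χ : ResidueField R →+* ResidueField C :=
        (ResidueField.map φ).comp (ResidueField.map (algebraMap R (Localization.AtPrime p)))
      haveI : ExpChar (ResidueField C) q := expChar_of_injective_ringHom χ.injective q
      exact ringExpChar.eq _ _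
    refine ⟨n, IsLocalization.mk' _ r (⟨s ^ q ^ n, pow_mem hs _⟩ : p.primeCompl), ?_⟩
    rw [hqC, ← IsLocalization.mk'_pow]
    simp only [φ, IsLocalization.map_mk']
    have hrC : algebraMap (T R R' M₀) C (z ^ q ^ n - ι r) ∈ maximalIdeal C := by
      have hJP : J R R' M₀ ≤ P := J_le R R' M₀ p hp hP
      rw [IsLocalization.AtPrime.to_map_mem_maximal_iff C P]
      exact hJP hr
    have hmk : ∀ (w : T R R' M₀) (d : S), algebraMap (T R R' M₀) C w ∈ maximalIdeal C →
        IsLocalization.mk' C w d ∈ maximalIdeal C := fun w d hw => by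
      rw [IsLocalization.mk'_eq_mul_mk'_one]
      exact Ideal.mul_mem_right _ _ hw
    have := hmk _ (⟨algebraMap R' (T R R' M₀) (s ^ q ^ n), s ^ q ^ n, pow_mem hs _, rfl⟩ : S) hrC
    convert this using 1
    rw [show ∀ (a b : T R R' M₀) (d : S), IsLocalization.mk' C (a - b) d =
      IsLocalization.mk' C a d - IsLocalization.mk' C b d from fun a b d => by
        rw [IsLocalization.mk'_eq_mul_mk'_one, IsLocalization.mk'_eq_mul_mk'_one a,
          IsLocalization.mk'_eq_mul_mk'_one b, map_sub, sub_mul]]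
    congr 2
    exact Subtype.ext (map_pow _ _ _).symm

omit [IsDomain M₀] [IsLocalRing M₀] [Algebra.IsIntegral R M₀] in
theorem main (hp : (maximalIdeal R).map (algebraMap R R') ≤ p) :
    IsDomain (Localization.AtPrime p) ∧ CAlg2.IsGeomUnibranch (Localization.AtPrime p) := by
  haveI := isIntegrallyClosed_N R
  haveI : IsLocalRing (N R) := isLocalRing_of_integral_henselian R (N R)
  refine main_of_model R R' (N R) p (injective_N R) (fun n => ?_) hp
  obtain ⟨u, v, hv, huv⟩ := IsFractionRing.div_surjective (A := R) (n : FractionRing R)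
  refine ⟨u, v, nonZeroDivisors.ne_zero hv, Subtype.ext ?_⟩
  show v • (n : FractionRing R) = algebraMap R (FractionRing R) u
  rw [← huv, Algebra.smul_def, mul_div_cancel₀ _
    (IsFractionRing.to_map_ne_zero_of_mem_nonZeroDivisors hv)]

end Groth.Agent.Henz21.SmoothUnib
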