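import Mathlib.RingTheory.Etale.StandardEtale
import Mathlib.RingTheory.LocalRing.ResidueField.Basic
import Mathlib.RingTheory.IntegralClosure.IntegrallyClosed
import Mathlib.RingTheory.Ideal.GoingUp
import Mathlib.FieldTheory.PrimitiveElement

/-! Finite separable extensions of the residue field of a local ring lift to finite etale local
algebras. -/

universe u

open IsLocalRing Polynomial

noncomputable section

namespace Groth.Agent.Henz21

variable {A : Type u} [CommRing A] [IsLocalRing A]

theorem exists_finite_etale_local_lift (l : Type u) [Field l] [Algebra (ResidueField A) l]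
    [FiniteDimensional (ResidueField A) l] [Algebra.IsSeparable (ResidueField A) l] :
    ∃ (E : Type u) (_ : CommRing E) (_ : IsLocalRing E) (_ : Algebra A E)
      (_ : IsLocalHom (algebraMap A E)),
      Module.Finite A E ∧ Algebra.Etale A E ∧
        Nonempty (ResidueField E ≃ₐ[ResidueField A] l) := by
  obtain ⟨α, hα⟩ := Field.exists_primitive_element (ResidueField A) l
  let _ : Algebra A l := ((algebraMap (ResidueField A) l).comp (residue A)).toAlgebra
  have hi : IsIntegral (ResidueField A) α := Algebra.IsIntegral.isIntegral α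
  obtain ⟨f, hf, -, hfm⟩ := Polynomial.lifts_and_natDegree_eq_and_monic
    (Polynomial.map_surjective (residue A) residue_surjective (minpoly (ResidueField A) α))
    (minpoly.monic hi)
  have hev : ∀ g : A[X], aeval α g = aeval α (g.map (residue A)) := fun g => by
    rw [aeval_def, aeval_def, eval₂_map]; rfl
  let E := AdjoinRoot f
  let φ : E →ₐ[A] l := AdjoinRoot.liftAlgHom f (Algebra.ofId A l) α
    (by rw [show eval₂ (Algebra.ofId A l : A →+* l) α f = aeval α f from rfl, hev, hf, minpoly.aeval])
  have hφ : ∀ g, φ (AdjoinRoot.mk f g) = aeval α g := fun g => by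
    rw [AdjoinRoot.liftAlgHom_mk]; rfl
  have hsurj : Function.Surjective φ := fun y => by
    have hy : y ∈ Algebra.adjoin (ResidueField A) {α} := by
      rw [← IntermediateField.adjoin_simple_toSubalgebra_of_isAlgebraic hi.isAlgebraic, hα]
      trivial
    obtain ⟨p, hp⟩ := Algebra.adjoin_singleton_eq_range_aeval (ResidueField A) α ▸ hy
    obtain ⟨g, rfl⟩ := Polynomial.map_surjective (residue A) residue_surjective p
    exact ⟨AdjoinRoot.mk f g, (hφ g).trans ((hev g).trans hp)⟩
  have hker : RingHom.ker φ ≤ (maximalIdeal A).map (algebraMap A E) := fun x hx => by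
    obtain ⟨g, rfl⟩ := AdjoinRoot.mk_surjective x
    rw [RingHom.mem_ker, hφ, hev] at hx
    obtain ⟨h, hh⟩ := minpoly.dvd _ _ hx
    obtain ⟨h, rfl⟩ := Polynomial.map_surjective (residue A) residue_surjective h
    have : g - f * h ∈ RingHom.ker (mapRingHom (residue A)) := by
      simp [RingHom.mem_ker, hf, hh]
    rw [Polynomial.ker_mapRingHom, ker_residue] at this
    have h2 := Ideal.mem_map_of_mem (AdjoinRoot.mk f) this
    rw [Ideal.map_map, map_sub, map_mul, AdjoinRoot.mk_self, zero_mul, sub_zero] at h2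
    exact h2
  have : Module.Finite A E := hfm.finite_adjoinRoot
  have hmax : (RingHom.ker φ).IsMaximal := RingHom.ker_isMaximal_of_surjective φ hsurj
  have huniq : ∀ M : Ideal E, M.IsMaximal → M = RingHom.ker φ := fun M hM => by
    refine (hmax.eq_of_le hM.ne_top (hker.trans ?_)).symm
    rw [Ideal.map_le_iff_le_comap]
    exact (eq_maximalIdeal (Ideal.isMaximal_comap_of_isIntegral_of_isMaximal M)).ge
  have hloc : IsLocalRing E :=
    IsLocalRing.of_unique_max_ideal ⟨RingHom.ker φ, hmax, huniq⟩
  have hmaxE : maximalIdeal E = RingHom.ker φ := huniq _ inferInstance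
  have hlh : IsLocalHom (algebraMap A E) := ⟨fun a ha => by
    have h3 := ha.map φ
    rw [AlgHom.commutes] at h3
    exact isUnit_of_map_unit (residue A) a (isUnit_of_map_unit (algebraMap (ResidueField A) l) _ h3)⟩
  have hu : IsUnit (AdjoinRoot.mk f f.derivative) := by
    refine IsLocalRing.notMem_maximalIdeal.mp ?_
    rw [hmaxE, RingHom.mem_ker, hφ, hev, ← derivative_map, hf]
    exact (Algebra.IsSeparable.isSeparable (ResidueField A) α).aeval_derivative_ne_zero
      (minpoly.aeval _ _)
  obtain ⟨p₁, hp₁⟩ := AdjoinRoot.mk_surjective (↑hu.unit⁻¹ : E)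
  obtain ⟨c, hc⟩ : f ∣ derivative f * p₁ - 1 := by
    rw [← AdjoinRoot.mk_eq_zero, map_sub, map_mul, map_one, hp₁, IsUnit.mul_val_inv, sub_self]
  let P : StandardEtalePair A := ⟨f, hfm, 1, p₁, -c, 1, by linear_combination hc⟩
  have hr : P.HasMap (AdjoinRoot.root f) := ⟨by simp [P, AdjoinRoot.aeval_eq], by simp [P]⟩
  have hX : aeval P.X f = 0 := (StandardEtalePair.hasMap_X (P := P)).1
  let g : E →ₐ[A] P.Ring := AdjoinRoot.liftAlgHom f (Algebra.ofId A P.Ring) P.X hX
  have hg : g (AdjoinRoot.root f) = P.X :=
    AdjoinRoot.liftAlgHom_root (p := f) (Algebra.ofId A P.Ring) P.X hX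
  have hl : P.lift _ hr P.X = AdjoinRoot.root f := P.lift_X _ hr
  let e : P.Ring ≃ₐ[A] E := AlgEquiv.ofAlgHom (P.lift _ hr) g
    (AdjoinRoot.algHom_ext ((congrArg (P.lift _ hr) hg).trans hl))
    (P.hom_ext ((congrArg g hl).trans hg))
  have het : Algebra.Etale A E := Algebra.Etale.of_equiv e
  haveI : IsLocalHom φ.toRingHom := ⟨fun x hx => by
    refine IsLocalRing.notMem_maximalIdeal.mp ?_
    rw [hmaxE]
    exact hx.ne_zero⟩
  let ψ : ResidueField E →ₐ[ResidueField A] l :=
    { ResidueField.lift φ.toRingHom with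
      commutes' := fun x => by
        obtain ⟨a, rfl⟩ := residue_surjective x
        show ResidueField.lift φ.toRingHom (residue E (algebraMap A E a)) = _
        exact φ.commutes a }
  refine ⟨E, inferInstance, hloc, inferInstance, hlh, inferInstance, het,
    ⟨AlgEquiv.ofBijective ψ ⟨ψ.toRingHom.injective, fun y => ?_⟩⟩⟩
  obtain ⟨x, hx⟩ := hsurj y
  exact ⟨residue E x, hx⟩

end Groth.Agent.Henz21
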