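import Mathlib
import Groth.Prelude.Def_Hensel
import Groth.Agent.SubSh14.GaloisStage
import Groth.Agent.SubSh14.GaloisSub
import Groth.Agent.SubSh14.Nagata
import Groth.Agent.Henz21.SmoothUnibranch
import Groth.Agent.Hensel20.StageNoeth

/-!
Finitely generated subfields of a branch of the strict henselization of a henselian local ring.
-/

universe u

open IsLocalRing Polynomial

namespace Groth.Agent.Henz21

section Algebraic

variable {A K : Type u} [CommRing A] [Field K] [Algebra A K]

/-- A nonzero integral element divides the image of an element of the base. -/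
theorem exists_mul_eq_algebraMap {r : K} (hr : IsIntegral A r) (h0 : r ≠ 0) :
    ∃ r' ∈ Algebra.adjoin A ({r} : Set K), ∃ c : A,
      algebraMap A K c ≠ 0 ∧ r * r' = algebraMap A K c := by
  classical
  obtain ⟨p, hp, hpr⟩ := hr
  induction hn : p.natDegree using Nat.strong_induction_on generalizing p with
  | _ n ih =>
    have hev : aeval r p = 0 := hpr
    have hsplit : r * aeval r p.divX + algebraMap A K (p.coeff 0) = 0 := by
      rw [← hev]
      conv_rhs => rw [← X_mul_divX_add p, map_add, map_mul, aeval_X, aeval_C]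
    by_cases hc : algebraMap A K (p.coeff 0) = 0
    · rw [hc, add_zero, mul_eq_zero] at hsplit
      have h1 : aeval r p.divX = 0 := hsplit.resolve_left h0
      have hdeg : 0 < p.natDegree := by
        by_contra hd
        have hp1 : p = 1 := hp.natDegree_eq_zero.mp (Nat.eq_zero_of_not_pos hd)
        rw [hp1, map_one] at hev
        exact one_ne_zero hev
      have hdm : p.divX.Monic := by
        rw [Monic, leadingCoeff, natDegree_divX_eq_natDegree_tsub_one, coeff_divX,
          Nat.sub_add_cancel hdeg]
        exact hp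
      exact ih p.divX.natDegree (by rw [natDegree_divX_eq_natDegree_tsub_one]; omega) p.divX hdm
        h1 rfl
    · refine ⟨-aeval r p.divX, neg_mem (Polynomial.aeval_mem_adjoin_singleton A r), p.coeff 0, hc, ?_⟩
      rw [mul_neg, neg_eq_iff_add_eq_zero]
      exact hsplit

/-- The subfield generated by integral elements consists of fractions with denominators from the
base. -/
theorem exists_mul_mem_of_mem_closure (R : Subalgebra A K) (hR : ∀ x ∈ R, IsIntegral A x)
    (t : Set K) (ht : ∀ y ∈ t, ∃ a, algebraMap A K a ≠ 0 ∧ algebraMap A K a * y ∈ R)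
    {x : K} (hx : x ∈ Subfield.closure (Set.range (algebraMap A K) ∪ t)) :
    ∃ a, algebraMap A K a ≠ 0 ∧ algebraMap A K a * x ∈ R := by
  induction hx using Subfield.closure_induction with
  | mem y hy =>
    rcases hy with ⟨b, rfl⟩ | hy
    · exact ⟨1, by simp, by rw [map_one, one_mul]; exact R.algebraMap_mem b⟩
    · exact ht y hy
  | one => exact ⟨1, by simp, by rw [map_one, one_mul]; exact one_mem R⟩
  | add y z _ _ hy hz =>
    obtain ⟨a, ha, hay⟩ := hy
    obtain ⟨b, hb, hbz⟩ := hz
    refine ⟨a * b, by rw [map_mul]; exact mul_ne_zero ha hb, ?_⟩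
    rw [map_mul, show algebraMap A K a * algebraMap A K b * (y + z) =
      algebraMap A K b * (algebraMap A K a * y) + algebraMap A K a * (algebraMap A K b * z) by ring]
    exact add_mem (mul_mem (R.algebraMap_mem b) hay) (mul_mem (R.algebraMap_mem a) hbz)
  | neg y _ hy =>
    obtain ⟨a, ha, hay⟩ := hy
    exact ⟨a, ha, by rw [mul_neg]; exact neg_mem hay⟩
  | inv y _ hy =>
    obtain ⟨a, ha, hay⟩ := hy
    by_cases h0 : y = 0
    · exact ⟨1, by simp, by simp [h0]⟩
    obtain ⟨r', hr', c, hc, hrc⟩ :=
      exists_mul_eq_algebraMap (hR _ hay) (mul_ne_zero ha h0)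
    refine ⟨c, hc, ?_⟩
    have hr'R : r' ∈ R := Algebra.adjoin_le (Set.singleton_subset_iff.2 hay) hr'
    rw [← hrc, show algebraMap A K a * y * r' * y⁻¹ = algebraMap A K a * r' * (y * y⁻¹) by ring,
      mul_inv_cancel₀ h0, mul_one]
    exact mul_mem (R.algebraMap_mem a) hr'R
  | mul y z _ _ hy hz =>
    obtain ⟨a, ha, hay⟩ := hy
    obtain ⟨b, hb, hbz⟩ := hz
    refine ⟨a * b, by rw [map_mul]; exact mul_ne_zero ha hb, ?_⟩
    rw [map_mul, show algebraMap A K a * algebraMap A K b * (y * z) =
      (algebraMap A K a * y) * (algebraMap A K b * z) by ring]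
    exact mul_mem hay hbz

end Algebraic

section Branch

variable {A S : Type u} [CommRing A] [HenselianLocalRing A] [IsNoetherianRing A] [CommRing S]
  [IsLocalRing S] [Algebra A S] [IsLocalHom (algebraMap A S)] [Hensel.IsStrictHenselization A S]

/-- The strict henselization of a henselian ring is integral over it. -/
theorem isIntegral_strictHenselization : Algebra.IsIntegral A S := by
  constructor
  intro x
  obtain ⟨E, hx, _, _, -, hfin, -⟩ := SubSh14.exists_galois_stage (A := A) ({x} : Finset S)
  exact (Algebra.IsIntegral.isIntegral (R := A) (⟨x, hx (by simp)⟩ : E)).map E.val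

/-- The strict henselization of a Noetherian ring is Noetherian. -/
theorem isNoetherianRing_strictHenselization (A S : Type u) [CommRing A] [IsLocalRing A]
    [IsNoetherianRing A] [CommRing S] [IsLocalRing S] [Algebra A S] [IsLocalHom (algebraMap A S)]
    [Hensel.IsStrictHenselization A S] : IsNoetherianRing S := by
  have : IsNoetherianRing (StrictHenselization A) := Hensel20.isNoetherianRing_H
  exact isNoetherianRing_of_ringEquiv _ (strictHenselizationEquiv (R := A) S).toRingEquiv

variable (Q : Ideal S) [Q.IsPrime] (t : Finset (FractionRing (S ⧸ Q)))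

/-- The elements of the branch lying in the subfield generated by `t`. -/
noncomputable def branchInter : Subalgebra A (S ⧸ Q) where
  carrier := (algebraMap (S ⧸ Q) (FractionRing (S ⧸ Q))) ⁻¹'
    (Subfield.closure (Set.range (algebraMap A (FractionRing (S ⧸ Q))) ∪
      (t : Set (FractionRing (S ⧸ Q)))) : Set (FractionRing (S ⧸ Q)))
  mul_mem' := fun {x y} hx hy => by
    simp only [Set.mem_preimage, map_mul, SetLike.mem_coe] at hx hy ⊢
    exact mul_mem hx hy
  add_mem' := fun {x y} hx hy => by
    simp only [Set.mem_preimage, map_add, SetLike.mem_coe] at hx hy ⊢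
    exact add_mem hx hy
  algebraMap_mem' := fun a => by
    show algebraMap (S ⧸ Q) (FractionRing (S ⧸ Q)) (algebraMap A (S ⧸ Q) a) ∈ Subfield.closure _
    rw [← IsScalarTower.algebraMap_apply]
    exact Subfield.subset_closure (Or.inl ⟨a, rfl⟩)

theorem mem_branchInter {x : S ⧸ Q} : x ∈ branchInter (A := A) Q t ↔
    algebraMap (S ⧸ Q) (FractionRing (S ⧸ Q)) x ∈ Subfield.closure
      (Set.range (algebraMap A (FractionRing (S ⧸ Q))) ∪ (t : Set (FractionRing (S ⧸ Q)))) :=
  Iff.rfl

/-- Every element of the fraction field of the branch has a denominator from the base. -/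
theorem exists_den (y : FractionRing (S ⧸ Q)) :
    ∃ a : A, algebraMap A (FractionRing (S ⧸ Q)) a ≠ 0 ∧
      ∃ s : S ⧸ Q, algebraMap A (FractionRing (S ⧸ Q)) a * y = algebraMap (S ⧸ Q) _ s := by
  have := isIntegral_strictHenselization (A := A) (S := S)
  obtain ⟨s, u, hu, rfl⟩ := IsFractionRing.div_surjective (S ⧸ Q) y
  have hu0 : algebraMap (S ⧸ Q) (FractionRing (S ⧸ Q)) u ≠ 0 :=
    (map_ne_zero_iff _ (IsFractionRing.injective _ _)).2 (nonZeroDivisors.ne_zero hu)
  obtain ⟨r', hr', c, hc, hrc⟩ := exists_mul_eq_algebraMap (A := A)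
    ((Algebra.IsIntegral.isIntegral u).map (IsScalarTower.toAlgHom A (S ⧸ Q) _)) hu0
  have hle : Algebra.adjoin A ({algebraMap (S ⧸ Q) (FractionRing (S ⧸ Q)) u} : Set _) ≤
      (IsScalarTower.toAlgHom A (S ⧸ Q) (FractionRing (S ⧸ Q))).range :=
    Algebra.adjoin_le (Set.singleton_subset_iff.2 ⟨u, rfl⟩)
  obtain ⟨w, hw⟩ := hle hr'
  refine ⟨c, hc, s * w, ?_⟩
  simp only [IsScalarTower.toAlgHom_apply] at hrc
  rw [← hrc, map_mul, show algebraMap (S ⧸ Q) (FractionRing (S ⧸ Q)) w = r' from hw]
  field_simp

theorem exists_mul_eq_mem_branchInter {l : FractionRing (S ⧸ Q)}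
    (hl : l ∈ Subfield.closure
      (Set.range (algebraMap A (FractionRing (S ⧸ Q))) ∪ (t : Set (FractionRing (S ⧸ Q))))) :
    ∃ a : A, algebraMap A (FractionRing (S ⧸ Q)) a ≠ 0 ∧ ∃ s ∈ branchInter (A := A) Q t,
      algebraMap A (FractionRing (S ⧸ Q)) a * l = algebraMap (S ⧸ Q) _ s := by
  obtain ⟨a, ha, s, hs⟩ := exists_den (A := A) Q l
  refine ⟨a, ha, s, ?_, hs⟩
  rw [mem_branchInter, ← hs]
  exact mul_mem (Subfield.subset_closure (Or.inl ⟨a, rfl⟩)) hl

/-- The intersection is a finite module over the base. -/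
theorem finite_branchInter (hG : CAlg.IsGRing A) : Module.Finite A (branchInter (A := A) Q t) := by
  classical
  have := isIntegral_strictHenselization (A := A) (S := S)
  choose a ha s hs using fun y : FractionRing (S ⧸ Q) => exists_den (A := A) Q y
  let K := FractionRing (S ⧸ Q)
  let R : Subalgebra A K :=
    Algebra.adjoin A (↑(t.image fun y => algebraMap A K (a y) * y) : Set K)
  have hRfg : (Subalgebra.toSubmodule R).FG := by
    refine fg_adjoin_of_finite (Finset.finite_toSet _) fun x hx => ?_
    obtain ⟨y, -, rfl⟩ := Finset.mem_image.1 hx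
    rw [hs y]
    exact (Algebra.IsIntegral.isIntegral (s y)).map (IsScalarTower.toAlgHom A (S ⧸ Q) K)
  have hR : ∀ x ∈ R, IsIntegral A x := fun x hx =>
    IsIntegral.of_mem_of_fg R hRfg x hx
  let L := Subfield.closure (Set.range (algebraMap A K) ∪ (t : Set K))
  letI : Algebra A L :=
    ((algebraMap A K).codRestrict L fun x => Subfield.subset_closure (Or.inl ⟨x, rfl⟩)).toAlgebra
  have : IsScalarTower A L K := IsScalarTower.of_algebraMap_eq fun _ => rfl
  have hRL : ∀ x ∈ R, x ∈ L := by
    intro x hx
    induction hx using Algebra.adjoin_induction with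
    | mem x hx =>
      obtain ⟨y, hy, rfl⟩ := Finset.mem_image.1 hx
      exact mul_mem (Subfield.subset_closure (Or.inl ⟨a y, rfl⟩)) (Subfield.subset_closure (Or.inr hy))
    | algebraMap c => exact Subfield.subset_closure (Or.inl ⟨c, rfl⟩)
    | add x y _ _ hx hy => exact add_mem hx hy
    | mul x y _ _ hx hy => exact mul_mem hx hy
  obtain ⟨T, hT⟩ := hRfg
  have hTR : ∀ x ∈ T, x ∈ R := fun x hx => by
    rw [← Subalgebra.mem_toSubmodule, ← hT]
    exact Submodule.subset_span hx
  let T' : Finset L := T.attach.image fun x => ⟨x.1, hRL _ (hTR _ x.2)⟩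
  let ι : L →ₐ[A] K := IsScalarTower.toAlgHom A L K
  have hιinj : Function.Injective ι := fun x y h => Subtype.ext h
  have hfin : Module.Finite A (integralClosure A L) := by
    refine SubSh14.finite_integralClosure_field hG L T' fun x => ?_
    obtain ⟨c, hc, hcx⟩ := exists_mul_mem_of_mem_closure R hR (t : Set K)
      (fun y hy => ⟨a y, ha y, Algebra.subset_adjoin (Finset.mem_image_of_mem _ hy)⟩) x.2
    refine ⟨c, fun h => hc ?_, ?_⟩
    · rw [IsScalarTower.algebraMap_apply A L K, h, map_zero]
    · have h1 : Submodule.map ι.toLinearMap (Submodule.span A (T' : Set L)) =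
          Subalgebra.toSubmodule R := by
        rw [Submodule.map_span, ← hT]
        congr 1
        ext z
        simp only [T', Set.mem_image, Finset.mem_coe, Finset.mem_image, Finset.mem_attach, true_and,
          Subtype.exists]
        constructor
        · rintro ⟨w, hw, ⟨z', hz', e⟩, rfl⟩
          rw [← e]
          exact hz'
        · intro hz
          exact ⟨z, hRL _ (hTR _ hz), ⟨z, hz, rfl⟩, rfl⟩
      have h2 : ι (algebraMap A L c * x) ∈ Submodule.map ι.toLinearMap (Submodule.span A (T' : Set L)) := by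
        rw [h1]
        exact hcx
      obtain ⟨z, hz, hze⟩ := h2
      rwa [← hιinj hze]
  let f : branchInter (A := A) Q t →ₗ[A] integralClosure A L :=
    { toFun := fun x => ⟨⟨algebraMap (S ⧸ Q) K x, x.2⟩,
        (isIntegral_algHom_iff ι hιinj).1
          ((Algebra.IsIntegral.isIntegral (x : S ⧸ Q)).map (IsScalarTower.toAlgHom A (S ⧸ Q) K))⟩
      map_add' := fun x y => Subtype.ext (Subtype.ext (map_add (algebraMap (S ⧸ Q) K) _ _))
      map_smul' := fun c x => Subtype.ext (Subtype.ext (by
        show algebraMap (S ⧸ Q) K (c • (x : S ⧸ Q)) = algebraMap A K c * algebraMap (S ⧸ Q) K x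
        rw [Algebra.smul_def, map_mul, ← IsScalarTower.algebraMap_apply])) }
  exact Module.Finite.of_injective f fun x y h => Subtype.ext (IsFractionRing.injective (S ⧸ Q) K
    (congrArg (fun z : integralClosure A L => ((z : L) : K)) h))

/-- There is a Galois stage containing lifts of the intersection and given finitely many elements. -/
theorem exists_stage_branchInter (hG : CAlg.IsGRing A) (W : Finset S) :
    ∃ E : Subalgebra A S, (W : Set S) ⊆ (E : Set S) ∧
      ∃ (_ : IsLocalRing E) (_ : IsLocalHom (algebraMap A E)),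
      EGA4loc.IsEssentiallyEtale A E ∧ Module.Finite A E ∧ IsGalois (ResidueField A) (ResidueField E) ∧
      ∀ x ∈ branchInter (A := A) Q t, ∃ e ∈ E, Ideal.Quotient.mk Q e = x := by
  classical
  have := finite_branchInter Q t hG
  obtain ⟨G, hG'⟩ := (Module.finite_def (R := A) (M := branchInter (A := A) Q t)).1 inferInstance
  choose g hg using fun x : branchInter (A := A) Q t => Ideal.Quotient.mk_surjective (I := Q) x.1
  obtain ⟨E, hE, hloc, hhom, hEt, hfin, hgal⟩ :=
    SubSh14.exists_galois_stage (A := A) (W ∪ G.image g)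
  refine ⟨E, fun x hx => hE (by simp [Finset.mem_coe.1 hx]), hloc, hhom, hEt, hfin, hgal, fun x hx => ?_⟩
  have hmem : (⟨x, hx⟩ : branchInter (A := A) Q t) ∈ Submodule.span A (G : Set _) := hG' ▸ trivial
  have hle : Submodule.span A (G : Set (branchInter (A := A) Q t)) ≤
      ((Subalgebra.toSubmodule E).map (Ideal.Quotient.mkₐ A Q).toLinearMap).comap
        (branchInter (A := A) Q t).val.toLinearMap := by
    refine Submodule.span_le.2 fun y hy => ⟨g y, hE ?_, hg y⟩
    simp only [Finset.coe_union, Finset.coe_image]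
    exact Or.inr ⟨y, hy, rfl⟩
  obtain ⟨e, he, hex⟩ := hle hmem
  exact ⟨e, he, hex⟩

end Branch

end Groth.Agent.Henz21
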