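import Groth.Agent.Henz21.Colim
import Mathlib.RingTheory.Etale.StandardEtale
import Mathlib.RingTheory.Henselian
import Mathlib.Algebra.Polynomial.Lifts

/-! The colimit `H R K` is henselian along the kernel of its map to `K`, and (when `K` is a field)
it is a henselian local ring with residue field the image in `K`. -/

universe u

open Polynomial CategoryTheory

noncomputable section

namespace Groth.Agent.Henz21

variable {R K : Type u} [CommRing R] [CommRing K] [Algebra R K]

namespace H

/-- A polynomial over `H R K` comes from a finite stage. -/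
theorem exists_rep_poly (p : (H R K)[X]) :
    ∃ (i : Pt R K) (q : i.S[X]), q.map (incl i).toRingHom = p := by
  induction p using Polynomial.induction_on' with
  | add p q hp hq =>
    obtain ⟨i, p, rfl⟩ := hp
    obtain ⟨j, q, rfl⟩ := hq
    refine ⟨IsFiltered.max i j, p.map (IsFiltered.leftToMax i j).φ.toRingHom +
      q.map (IsFiltered.rightToMax i j).φ.toRingHom, ?_⟩
    rw [Polynomial.map_add, Polynomial.map_map, Polynomial.map_map]
    congr 1 <;> congr 1 <;> exact RingHom.ext fun s => incl_φ _ _
  | monomial n a =>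
    obtain ⟨i, s, rfl⟩ := exists_rep a
    exact ⟨i, monomial n s, by simp⟩

/-- A monic polynomial over `H R K` and an element come from a common finite stage. -/
theorem exists_rep_monic (p : (H R K)[X]) (hp : p.Monic) (a : H R K) :
    ∃ (i : Pt R K) (q : i.S[X]) (s : i.S),
      q.map (incl i).toRingHom = p ∧ q.Monic ∧ incl i s = a := by
  obtain ⟨i, q, hq⟩ := exists_rep_poly p
  obtain ⟨j, t, rfl⟩ := exists_rep a
  let k := IsFiltered.max i j
  have h : p ∈ lifts (incl k).toRingHom := by
    refine (Polynomial.mem_lifts _).mpr ⟨q.map (IsFiltered.leftToMax i j).φ.toRingHom, ?_⟩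
    rw [Polynomial.map_map, ← hq]
    congr 1
    exact RingHom.ext fun s => incl_φ _ _
  obtain ⟨r, hr, -, hrm⟩ := Polynomial.lifts_and_natDegree_eq_and_monic h hp
  exact ⟨k, r, (IsFiltered.rightToMax i j).φ t, hr, hrm, incl_φ _ _⟩

/-- Simple roots in `K` of monic polynomials over `H R K` lift to roots. -/
theorem exists_root (p : (H R K)[X]) (hp : p.Monic) (x : K)
    (hx : p.eval₂ (proj R K).toRingHom x = 0)
    (hx' : IsUnit (p.derivative.eval₂ (proj R K).toRingHom x)) :
    ∃ a : H R K, p.IsRoot a ∧ proj R K a = x := by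
  obtain ⟨i, q, -, rfl, hq, -⟩ := exists_rep_monic p hp 0
  have hc : (proj R K).toRingHom.comp (incl i).toRingHom = i.pt.toRingHom :=
    RingHom.ext (proj_incl i)
  rw [eval₂_map, hc] at hx
  rw [derivative_map, eval₂_map, hc] at hx'
  let P : StandardEtalePair i.S := ⟨q, hq, q.derivative, 1, 0, 1, by simp⟩
  let _ : Algebra i.S K := i.pt.toRingHom.toAlgebra
  have : IsScalarTower R i.S K := IsScalarTower.of_algebraMap_eq (fun r => (i.pt.commutes r).symm)
  have hP : P.HasMap x := ⟨hx, hx'⟩
  let _ : Algebra R P.Ring := ((algebraMap i.S P.Ring).comp (algebraMap R i.S)).toAlgebra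
  have : IsScalarTower R i.S P.Ring := IsScalarTower.of_algebraMap_eq (fun r => rfl)
  have : Algebra.Etale R P.Ring := Algebra.Etale.comp R i.S P.Ring
  obtain ⟨F, hF, hFg⟩ := exists_algHom_of_stage i P.Ring ((P.lift x hP).restrictScalars R)
    (IsScalarTower.toAlgHom R i.S P.Ring) (AlgHom.ext fun s => (P.lift x hP).commutes s)
  refine ⟨F P.X, ?_, ?_⟩
  · have h0 : q.eval₂ (algebraMap i.S P.Ring) P.X = 0 := (StandardEtalePair.hasMap_X (P := P)).1
    rw [IsRoot.def, eval_map]
    have : (incl i).toRingHom = F.toRingHom.comp (algebraMap i.S P.Ring) := by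
      rw [← hFg]; rfl
    rw [this]; exact (hom_eval₂ q (algebraMap i.S P.Ring) F.toRingHom P.X).symm.trans (by rw [h0, map_zero])
  · have := DFunLike.congr_fun hF P.X
    exact this.trans (P.lift_X x hP)

theorem henselianRing_ker (hsurj : Function.Surjective (proj R K)) :
    HenselianRing (H R K) (RingHom.ker (proj R K)) where
  jac := ker_proj_le_jacobson
  is_henselian p hp a₀ h₁ h₂ := by
    obtain ⟨a, ha, hax⟩ := exists_root p hp (proj R K a₀)
      ((eval₂_at_apply (proj R K).toRingHom a₀).trans h₁) (by
        erw [eval₂_at_apply]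
        have := h₂.map (Ideal.quotientKerAlgEquivOfSurjective hsurj).toRingEquiv.toRingHom
        exact this)
    exact ⟨a, ha, by simp [RingHom.mem_ker, hax]⟩

section field

variable {K : Type u} [Field K] [Algebra R K]

instance : IsLocalRing (H R K) := by
  have : Nontrivial (H R K) := RingHom.domain_nontrivial (proj R K).toRingHom
  refine IsLocalRing.of_nonunits_add ?_
  intro a b ha hb
  simp only [mem_nonunits_iff, isUnit_iff, isUnit_iff_ne_zero, not_not] at ha hb ⊢
  simp [ha, hb]

theorem maximalIdeal_eq : IsLocalRing.maximalIdeal (H R K) = RingHom.ker (proj R K) := by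
  ext x
  simp [IsLocalRing.mem_maximalIdeal, isUnit_iff, RingHom.mem_ker]

instance : IsLocalHom (proj R K) := ⟨fun _ h => isUnit_of_isUnit_proj h⟩

/-- `H R K` is a henselian local ring when `K` is a field. -/
instance : HenselianLocalRing (H R K) where
  is_henselian p hp a₀ h₁ h₂ := by
    rw [maximalIdeal_eq] at h₁
    obtain ⟨a, ha, hax⟩ := exists_root p hp (proj R K a₀)
      ((eval₂_at_apply (proj R K).toRingHom a₀).trans h₁) (by erw [eval₂_at_apply]; exact h₂.map _)
    exact ⟨a, ha, by simp [maximalIdeal_eq, RingHom.mem_ker, hax]⟩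

end field

end H

end Groth.Agent.Henz21
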