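import Groth.Agent.Henz21.LocalLift
import Mathlib.AlgebraicGeometry.Morphisms.Etale

/-! Sections of étale schemes over henselian local rings. -/

set_option autoImplicit false
set_option linter.style.haveILetI false

universe u

open CategoryTheory AlgebraicGeometry IsLocalRing

namespace Groth.Agent.Henz21

theorem existsUnique_section {R : Type u} [CommRing R] [HenselianLocalRing R] {X : Scheme.{u}}
    (f : X ⟶ Spec (CommRingCat.of R)) [Etale f]
    (t : Spec (CommRingCat.of (ResidueField R)) ⟶ X)
    (ht : t ≫ f = Spec.map (CommRingCat.ofHom (residue R))) :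
    ∃! s : Spec (CommRingCat.of R) ⟶ X, s ≫ f = 𝟙 _ ∧
      Spec.map (CommRingCat.ofHom (residue R)) ≫ s = t := by
  let x := t.base (closedPoint (ResidueField R))
  obtain ⟨U, hU, hxU, -⟩ :=
    exists_isAffineOpen_mem_and_subset (U := (⊤ : X.Opens)) (x := x) trivial
  let φ := Spec.preimage (hU.fromSpec ≫ f)
  have hφ : Spec.map φ = hU.fromSpec ≫ f := Spec.map_preimage _
  letI : Algebra R Γ(X, U) := φ.hom.toAlgebra
  haveI : Algebra.Etale R Γ(X, U) := by
    have : φ.hom.Etale := by
      rw [← HasRingHomProperty.Spec_iff (P := @Etale), hφ]; infer_instance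
    exact this
  have htr : Set.range t.base ⊆ Set.range hU.fromSpec.base := by
    rintro _ ⟨p, rfl⟩
    rw [hU.range_fromSpec, Subsingleton.elim p (closedPoint (ResidueField R))]
    exact hxU
  let t' := IsOpenImmersion.lift hU.fromSpec t htr
  have ht' : t' ≫ hU.fromSpec = t := IsOpenImmersion.lift_fac _ _ _
  let τ := Spec.preimage t'
  have hτ : φ ≫ τ = CommRingCat.ofHom (residue R) := by
    apply Spec.map_injective
    rw [Spec.map_comp, Spec.map_preimage, hφ, ← Category.assoc, ht', ht]
  let σ : Γ(X, U) →ₐ[R] ResidueField R :=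
    { τ.hom with commutes' := RingHom.congr_fun (congrArg CommRingCat.Hom.hom hτ) }
  obtain ⟨γ, hγ, huniq⟩ := existsUnique_lift σ
  let s := Spec.map (CommRingCat.ofHom γ.toRingHom) ≫ hU.fromSpec
  have hs₁ : s ≫ f = 𝟙 _ := by
    rw [Category.assoc, ← hφ, ← Spec.map_comp,
      show φ ≫ CommRingCat.ofHom γ.toRingHom = 𝟙 _ from CommRingCat.hom_ext (RingHom.ext γ.commutes),
      Spec.map_id]
  have hs₂ : Spec.map (CommRingCat.ofHom (residue R)) ≫ s = t := by
    rw [← Category.assoc, ← Spec.map_comp, ← ht']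
    congr 1
    rw [← Spec.map_preimage t']
    exact congrArg Spec.map (CommRingCat.hom_ext (RingHom.ext fun y => DFunLike.congr_fun hγ y))
  refine ⟨s, ⟨hs₁, hs₂⟩, fun s' ⟨h₁, h₂⟩ => ?_⟩
  have hcl : s'.base (closedPoint R) = x := by
    show _ = t.base (closedPoint (ResidueField R))
    rw [← h₂]
    show _ = s'.base (PrimeSpectrum.comap (residue R) (closedPoint (ResidueField R)))
    rw [isLocalHom_iff_comap_closedPoint (residue R) |>.mp inferInstance]
  have hr : Set.range s'.base ⊆ Set.range hU.fromSpec.base := by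
    rintro _ ⟨p, rfl⟩
    rw [hU.range_fromSpec]
    exact ((specializes_closedPoint p).map s'.continuous).mem_open U.2 (hcl ▸ hxU)
  let s'' := IsOpenImmersion.lift hU.fromSpec s' hr
  have hs'' : s'' ≫ hU.fromSpec = s' := IsOpenImmersion.lift_fac _ _ _
  let δ := Spec.preimage s''
  have hδ : φ ≫ δ = 𝟙 _ := by
    apply Spec.map_injective
    rw [Spec.map_comp, Spec.map_preimage, hφ, ← Category.assoc, hs'', h₁, Spec.map_id]
  let δ' : Γ(X, U) →ₐ[R] R :=
    { δ.hom with commutes' := RingHom.congr_fun (congrArg CommRingCat.Hom.hom hδ) }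
  have hδτ : δ ≫ CommRingCat.ofHom (residue R) = τ := by
    apply Spec.map_injective
    rw [Spec.map_comp, Spec.map_preimage, Spec.map_preimage, ← cancel_mono hU.fromSpec,
      Category.assoc, hs'', h₂, ht']
  have h3 : δ' = γ := huniq _ (AlgHom.ext fun y =>
    RingHom.congr_fun (congrArg CommRingCat.Hom.hom hδτ) y)
  show s' = s
  rw [← hs'', ← Spec.map_preimage s'']
  congr 2
  exact CommRingCat.hom_ext (congrArg AlgHom.toRingHom h3)

end Groth.Agent.Henz21
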