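import Groth.Agent.Hens22.Idempotents
import Mathlib.RingTheory.AdjoinRoot
import Mathlib.RingTheory.Nakayama
import Mathlib.Algebra.Polynomial.Div
import Mathlib.Algebra.Polynomial.Taylor

/-! An algebra integral over a henselian pair is a henselian pair. -/

set_option autoImplicit false

universe u

open Polynomial

namespace Groth.Agent.Henz21

variable {A : Type u} [CommRing A]

set_option maxHeartbeats 800000 in
theorem henselianRing_of_isIntegral (I : Ideal A) [HenselianRing A I] (S : Type u) [CommRing S]
    [Algebra A S] [Algebra.IsIntegral A S] : HenselianRing S (I.map (algebraMap A S)) where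
  jac := Hens22.map_le_jacobson_of_isIntegral HenselianRing.jac S
  is_henselian := by
    intro f hf a₀ h₁ h₂
    set J := I.map (algebraMap A S) with hJdef
    have hjac : J ≤ Ideal.jacobson ⊥ := Hens22.map_le_jacobson_of_isIntegral HenselianRing.jac S
    let D := AdjoinRoot f
    have : Module.Free S D := hf.free_adjoinRoot
    have hDfin : Module.Finite S D := hf.finite_adjoinRoot
    have : Algebra.IsIntegral A D := Algebra.IsIntegral.trans S
    have hJD : I.map (algebraMap A D) = J.map (algebraMap S D) := by
      rw [hJdef, Ideal.map_map, ← IsScalarTower.algebraMap_eq]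
    let x : D := AdjoinRoot.root f
    let φ : D →+* S ⧸ J := AdjoinRoot.lift (Ideal.Quotient.mk J) (Ideal.Quotient.mk J a₀)
      (by rw [eval₂_at_apply]; exact Ideal.Quotient.eq_zero_iff_mem.mpr h₁)
    have hφC : ∀ c, φ (algebraMap S D c) = Ideal.Quotient.mk J c := fun c => AdjoinRoot.lift_of _
    have hφker : ∀ d ∈ J.map (algebraMap S D), φ d = 0 := fun d hd =>
      (Ideal.map_le_iff_le_comap.mpr fun c hc => by
        rw [Ideal.mem_comap, RingHom.mem_ker, hφC]
        exact Ideal.Quotient.eq_zero_iff_mem.mpr hc : J.map (algebraMap S D) ≤ RingHom.ker φ) hd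
    -- the cofactor of `X - a₀`
    obtain ⟨q, hq⟩ : X - C a₀ ∣ f - C (f.eval a₀) := dvd_iff_isRoot.mpr (by simp [IsRoot])
    have hq0 : q.eval a₀ = f.derivative.eval a₀ := by
      have := congrArg (fun p => (derivative p).eval a₀) hq
      simpa [derivative_mul] using this.symm
    obtain ⟨r, hr⟩ : X - C a₀ ∣ q - C (q.eval a₀) := dvd_iff_isRoot.mpr (by simp [IsRoot])
    obtain ⟨u, hu⟩ := Ideal.Quotient.mk_surjective (↑h₂.unit⁻¹ : S ⧸ J)
    have hu1 : u * f.derivative.eval a₀ - 1 ∈ J := by
      rw [← Ideal.Quotient.eq, map_mul, hu, map_one]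
      exact IsUnit.val_inv_mul h₂
    have hxq : (x - algebraMap S D a₀) * aeval x q ∈ J.map (algebraMap S D) := by
      have := congrArg (aeval x) hq
      simp only [map_sub, map_mul, aeval_X, aeval_C] at this
      rw [← this, (AdjoinRoot.aeval_eq f).trans AdjoinRoot.mk_self, zero_sub, neg_mem_iff]
      exact Ideal.mem_map_of_mem _ h₁
    let e : D := algebraMap S D u * aeval x q
    have he : e * e - e ∈ I.map (algebraMap A D) := by
      rw [hJD]
      have hr' := congrArg (aeval x) hr
      simp only [map_sub, map_mul, aeval_X, aeval_C] at hr'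
      have : e * e - e = algebraMap S D (u * u) * aeval x r * ((x - algebraMap S D a₀) * aeval x q) +
          e * algebraMap S D (u * f.derivative.eval a₀ - 1) := by
        rw [← hq0]
        simp only [map_sub, map_mul, map_one, e]
        linear_combination (algebraMap S D u) ^ 2 * aeval x q * hr'
      rw [this]
      exact add_mem (Ideal.mul_mem_left _ _ hxq) (Ideal.mul_mem_left _ _ (Ideal.mem_map_of_mem _ hu1))
    obtain ⟨ε, hε, hεe⟩ := Hens22.exists_idempotent_lift I he
    rw [hJD] at hεe
    have hφε : φ ε = 1 := by
      have h3 : φ (ε - e) = 0 := hφker _ hεe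
      rw [map_sub, sub_eq_zero] at h3
      have h4 : φ (aeval x q) = Ideal.Quotient.mk J (q.eval a₀) := by
        rw [show aeval x q = AdjoinRoot.mk f q from AdjoinRoot.aeval_eq q, AdjoinRoot.lift_mk,
          eval₂_at_apply]
      rw [h3, map_mul, hφC, h4, hu, hq0]
      exact IsUnit.val_inv_mul h₂
    -- the summand `ε D`
    let M : Submodule S D := LinearMap.range (LinearMap.mulLeft S ε)
    have hεM : ε ∈ M := ⟨1, mul_one ε⟩
    let L : S →ₗ[S] M := LinearMap.toSpanSingleton S M ⟨ε, hεM⟩
    have : Module.Finite S M := Module.Finite.range _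
    have hproj : Module.Projective S M := Module.Projective.of_split M.subtype
      (LinearMap.rangeRestrict (LinearMap.mulLeft S ε)) (LinearMap.ext fun ⟨m, d, hd⟩ => by
        apply Subtype.ext
        show ε * m = m
        rw [← hd, LinearMap.mulLeft_apply, ← mul_assoc, hε.eq])
    have hxε : ∀ p : S[X], ε * aeval x p - algebraMap S D (p.eval a₀) * ε ∈
        J.map (algebraMap S D) := by
      intro p
      obtain ⟨s, hs⟩ : X - C a₀ ∣ p - C (p.eval a₀) := dvd_iff_isRoot.mpr (by simp [IsRoot])
      have hs' := congrArg (aeval x) hs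
      simp only [map_sub, map_mul, aeval_X, aeval_C] at hs'
      have h4 : (x - algebraMap S D a₀) * ε ∈ J.map (algebraMap S D) := by
        have : (x - algebraMap S D a₀) * ε = (x - algebraMap S D a₀) * (ε - e) +
            algebraMap S D u * ((x - algebraMap S D a₀) * aeval x q) := by
          simp only [e]; ring
        rw [this]
        exact add_mem (Ideal.mul_mem_left _ _ hεe) (Ideal.mul_mem_left _ _ hxq)
      have : ε * aeval x p - algebraMap S D (p.eval a₀) * ε =
          aeval x s * ((x - algebraMap S D a₀) * ε) := by
        linear_combination ε * hs'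
      rw [this]
      exact Ideal.mul_mem_left _ _ h4
    have hsur : LinearMap.range L = ⊤ := by
      refine top_le_iff.mp (Submodule.le_of_le_smul_of_le_jacobson_bot Module.Finite.fg_top hjac ?_)
      rintro ⟨m, d, hd⟩ -
      obtain ⟨p, rfl⟩ := AdjoinRoot.mk_surjective d
      have h5 := hxε p
      rw [AdjoinRoot.aeval_eq] at h5
      have h6 : ε * AdjoinRoot.mk f p - algebraMap S D (p.eval a₀) * ε ∈ (J • ⊤ : Submodule S D) := by
        rw [Ideal.smul_top_eq_map]; exact h5
      have h7 : (⟨m, _, hd⟩ : M) - L (p.eval a₀) ∈ (J • ⊤ : Submodule S M) := by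
        have h8 := Submodule.mem_map_of_mem
          (f := (LinearMap.mulLeft S ε).rangeRestrict) h6
        rw [Submodule.map_smul'', Submodule.map_top, LinearMap.range_rangeRestrict] at h8
        convert h8 using 1
        refine Subtype.ext ?_
        simp only [AddSubgroupClass.coe_sub, LinearMap.codRestrict_apply, LinearMap.mulLeft_apply]
        rw [mul_sub, ← mul_assoc, hε.eq, ← mul_assoc, mul_comm ε (algebraMap S D _), mul_assoc, hε.eq,
          ← hd, LinearMap.mulLeft_apply]
        congr 1
        exact Algebra.smul_def _ _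
      have : (⟨m, _, hd⟩ : M) = L (p.eval a₀) + (⟨m, _, hd⟩ - L (p.eval a₀)) := by abel
      rw [this]
      exact Submodule.add_mem_sup ⟨_, rfl⟩ h7
    obtain ⟨s, hs⟩ := Module.projective_lifting_property L LinearMap.id (LinearMap.range_eq_top.mp hsur)
    have hLs : ∀ m : M, L (s m) = m := LinearMap.congr_fun hs
    let t := s ⟨ε, hεM⟩
    have hscalar : ∀ c : S, algebraMap S D c * ε = 0 → c * t = 0 := fun c hc => by
      have : c • (⟨ε, hεM⟩ : M) = 0 := Subtype.ext ((Algebra.smul_def c ε).trans hc)
      have := congrArg s this
      rwa [map_smul, map_zero, smul_eq_mul] at this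
    have hg : algebraMap S D (1 - t) * ε = 0 := by
      have := congrArg Subtype.val (hLs ⟨ε, hεM⟩)
      rw [map_sub, map_one, sub_mul, one_mul, sub_eq_zero]
      exact ((Algebra.smul_def t ε).symm.trans this).symm
    have hgJ : 1 - t ∈ J := by
      have := congrArg φ hg
      rwa [map_mul, hφε, mul_one, map_zero, hφC, Ideal.Quotient.eq_zero_iff_mem] at this
    have htu : IsUnit t := by
      have := Ideal.mem_jacobson_bot.mp (hjac hgJ) (-1)
      simpa using this
    have hinj : ∀ c : S, algebraMap S D c * ε = 0 → c = 0 := fun c hc =>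
      htu.mul_left_eq_zero.mp (hscalar c hc)
    obtain ⟨a, ha⟩ := LinearMap.range_eq_top.mp hsur ⟨ε * x, x, rfl⟩
    have ha' : algebraMap S D a * ε = ε * x := (Algebra.smul_def a ε).symm.trans (congrArg Subtype.val ha)
    refine ⟨a, hinj _ ?_, ?_⟩
    · have key : ∀ p : S[X], algebraMap S D (p.eval a) * ε = ε * aeval x p := by
        intro p
        induction p using Polynomial.induction_on' with
        | add p q hp hq => rw [eval_add, map_add, map_add, add_mul, mul_add, hp, hq]
        | monomial n c =>
          induction n with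
          | zero => simp [mul_comm]
          | succ n ih =>
            rw [← monomial_mul_X, eval_mul, eval_X, map_mul, map_mul, aeval_X]
            calc algebraMap S D ((monomial n c).eval a) * algebraMap S D a * ε
                = algebraMap S D ((monomial n c).eval a) * (algebraMap S D a * ε) := mul_assoc _ _ _
              _ = algebraMap S D ((monomial n c).eval a) * ε * x := by rw [ha', mul_assoc]
              _ = _ := by rw [ih, mul_assoc]
      rw [key, (AdjoinRoot.aeval_eq f).trans AdjoinRoot.mk_self, mul_zero]
    · have := congrArg φ ha'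
      rw [map_mul, map_mul, hφε, one_mul, mul_one, hφC, show φ x = Ideal.Quotient.mk J a₀ from
        AdjoinRoot.lift_root _, Ideal.Quotient.eq] at this
      exact this

end Groth.Agent.Henz21
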