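import Groth.Agent.Hens22.Idempotents
import Groth.Agent.EtAlg23.HenselBasic
import Mathlib.AlgebraicGeometry.ZariskisMainTheorem
import Mathlib.AlgebraicGeometry.PullbackCarrier

/-! The finite part of a quasi-finite separated scheme over a henselian local ring. -/

set_option autoImplicit false
set_option linter.style.haveILetI false

universe u

open CategoryTheory Limits AlgebraicGeometry IsLocalRing

noncomputable section

namespace Groth.Agent.Henz21

variable {R : Type u} [CommRing R]

/-- For a closed map to the spectrum of a local ring, every point specializes to a point over the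
closed point. -/
theorem exists_specializes_closedPoint [IsLocalRing R] {P : Scheme.{u}}
    (h : P ⟶ Spec (CommRingCat.of R)) [UniversallyClosed h] (z : P) :
    ∃ z₀ : P, z ⤳ z₀ ∧ h.base z₀ = closedPoint R := by
  have hcl : IsClosed (h.base '' closure {z}) := h.isClosedMap _ isClosed_closure
  obtain ⟨z₀, hz₀, hz₀'⟩ :=
    (specializes_closedPoint (h.base z)).mem_closed hcl ⟨z, subset_closure rfl, rfl⟩
  exact ⟨z₀, specializes_iff_mem_closure.mpr hz₀, hz₀'⟩

variable {X : Scheme.{u}} (f : X ⟶ Spec (CommRingCat.of R))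

/-- A finite open part lies in every open containing the points over the closed point. -/
theorem exists_specializes_of_mem [IsLocalRing R] (W : X.Opens) [IsFinite (W.ι ≫ f)] {x : X}
    (hx : x ∈ W) : ∃ x₀ : X, x ⤳ x₀ ∧ x₀ ∈ W ∧ f.base x₀ = closedPoint R := by
  obtain ⟨z, hz, hz'⟩ := exists_specializes_closedPoint (W.ι ≫ f) ⟨x, hx⟩
  exact ⟨z.1, hz.map W.ι.continuous, z.2, hz'⟩

theorem le_of_closedPoint [IsLocalRing R] (W V : X.Opens) [IsFinite (W.ι ≫ f)]
    (hV : ∀ x : X, f.base x = closedPoint R → x ∈ V) : W ≤ V := fun x hx => by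
  obtain ⟨x₀, h, -, h'⟩ := exists_specializes_of_mem f W hx
  exact h.mem_open V.2 (hV _ h')

/-- Open subsets of the spectrum of an algebra integral over a henselian local ring which meet the
closed fibre in a finite set contain a clopen with the same trace on the closed fibre. -/
theorem exists_idempotent_of_finite [HenselianLocalRing R] {B : Type u} [CommRing B] [Algebra R B]
    [Algebra.IsIntegral R B] {U : Set (PrimeSpectrum B)} (hU : IsOpen U)
    (hfin : {q ∈ U | q.asIdeal.comap (algebraMap R B) = maximalIdeal R}.Finite) :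
    ∃ ε : B, IsIdempotentElem ε ∧ ↑(PrimeSpectrum.basicOpen ε) ⊆ U ∧
      ∀ q ∈ U, q.asIdeal.comap (algebraMap R B) = maximalIdeal R → q ∈ PrimeSpectrum.basicOpen ε := by
  haveI : HenselianRing R (maximalIdeal R) := inferInstance
  let J := (maximalIdeal R).map (algebraMap R B)
  let π := PrimeSpectrum.comap (Ideal.Quotient.mk J)
  have hπ : ∀ q' : PrimeSpectrum (B ⧸ J),
      (π q').asIdeal.comap (algebraMap R B) = maximalIdeal R := fun q' => by
    refine ((maximalIdeal.isMaximal R).eq_of_le (Ideal.IsPrime.ne_top inferInstance) ?_).symm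
    refine Ideal.map_le_iff_le_comap.mp fun b hb => ?_
    show Ideal.Quotient.mk J b ∈ q'.asIdeal
    rw [Ideal.Quotient.eq_zero_iff_mem.mpr hb]
    exact zero_mem _
  have hmax : ∀ q : PrimeSpectrum B, q.asIdeal.comap (algebraMap R B) = maximalIdeal R →
      q.asIdeal.IsMaximal := fun q hq =>
    Ideal.isMaximal_of_isIntegral_of_isMaximal_comap _ (hq ▸ maximalIdeal.isMaximal R)
  have hinj : Function.Injective π :=
    PrimeSpectrum.comap_injective_of_surjective _ Ideal.Quotient.mk_surjective
  have hclosed : IsClosed (π ⁻¹' U) := by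
    have h1 : π ⁻¹' U = π ⁻¹' {q ∈ U | q.asIdeal.comap (algebraMap R B) = maximalIdeal R} := by
      ext q'
      simp [hπ q']
    rw [h1]
    refine IsClosed.preimage (PrimeSpectrum.continuous_comap _) ?_
    rw [← Set.biUnion_of_singleton {q ∈ U | q.asIdeal.comap (algebraMap R B) = maximalIdeal R}]
    exact hfin.isClosed_biUnion fun q hq =>
      (PrimeSpectrum.isClosed_singleton_iff_isMaximal q).mpr (hmax q hq.2)
  obtain ⟨e', he', heq⟩ := PrimeSpectrum.exists_idempotent_basicOpen_eq_of_isClopen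
    (R := B ⧸ J) ⟨hclosed, hU.preimage (PrimeSpectrum.continuous_comap _)⟩
  obtain ⟨e, rfl⟩ := Ideal.Quotient.mk_surjective e'
  obtain ⟨ε, hε, hεe⟩ := Hens22.exists_idempotent_lift (maximalIdeal R) (e := e)
    (by rw [← Ideal.Quotient.eq, map_mul]; exact he'.eq)
  have key : ∀ q : PrimeSpectrum B, q.asIdeal.comap (algebraMap R B) = maximalIdeal R →
      (q ∈ PrimeSpectrum.basicOpen ε ↔ q ∈ U) := fun q hq => by
    have hJq : J ≤ q.asIdeal := Ideal.map_le_iff_le_comap.mpr hq.ge
    obtain ⟨q', rfl⟩ : q ∈ Set.range π := by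
      rw [range_comap_of_surjective _ _ Ideal.Quotient.mk_surjective, Ideal.mk_ker]
      exact hJq
    have h2 : q' ∈ π ⁻¹' U ↔ q' ∈ PrimeSpectrum.basicOpen (Ideal.Quotient.mk J e) := by
      rw [heq]; rfl
    refine Iff.trans ?_ h2.symm
    rw [PrimeSpectrum.mem_basicOpen, PrimeSpectrum.mem_basicOpen,
      ← (Ideal.Quotient.eq (I := J)).mpr hεe]
    rfl
  refine ⟨ε, hε, fun q hq => ?_, fun q hqU hq => (key q hq).mpr hqU⟩
  obtain ⟨M, hM, hle⟩ := Ideal.exists_le_maximal q.asIdeal q.isPrime.ne_top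
  have hMm : M.comap (algebraMap R B) = maximalIdeal R :=
    eq_maximalIdeal (Ideal.isMaximal_comap_of_isIntegral_of_isMaximal M)
  have hεM : ε ∉ M := fun h => by
    have h1 : ε * (1 - ε) ∈ q.asIdeal := by
      rw [mul_sub, mul_one, hε.eq, sub_self]; exact zero_mem _
    rcases q.isPrime.mem_or_mem h1 with h2 | h2
    · exact hq h2
    · exact hM.ne_top ((Ideal.eq_top_iff_one _).mpr (by simpa using M.add_mem h (hle h2)))
  exact (PrimeSpectrum.le_iff_specializes q ⟨M, hM.isPrime⟩).mp hle |>.mem_open hU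
    ((key ⟨M, hM.isPrime⟩ hMm).mp hεM)

/-- The finite part of a quasi-finite separated scheme over a henselian local ring. -/
theorem exists_finitePart [HenselianLocalRing R] [LocallyQuasiFinite f] [LocallyOfFiniteType f]
    [QuasiCompact f] [IsSeparated f] :
    ∃ W : X.Opens, IsClosed (W : Set X) ∧ IsFinite (W.ι ≫ f) ∧
      ∀ x : X, f.base x = closedPoint R → x ∈ W := by
  haveI : IsAffine f.normalization := isAffine_of_isAffineHom f.fromNormalization
  let j := f.toNormalization ≫ f.normalization.isoSpec.hom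
  let g := f.normalization.isoSpec.inv ≫ f.fromNormalization
  have hjg : j ≫ g = f := by simp [j, g]
  haveI hg : IsIntegralHom g := inferInstance
  let φ := Spec.preimage g
  have hφ : Spec.map φ = g := Spec.map_preimage _
  letI : Algebra R Γ(f.normalization, ⊤) := φ.hom.toAlgebra
  haveI : Algebra.IsIntegral R Γ(f.normalization, ⊤) :=
    ⟨(IsIntegralHom.SpecMap_iff (φ := φ)).mp (hφ.symm ▸ hg)⟩
  have hcl : ∀ q : PrimeSpectrum Γ(f.normalization, ⊤),
      q.asIdeal.comap (algebraMap R Γ(f.normalization, ⊤)) = maximalIdeal R ↔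
        g.base q = closedPoint R := fun q => by
    rw [← hφ]
    exact ⟨fun h => PrimeSpectrum.ext h, fun h => congrArg PrimeSpectrum.asIdeal h⟩
  have hfin : {q ∈ Set.range j.base |
      q.asIdeal.comap (algebraMap R Γ(f.normalization, ⊤)) = maximalIdeal R}.Finite := by
    refine ((f.finite_preimage_singleton (closedPoint R)).image j.base).subset ?_
    rintro _ ⟨⟨x, rfl⟩, hx⟩
    refine ⟨x, ?_, rfl⟩
    show f.base x = closedPoint R
    rw [← (hcl _).mp hx]
    show f.base x = (j ≫ g).base x
    rw [hjg]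
  obtain ⟨ε, hε, hsub, hmem⟩ := exists_idempotent_of_finite (R := R)
    j.isOpenEmbedding.isOpen_range hfin
  have hclopen : IsClosed (PrimeSpectrum.basicOpen ε : Set (PrimeSpectrum Γ(f.normalization, ⊤))) :=
    (PrimeSpectrum.isClopen_iff.mpr ⟨ε, hε, rfl⟩).1
  let W : X.Opens := j ⁻¹ᵁ PrimeSpectrum.basicOpen ε
  refine ⟨W, hclopen.preimage j.continuous, ?_, fun x hx => ?_⟩
  · have hrange : Set.range (W.ι ≫ j).base =
        (PrimeSpectrum.basicOpen ε : Set (PrimeSpectrum Γ(f.normalization, ⊤))) :=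
      Set.ext fun q => ⟨fun ⟨x, hx⟩ => hx ▸ x.2, fun hq => by
        obtain ⟨x, rfl⟩ := hsub hq
        exact ⟨⟨x, hq⟩, rfl⟩⟩
    haveI : IsClosedImmersion (W.ι ≫ j) :=
      IsClosedImmersion.of_isPreimmersion _ (hrange ▸ hclopen)
    rw [IsFinite.iff_isIntegralHom_and_locallyOfFiniteType]
    refine ⟨?_, inferInstance⟩
    rw [← hjg, ← Category.assoc]
    infer_instance
  · refine hmem _ ⟨x, rfl⟩ ((hcl _).mpr ?_)
    show (j ≫ g).base x = _
    rw [hjg]
    exact hx

/-- Points of a fibre product with both projections in finite parts specialize to the closed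
fibre, staying in every open containing it. -/
theorem mem_of_pullback [IsLocalRing R] {Y : Scheme.{u}} (f' : Y ⟶ Spec (CommRingCat.of R))
    (WX : X.Opens) [IsFinite (WX.ι ≫ f)] (WY : Y.Opens) [IsFinite (WY.ι ≫ f')]
    (V : (pullback f f').Opens)
    (hV : ∀ z : ↥(pullback f f'), (pullback.fst f f' ≫ f).base z = closedPoint R → z ∈ V)
    (z : ↥(pullback f f')) (h₁ : (pullback.fst f f').base z ∈ WX)
    (h₂ : (pullback.snd f f').base z ∈ WY) : z ∈ V := by
  let m := pullback.map (WX.ι ≫ f) (WY.ι ≫ f') f f' WX.ι WY.ι (𝟙 _) (by simp) (by simp)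
  obtain ⟨t, rfl⟩ : z ∈ Set.range m.base := by
    rw [Scheme.Pullback.range_map, Scheme.Opens.range_ι, Scheme.Opens.range_ι]
    exact ⟨h₁, h₂⟩
  obtain ⟨t₀, ht, ht'⟩ := exists_specializes_closedPoint (pullback.fst _ _ ≫ (WX.ι ≫ f)) t
  refine (ht.map m.continuous).mem_open V.2 (hV _ ?_)
  rw [← ht']
  have hm : m ≫ pullback.fst f f' ≫ f = pullback.fst _ _ ≫ WX.ι ≫ f :=
    pullback.lift_fst_assoc _ _ _ _
  exact congrArg (fun k => k.base t₀) hm

end Groth.Agent.Henz21
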