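import Groth.Agent.Hensel20.Jacobian
import Groth.Agent.Henz21.FiniteLocal
import Groth.Agent.EtAlg23.HenselBasic
import Mathlib.RingTheory.IntegralClosure.IntegrallyClosed
import Mathlib.FieldTheory.Minpoly.IsIntegrallyClosed
import Mathlib.FieldTheory.PrimitiveElement
import Mathlib.RingTheory.DedekindDomain.IntegralClosure
import Mathlib.RingTheory.DiscreteValuationRing.Basic

/-! A finite separable extension of a complete discrete valuation ring is determined modulo a
high power of the uniformizer. -/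

set_option autoImplicit false
set_option linter.style.haveILetI false

universe u

open Polynomial IsLocalRing

namespace Groth.Agent.Henz21

/-- One variable Hensel lemma for arbitrary polynomials. -/
theorem exists_root_of_derivative {C : Type u} [CommRing C] {I : Ideal C} [HenselianRing C I]
    (P : C[X]) (h0 : P.eval 0 ∈ I) (h1 : IsUnit (Ideal.Quotient.mk I (P.derivative.eval 0))) :
    ∃ w : C, P.eval w = 0 := by
  let G : Fin 1 → MvPolynomial (Fin 1) C := fun _ => aeval (MvPolynomial.X 0) P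
  have hev : ∀ (x : Fin 1 → C) (Q : C[X]),
      MvPolynomial.aeval x (aeval (MvPolynomial.X 0 : MvPolynomial (Fin 1) C) Q) = Q.eval (x 0) :=
    fun x Q => by rw [← aeval_algHom_apply, MvPolynomial.aeval_X]; simp
  have hd : MvPolynomial.pderiv (0 : Fin 1) (aeval (MvPolynomial.X 0) P : MvPolynomial (Fin 1) C) =
      aeval (MvPolynomial.X 0) (derivative P) := by
    induction P using Polynomial.induction_on' with
    | add p q hp hq => simp [hp, hq]
    | monomial n a =>
      simp [derivative_monomial, aeval_monomial, MvPolynomial.pderiv_X_self, mul_assoc]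
  obtain ⟨x, hx, -⟩ := Hensel20.exists_root_of_jacobian (I := I) G (fun _ => 0)
    (fun j => by rw [hev]; exact h0) (by
      rw [← Hensel20.det_jac, Matrix.det_fin_one, Matrix.of_apply, hd, hev]
      exact h1)
  exact ⟨x 0, (hev x P).symm.trans (hx 0)⟩

/-- Newton approximation with a non-unit derivative. -/
theorem exists_root_near {C : Type u} [CommRing C] [HenselianLocalRing C] (g : C[X]) (π c d z : C)
    (e : ℕ) (hπ : π ∈ maximalIdeal C) (hd : g.derivative.eval c * d = π ^ e)
    (hc : g.eval c = π ^ (2 * e + 2) * z) :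
    ∃ ξ, g.eval ξ = 0 ∧ π ^ (e + 1) ∣ ξ - c := by
  haveI : HenselianRing C (maximalIdeal C) := inferInstance
  let T := g.comp (X + Polynomial.C c)
  have hT0 : T.coeff 0 = g.eval c := by rw [coeff_zero_eq_eval_zero, eval_comp]; simp
  have hT1 : T.coeff 1 = g.derivative.eval c := by
    have := congrArg (fun p => p.eval (0 : C)) (derivative_comp g (X + Polynomial.C c))
    simp only [eval_mul, eval_comp] at this
    rw [show (derivative T).eval 0 = T.coeff 1 by
      rw [← coeff_zero_eq_eval_zero, coeff_derivative]; simp] at this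
    simpa using this
  obtain ⟨R, hR⟩ : X ^ 2 ∣ T - Polynomial.C (T.coeff 0) - Polynomial.C (T.coeff 1) * X := by
    rw [X_pow_dvd_iff]
    intro k hk
    interval_cases k <;> simp
  let P : C[X] := Polynomial.C (π * z) + X +
    X ^ 2 * (Polynomial.C (π * d ^ 2) * R.comp (Polynomial.C (d * π ^ (e + 1)) * X))
  obtain ⟨w, hw⟩ := exists_root_of_derivative (I := maximalIdeal C) P
    (by rw [show P.eval 0 = π * z by simp [P]]; exact Ideal.mul_mem_right z _ hπ)
    (by simp only [P]; simp [derivative_mul])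
  refine ⟨c + d * π ^ (e + 1) * w, ?_, ⟨d * w, by ring⟩⟩
  have hg : T.eval (d * π ^ (e + 1) * w) = g.eval (c + d * π ^ (e + 1) * w) := by
    rw [eval_comp]; simp [add_comm]
  rw [← hg]
  have hTe := congrArg (fun p => p.eval (d * π ^ (e + 1) * w)) hR
  simp only [eval_sub, eval_mul, eval_C, eval_X, eval_pow] at hTe
  rw [hT0, hT1, hc] at hTe
  have hwe : π * z + w + w ^ 2 * (π * d ^ 2 * R.eval (d * π ^ (e + 1) * w)) = 0 := by
    rw [← hw]; simp [P, eval_comp]
  linear_combination hTe + π ^ (e + 1) * w * hd + π ^ (2 * e + 1) * hwe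

variable {A : Type u} [CommRing A] [IsDomain A] [IsDiscreteValuationRing A]
  {B : Type u} [CommRing B] [IsDomain B] [Algebra A B] [Algebra.IsIntegral A B]
  [FaithfulSMul A B]

/-- Recognizing an extension modulo a power of the uniformizer, given a conductor exponent. -/
theorem nonempty_algEquiv_of_quotient (ϖ : A) (hϖ : Irreducible ϖ)
    [IsAdicComplete (maximalIdeal A) A] (θ : B) (e : ℕ)
    (he : ∀ b : B, ∃ p : A[X], aeval θ p = algebraMap A B (ϖ ^ e) * b) (b₀ : B)
    (hb₀ : aeval θ (minpoly A θ).derivative * b₀ = algebraMap A B (ϖ ^ e))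
    (C : Type u) [CommRing C] [IsDomain C] [IsLocalRing C] [Algebra A C] [Module.Finite A C]
    (m : ℕ) (hm : 2 * e + 2 ≤ m)
    (φ : (B ⧸ Ideal.span {algebraMap A B (ϖ ^ m)}) ≃ₐ[A] (C ⧸ Ideal.span {algebraMap A C (ϖ ^ m)})) :
    Nonempty (B ≃ₐ[A] C) := by
  haveI : HenselianLocalRing A := EtAlg23.henselianLocalRing_of_henselianRing A
  haveI : Algebra.IsIntegral A C := Algebra.IsIntegral.of_finite A C
  haveI : IsLocalHom (algebraMap A C) :=
    ((local_hom_TFAE _).out 0 4).mpr
      (eq_maximalIdeal (Ideal.isMaximal_comap_of_isIntegral_of_isMaximal (maximalIdeal C)))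
  haveI : HenselianLocalRing C := henselianLocalRing_of_isIntegral (A := A)
  set π : C := algebraMap A C ϖ with hπdef
  have hπ : π ∈ maximalIdeal C := by
    rw [mem_maximalIdeal, mem_nonunits_iff, isUnit_map_iff]
    exact hϖ.not_isUnit
  have hπ0 : π ≠ 0 := fun h => by
    have hB : IsReduced (B ⧸ Ideal.span {algebraMap A B (ϖ ^ m)}) := by
      have hC : IsReduced (C ⧸ Ideal.span {algebraMap A C (ϖ ^ m)}) := by
        rw [map_pow, ← hπdef, h, zero_pow (by omega), Ideal.span_singleton_eq_bot.mpr rfl]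
        exact isReduced_of_injective (RingEquiv.quotientBot C) (RingEquiv.injective _)
      exact isReduced_of_injective φ.toAlgHom.toRingHom φ.injective
    have h1 := hB.eq_zero (Ideal.Quotient.mk _ (algebraMap A B ϖ))
      ⟨m, by rw [← map_pow, ← map_pow]; exact Ideal.Quotient.eq_zero_iff_mem.mpr (Ideal.mem_span_singleton_self _)⟩
    rw [Ideal.Quotient.eq_zero_iff_mem, Ideal.mem_span_singleton] at h1
    obtain ⟨b, hb⟩ := h1
    obtain ⟨k, rfl⟩ : ∃ k, m = k + 2 := ⟨m - 2, by omega⟩
    rw [show algebraMap A B (ϖ ^ (k + 2)) * b =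
      algebraMap A B ϖ * (algebraMap A B ϖ * (algebraMap A B (ϖ ^ k) * b)) by
        simp only [map_pow]; ring] at hb
    have h2 : algebraMap A B ϖ ≠ 0 :=
      (map_ne_zero_iff _ (FaithfulSMul.algebraMap_injective A B)).mpr hϖ.ne_zero
    have h3 : IsUnit (algebraMap A B ϖ) := .of_mul_eq_one (algebraMap A B (ϖ ^ k) * b)
      (mul_left_cancel₀ h2 (by rw [mul_one]; exact hb.symm))
    obtain ⟨M, hM, hle⟩ :=
      Ideal.exists_maximal_ideal_liesOver_of_isIntegral (S := B) (maximalIdeal A)
    exact hM.ne_top (M.eq_top_of_isUnit_mem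
      ((Ideal.mem_of_liesOver M (maximalIdeal A) ϖ).mp ((mem_maximalIdeal ϖ).mpr hϖ.not_isUnit)) h3)
  obtain ⟨c, hc⟩ := Ideal.Quotient.mk_surjective (φ (Ideal.Quotient.mk _ θ))
  have hφ : ∀ p : A[X], φ (Ideal.Quotient.mk _ (aeval θ p)) = Ideal.Quotient.mk _ (aeval c p) :=
    fun p => by
      show φ.toAlgHom (Ideal.Quotient.mkₐ A _ (aeval θ p)) =
        Ideal.Quotient.mkₐ A _ (aeval c p)
      rw [← aeval_algHom_apply, ← aeval_algHom_apply, ← aeval_algHom_apply]
      exact congrArg (fun x => aeval x p) hc.symm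
  have hdiv : ∀ x : C, Ideal.Quotient.mk (Ideal.span {algebraMap A C (ϖ ^ m)}) x = 0 →
      π ^ m ∣ x := fun x hx => by
    rwa [Ideal.Quotient.eq_zero_iff_mem, Ideal.mem_span_singleton, map_pow] at hx
  let g : C[X] := (minpoly A θ).map (algebraMap A C)
  have hge : ∀ (q : A[X]) (x : C), (q.map (algebraMap A C)).eval x = aeval x q := fun q x => by
    rw [eval_map, aeval_def]
  -- the approximate root and derivative
  obtain ⟨z, hz⟩ : π ^ (2 * e + 2) ∣ g.eval c := (pow_dvd_pow π hm).trans (hdiv _ (by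
    rw [hge, ← hφ, minpoly.aeval, map_zero, map_zero]))
  obtain ⟨d₁, hd₁⟩ := Ideal.Quotient.mk_surjective (φ (Ideal.Quotient.mk _ b₀))
  obtain ⟨t, ht⟩ := hdiv (g.derivative.eval c * d₁ - π ^ e) (by
    rw [derivative_map, hge, map_sub, map_mul, ← hφ, hd₁, ← map_mul φ, ← map_mul, hb₀, sub_eq_zero]
    exact (φ.commutes (ϖ ^ e)).trans (by rw [← map_pow]; rfl))
  have hu : IsUnit (1 + π ^ (m - e) * t) :=
    notMem_maximalIdeal.mp fun h => (maximalIdeal.isMaximal C).ne_top
      ((Ideal.eq_top_iff_one _).mpr (by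
        simpa using (maximalIdeal C).sub_mem h
          (Ideal.mul_mem_right t _ (Ideal.pow_mem_of_mem _ hπ (m - e) (by omega)))))
  have hd : g.derivative.eval c * (d₁ * (hu.unit⁻¹ : Cˣ)) = π ^ e := by
    have : g.derivative.eval c * d₁ = π ^ e * (1 + π ^ (m - e) * t) := by
      rw [mul_add, mul_one, ← mul_assoc, ← pow_add, Nat.add_sub_cancel' (by omega), ← ht]; ring
    rw [← mul_assoc, this, mul_assoc, IsUnit.mul_val_inv, mul_one]
  obtain ⟨ξ, hξ, hξc⟩ := exists_root_near g π c _ z e hπ hd hz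
  have hker : ∀ q : A[X], aeval θ q = 0 → aeval ξ q = 0 := fun q hq => by
    obtain ⟨r, rfl⟩ := minpoly.isIntegrallyClosed_dvd (Algebra.IsIntegral.isIntegral θ) hq
    rw [map_mul, ← hge (minpoly A θ), hξ, zero_mul]
  have hπe : π ^ e ≠ 0 := pow_ne_zero _ hπ0
  -- the map
  have key : ∀ b : B, ∃ (w : C), (∀ p : A[X], aeval θ p = algebraMap A B (ϖ ^ e) * b →
      aeval ξ p = π ^ e * w) ∧
      Ideal.Quotient.mk (Ideal.span {π}) w =
        Ideal.Quotient.mk (Ideal.span {π}) (Ideal.Quotient.mk_surjective (φ (Ideal.Quotient.mk _ b))).choose := by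
    intro b
    obtain ⟨p, hp⟩ := he b
    have hspec := (Ideal.Quotient.mk_surjective (φ (Ideal.Quotient.mk _ b))).choose_spec
    set w₀ := (Ideal.Quotient.mk_surjective (φ (Ideal.Quotient.mk _ b))).choose
    obtain ⟨s, hs⟩ := hdiv (aeval c p - π ^ e * w₀) (by
      rw [map_sub, ← hφ, hp, map_mul, map_mul, map_mul, hspec, sub_eq_zero]
      congr 1
      exact (φ.commutes (ϖ ^ e)).trans (by rw [← map_pow]; rfl))
    obtain ⟨r, hr⟩ := hξc.trans (sub_dvd_eval_sub ξ c (p.map (algebraMap A C)))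
    rw [hge, hge] at hr
    refine ⟨w₀ + π * (π ^ (m - e - 1) * s + r), fun p' hp' => ?_, ?_⟩
    · have h1 : aeval ξ p' = aeval ξ p := sub_eq_zero.mp (by
        rw [← map_sub]; exact hker _ (by rw [map_sub, hp, hp', sub_self]))
      have h2 : π ^ m = π ^ e * π * π ^ (m - e - 1) := by
        rw [← pow_succ, ← pow_add]; congr 1; omega
      rw [h2] at hs
      rw [h1]
      linear_combination hs + hr
    · rw [Ideal.Quotient.eq, add_sub_cancel_left]
      exact Ideal.mul_mem_right _ _ (Ideal.mem_span_singleton_self π)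
  choose ψ hψ hψmod using key
  have huniq : ∀ b w, (∃ p, aeval θ p = algebraMap A B (ϖ ^ e) * b ∧ aeval ξ p = π ^ e * w) →
      ψ b = w := fun b w ⟨p, h1, h2⟩ => mul_left_cancel₀ hπe ((hψ b p h1).symm.trans h2)
  have halg : ∀ a : A, ψ (algebraMap A B a) = algebraMap A C a := fun a =>
    huniq _ _ ⟨Polynomial.C (ϖ ^ e * a), by rw [aeval_C, map_mul], by rw [aeval_C, map_mul, map_pow]⟩
  let ψ' : B →ₐ[A] C :=
    { toFun := ψ
      map_one' := by simpa using halg 1
      map_mul' := fun x y => by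
        obtain ⟨p, hp⟩ := he x
        obtain ⟨q, hq⟩ := he y
        obtain ⟨r, hr⟩ := he (x * y)
        have h1 := hker (Polynomial.C (ϖ ^ e) * r - p * q) (by
          rw [map_sub, map_mul, map_mul, aeval_C, hp, hq, hr]; ring)
        rw [map_sub, map_mul, map_mul, aeval_C, hψ _ p hp, hψ _ q hq, hψ _ r hr, map_pow,
          sub_eq_zero] at h1
        refine mul_left_cancel₀ hπe (mul_left_cancel₀ hπe ?_)
        linear_combination h1
      map_zero' := by simpa using halg 0
      map_add' := fun x y => by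
        obtain ⟨p, hp⟩ := he x
        obtain ⟨q, hq⟩ := he y
        exact huniq _ _ ⟨p + q, by rw [map_add, hp, hq, mul_add],
          by rw [map_add, hψ _ p hp, hψ _ q hq, mul_add]⟩
      commutes' := halg }
  refine ⟨AlgEquiv.ofBijective ψ' ⟨?_, ?_⟩⟩
  · rw [RingHom.injective_iff_ker_eq_bot]
    haveI : (RingHom.ker ψ').IsPrime := RingHom.ker_isPrime _
    refine Ideal.eq_bot_of_comap_eq_bot (R := A) ((Submodule.eq_bot_iff _).mpr fun a ha => ?_)
    by_contra ha0
    obtain ⟨n, u, rfl⟩ := IsDiscreteValuationRing.eq_unit_mul_pow_irreducible ha0 hϖ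
    rw [Ideal.mem_comap, RingHom.mem_ker, AlgHom.commutes, map_mul, map_pow] at ha
    exact pow_ne_zero n hπ0 ((mul_eq_zero.mp ha).resolve_left (u.isUnit.map _).ne_zero)
  · have htop : (⊤ : Submodule A C) ≤ LinearMap.range ψ'.toLinearMap ⊔ maximalIdeal A • ⊤ := by
      rintro y -
      obtain ⟨b, hb⟩ := Ideal.Quotient.mk_surjective (φ.symm (Ideal.Quotient.mk _ y))
      have h1 := (Ideal.Quotient.mk_surjective (φ (Ideal.Quotient.mk _ b))).choose_spec
      have h3 := hψmod b
      set w₀ := (Ideal.Quotient.mk_surjective (φ (Ideal.Quotient.mk _ b))).choose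
      rw [hb, AlgEquiv.apply_symm_apply, Ideal.Quotient.eq, Ideal.mem_span_singleton, map_pow] at h1
      obtain ⟨s, hs⟩ := h1
      rw [Ideal.Quotient.eq, Ideal.mem_span_singleton] at h3
      obtain ⟨r, hr⟩ := h3
      obtain ⟨k, rfl⟩ : ∃ k, m = k + 1 := ⟨m - 1, by omega⟩
      refine Submodule.mem_sup.mpr ⟨ψ b, ⟨b, rfl⟩, ϖ • (-r - π ^ k * s),
        Submodule.smul_mem_smul ((mem_maximalIdeal ϖ).mpr hϖ.not_isUnit) trivial, ?_⟩
      rw [Algebra.smul_def]
      linear_combination hr + hs
    intro y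
    exact Submodule.le_of_le_smul_of_le_jacobson_bot Module.Finite.fg_top
      (maximalIdeal_le_jacobson _) htop (Submodule.mem_top (x := y))

end Groth.Agent.Henz21
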