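import Groth.Agent.Henz21.KrasnerDVR
import Mathlib.RingTheory.Localization.Integral

/-! An integral generator with a conductor exponent. -/

set_option autoImplicit false
set_option linter.style.haveILetI false

universe u

open Polynomial

namespace Groth.Agent.Henz21

variable {A : Type u} [CommRing A] [IsDomain A] [IsDiscreteValuationRing A]

theorem exists_generator_conductor (ϖ : A) (hϖ : Irreducible ϖ)
    (K : Type u) [Field K] [Algebra A K] [IsFractionRing A K]
    (L : Type u) [Field L] [Algebra K L] [Algebra A L] [IsScalarTower A K L]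
    [FiniteDimensional K L] [Algebra.IsSeparable K L]
    {B : Type u} [CommRing B] [Algebra A B] [Algebra B L] [IsScalarTower A B L]
    [IsIntegralClosure B A L] :
    ∃ (θ : B) (e : ℕ), (∀ b : B, ∃ p : A[X], aeval θ p = algebraMap A B (ϖ ^ e) * b) ∧
      ∃ b₀ : B, aeval θ (minpoly A θ).derivative * b₀ = algebraMap A B (ϖ ^ e) := by
  classical
  haveI : Module.Finite A B := IsIntegralClosure.finite A K L B
  haveI : Algebra.IsIntegral A B := Algebra.IsIntegral.of_finite A B
  have hBL : Function.Injective (algebraMap B L) := IsIntegralClosure.algebraMap_injective B A L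
  haveI : IsDomain B := hBL.isDomain
  haveI : Algebra.IsAlgebraic K L := Algebra.IsAlgebraic.of_finite K L
  -- every non-zero element of `A` divides a power of the uniformizer
  have hpow : ∀ a : A, a ≠ 0 → ∃ (n : ℕ) (r : A), r * a = ϖ ^ n := fun a ha => by
    obtain ⟨n, v, rfl⟩ := IsDiscreteValuationRing.eq_unit_mul_pow_irreducible ha hϖ
    exact ⟨n, ↑v⁻¹, by rw [← mul_assoc, Units.inv_mul, one_mul]⟩
  obtain ⟨α, hα⟩ := Field.exists_primitive_element K L
  obtain ⟨s, hs⟩ := IsIntegral.exists_multiple_integral_of_isLocalization (nonZeroDivisors A) (Rₘ := K) α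
    (Algebra.IsIntegral.isIntegral α)
  obtain ⟨θ, hθ⟩ : ∃ θ : B, algebraMap B L θ = s • α :=
    ⟨IsIntegralClosure.mk' B (s • α) hs, IsIntegralClosure.algebraMap_mk' B (s • α) hs⟩
  have hsK : algebraMap A K s ≠ 0 :=
    IsFractionRing.to_map_ne_zero_of_mem_nonZeroDivisors s.2
  have htop : Algebra.adjoin K {algebraMap B L θ} = ⊤ := by
    rw [← IntermediateField.adjoin_simple_toSubalgebra_of_isAlgebraic
      (Algebra.IsAlgebraic.isAlgebraic _), ← IntermediateField.top_toSubalgebra]
    congr 1
    refine le_antisymm le_top (hα ▸ IntermediateField.adjoin_simple_le_iff.mpr ?_)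
    have h1 : α = algebraMap K L (algebraMap A K s)⁻¹ * algebraMap B L θ := by
      rw [hθ, Submonoid.smul_def, Algebra.smul_def, IsScalarTower.algebraMap_apply A K L,
        ← mul_assoc, ← map_mul, inv_mul_cancel₀ hsK, map_one, one_mul]
    rw [h1]
    exact mul_mem (IntermediateField.algebraMap_mem _ _) (IntermediateField.mem_adjoin_simple_self _ _)
  -- conductor
  have hex : ∀ b : B, ∃ n, ∀ k ≥ n, ∃ p : A[X], aeval θ p = algebraMap A B (ϖ ^ k) * b := fun b => by
    have hb : algebraMap B L b ∈ Algebra.adjoin K {algebraMap B L θ} := htop ▸ Algebra.mem_top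
    rw [Algebra.adjoin_singleton_eq_range_aeval] at hb
    obtain ⟨q, hq⟩ := hb
    obtain ⟨t, ht⟩ := IsLocalization.integerNormalization_map_to_map (nonZeroDivisors A) q
    obtain ⟨n, r, hr⟩ := hpow t (nonZeroDivisors.ne_zero t.2)
    refine ⟨n, fun k hk => ⟨Polynomial.C (ϖ ^ (k - n) * r) * IsLocalization.integerNormalization (nonZeroDivisors A) q, hBL ?_⟩⟩
    rw [← aeval_algebraMap_apply, map_mul (algebraMap B L), ← IsScalarTower.algebraMap_apply A B L,
      map_mul (aeval (algebraMap B L θ)), aeval_C,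
      ← aeval_map_algebraMap K (algebraMap B L θ), ht, ← algebraMap_smul K, map_smul,
      show aeval (algebraMap B L θ) q = algebraMap B L b from hq, algebraMap_smul, Algebra.smul_def,
      ← mul_assoc, ← map_mul, mul_assoc, hr, ← pow_add, Nat.sub_add_cancel hk]
  choose N hN using hex
  obtain ⟨G, hG⟩ := ‹Module.Finite A B›.fg_top
  -- derivative
  have hsep : aeval (algebraMap B L θ) (minpoly K (algebraMap B L θ)).derivative ≠ 0 :=
    (Algebra.IsSeparable.isSeparable K _).aeval_derivative_ne_zero (minpoly.aeval _ _)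
  obtain ⟨t, ht⟩ := IsIntegral.exists_multiple_integral_of_isLocalization (nonZeroDivisors A) (Rₘ := K)
    (aeval (algebraMap B L θ) (minpoly K (algebraMap B L θ)).derivative)⁻¹
    (Algebra.IsIntegral.isIntegral _)
  obtain ⟨d, hd⟩ : ∃ d : B, algebraMap B L d = _ :=
    ⟨IsIntegralClosure.mk' B _ ht, IsIntegralClosure.algebraMap_mk' B _ ht⟩
  obtain ⟨n₀, r, hr⟩ := hpow t (nonZeroDivisors.ne_zero t.2)
  refine ⟨θ, G.sup N + n₀, fun b => ?_, ⟨algebraMap A B (ϖ ^ (G.sup N) * r) * d, hBL ?_⟩⟩
  · have hb : b ∈ Submodule.span A (G : Set B) := hG ▸ trivial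
    induction hb using Submodule.span_induction with
    | mem x hx => exact hN x _ ((Finset.le_sup hx).trans (Nat.le_add_right _ _))
    | zero => exact ⟨0, by simp⟩
    | add x y _ _ hx hy =>
      obtain ⟨p, hp⟩ := hx
      obtain ⟨q, hq⟩ := hy
      exact ⟨p + q, by rw [map_add, hp, hq, mul_add]⟩
    | smul a x _ hx =>
      obtain ⟨p, hp⟩ := hx
      exact ⟨a • p, by rw [map_smul, hp, mul_smul_comm]⟩
  · have hmin : minpoly A θ = minpoly A (algebraMap B L θ) :=
      (minpoly.algebraMap_eq hBL θ).symm
    have hmK : minpoly K (algebraMap B L θ) = (minpoly A θ).map (algebraMap A K) := by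
      rw [hmin]
      exact minpoly.isIntegrallyClosed_eq_field_fractions' K ((Algebra.IsIntegral.isIntegral θ).algebraMap)
    rw [map_mul, ← aeval_algebraMap_apply, map_mul, hd, ← IsScalarTower.algebraMap_apply,
      Submonoid.smul_def, Algebra.smul_def, hmK, derivative_map, aeval_map_algebraMap,
      ← mul_assoc (algebraMap A L (ϖ ^ G.sup N * r)), ← map_mul, mul_assoc (ϖ ^ G.sup N), hr,
      ← pow_add, ← IsScalarTower.algebraMap_apply, mul_left_comm, mul_inv_cancel₀, mul_one]
    rwa [hmK, derivative_map, aeval_map_algebraMap] at hsep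

end Groth.Agent.Henz21
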