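import Groth.Agent.Henz21.IntegralSh
import Mathlib.RingTheory.ZariskisMainTheorem

/-! Finiteness of maps of henselizations at a quasi-finite point. -/

set_option autoImplicit false
set_option linter.style.haveILetI false

universe u

open IsLocalRing TensorProduct

namespace Groth.Agent.Henz21

/-- At a quasi-finite point the local ring is a localization of a finite algebra over the base
local ring. -/
theorem exists_finite_subalgebra {R S A Sq : Type u} [CommRing R] [CommRing S] [Algebra R S]
    [Algebra.FiniteType R S] (q : Ideal S) [q.IsPrime] [Algebra.QuasiFiniteAt R q]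
    [CommRing A] [Algebra R A] [CommRing Sq] [Algebra S Sq] [IsLocalization.AtPrime Sq q]
    [Algebra R Sq] [IsScalarTower R S Sq] [Algebra A Sq] [IsScalarTower R A Sq] :
    ∃ B' : Subalgebra A Sq, Module.Finite A B' ∧
      ∀ x : Sq, ∃ b r : B', IsUnit (r : Sq) ∧ (r : Sq) * x = b := by
  classical
  obtain ⟨r, hrq, hr, hint⟩ := Algebra.zariskisMainProperty_iff.mp
    (Algebra.ZariskisMainProperty.of_finiteType (R := R) q)
  choose m hm using hint
  obtain ⟨s, hs⟩ := Algebra.FiniteType.out (R := R) (A := S)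
  let t : Set S := insert r ((fun x => r ^ m x * x) '' (s : Set S))
  have htf : t.Finite := (s.finite_toSet.image _).insert r
  let T : Subalgebra R S := Algebra.adjoin R t
  let f : S →ₐ[R] Sq := IsScalarTower.toAlgHom R S Sq
  let B' : Subalgebra A Sq := Algebra.adjoin A (f '' t)
  have hfin : Module.Finite A B' := ⟨(Submodule.fg_top _).mpr (fg_adjoin_of_finite (htf.image f) (by
    rintro _ ⟨x, hx, rfl⟩
    refine IsIntegral.tower_top (R := R) (IsIntegral.map f ?_)
    rcases hx with rfl | ⟨y, -, rfl⟩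
    exacts [hr, hm y]))⟩
  have hT : ∀ x ∈ T, f x ∈ B' := fun x hx => by
    have : T.map f ≤ B'.restrictScalars R := by
      rw [AlgHom.map_adjoin]
      exact Algebra.adjoin_le Algebra.subset_adjoin
    exact this ⟨x, hx, rfl⟩
  have hrT : r ∈ T := Algebra.subset_adjoin (Set.mem_insert _ _)
  have hall : ∀ x : S, ∃ k : ℕ, r ^ k * x ∈ T := fun x => by
    have hx : x ∈ Algebra.adjoin R (s : Set S) := hs ▸ Algebra.mem_top
    induction hx using Algebra.adjoin_induction with
    | mem x hx => exact ⟨m x, Algebra.subset_adjoin (Set.mem_insert_of_mem _ ⟨x, hx, rfl⟩)⟩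
    | algebraMap c => exact ⟨0, by simp⟩
    | add x y _ _ hx hy =>
      obtain ⟨k, hk⟩ := hx
      obtain ⟨l, hl⟩ := hy
      refine ⟨k + l, ?_⟩
      have : r ^ (k + l) * (x + y) = r ^ l * (r ^ k * x) + r ^ k * (r ^ l * y) := by ring
      rw [this]
      exact add_mem (mul_mem (pow_mem hrT _) hk) (mul_mem (pow_mem hrT _) hl)
    | mul x y _ _ hx hy =>
      obtain ⟨k, hk⟩ := hx
      obtain ⟨l, hl⟩ := hy
      refine ⟨k + l, ?_⟩
      have : r ^ (k + l) * (x * y) = (r ^ k * x) * (r ^ l * y) := by ring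
      rw [this]
      exact mul_mem hk hl
  refine ⟨B', hfin, fun y => ?_⟩
  obtain ⟨x, ⟨w, hw⟩, rfl⟩ := IsLocalization.exists_mk'_eq q.primeCompl y
  obtain ⟨k, hk⟩ := hall x
  obtain ⟨l, hl⟩ := hall w
  refine ⟨⟨_, hT _ (mul_mem (pow_mem hrT l) hk)⟩, ⟨_, hT _ (mul_mem (pow_mem hrT k) hl)⟩, ?_, ?_⟩
  · exact IsLocalization.map_units Sq (⟨_, q.primeCompl.mul_mem
      (pow_mem (show r ∈ q.primeCompl from hrq) k)
      (q.primeCompl.mul_mem (pow_mem (show r ∈ q.primeCompl from hrq) l) hw)⟩ : q.primeCompl)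
  · show algebraMap S Sq _ * _ = algebraMap S Sq _
    rw [show r ^ k * (r ^ l * w) = r ^ l * r ^ k * w by ring, map_mul, mul_assoc,
      IsLocalization.mk'_spec' (S := Sq) x (⟨w, hw⟩ : q.primeCompl), ← map_mul, mul_assoc]

/-- If the base change of a finite algebra surjects, the target is finite. -/
theorem finite_of_baseChange {A S Ash Ssh B' : Type u} [CommRing A] [IsLocalRing A] [CommRing S]
    [IsLocalRing S] [Algebra A S] [CommRing Ash] [IsLocalRing Ash] [Algebra A Ash]
    [IsLocalHom (algebraMap A Ash)] [CommRing Ssh] [IsLocalRing Ssh] [Algebra S Ssh]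
    [IsLocalHom (algebraMap S Ssh)] [Algebra A Ssh] [IsScalarTower A S Ssh] [CommRing B']
    [Algebra A B'] [Algebra B' S] [IsScalarTower A B' S] [Algebra Ash Ssh]
    [IsScalarTower A Ash Ssh] [IsLocalHom (IsScalarTower.toAlgHom A Ash Ssh).toRingHom]
    [Algebra.IsIntegral A B'] [Module.Finite A B']
    (h : Function.Surjective
      (baseChangeMap (S := S) (B' := B') (IsScalarTower.toAlgHom A Ash Ssh))) :
    Module.Finite Ash Ssh := by
  classical
  obtain ⟨G, hG⟩ := ‹Module.Finite A B'›.fg_top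
  let g : B' →ₗ[A] Ssh :=
    ((IsScalarTower.toAlgHom A S Ssh).comp (IsScalarTower.toAlgHom A B' S)).toLinearMap
  refine ⟨⟨G.image g, top_le_iff.mp fun y _ => ?_⟩⟩
  obtain ⟨z, rfl⟩ := h y
  clear * - hG
  induction z using TensorProduct.induction_on with
  | zero => rw [map_zero]; exact zero_mem _
  | add x y hx hy => rw [map_add]; exact add_mem hx hy
  | tmul b a =>
    have hb : g b ∈ Submodule.span A (g '' (G : Set B')) := by
      rw [Submodule.span_image, hG]; exact ⟨b, trivial, rfl⟩
    rw [Finset.coe_image, baseChangeMap_tmul, mul_comm]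
    show algebraMap Ash Ssh a * g b ∈ _
    rw [← Algebra.smul_def]
    exact Submodule.smul_mem _ a (Submodule.span_le_restrictScalars A Ash _ hb)

/-- The map of localizations at primes lying over each other is local. -/
theorem isLocalHom_atPrime {R S A Sq : Type u} [CommRing R] [CommRing S] [Algebra R S] (p : Ideal R)
    [p.IsPrime] (q : Ideal S) [q.IsPrime] [q.LiesOver p] [CommRing A] [IsLocalRing A] [Algebra R A]
    [IsLocalization.AtPrime A p] [CommRing Sq] [IsLocalRing Sq] [Algebra S Sq]
    [IsLocalization.AtPrime Sq q] [Algebra R Sq] [IsScalarTower R S Sq] [Algebra A Sq]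
    [IsScalarTower R A Sq] : IsLocalHom (algebraMap A Sq) := by
  refine ⟨fun a ha => ?_⟩
  obtain ⟨x, ⟨w, hw⟩, rfl⟩ := IsLocalization.exists_mk'_eq p.primeCompl a
  have h1 : IsUnit (algebraMap A Sq (algebraMap R A x)) := by
    rw [← IsLocalization.mk'_spec A x ⟨w, hw⟩, map_mul]
    exact ha.mul ((IsLocalization.map_units A (⟨w, hw⟩ : p.primeCompl)).map _)
  rw [← IsScalarTower.algebraMap_apply, IsScalarTower.algebraMap_apply R S Sq,
    IsLocalization.AtPrime.isUnit_to_map_iff Sq q] at h1
  have hx : x ∈ p.primeCompl := fun hx => h1 ((Ideal.mem_of_liesOver q p x).mp hx)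
  refine isUnit_of_mul_isUnit_left (y := algebraMap R A w) ?_
  rw [IsLocalization.mk'_spec A x ⟨w, hw⟩]
  exact IsLocalization.map_units A (⟨x, hx⟩ : p.primeCompl)

end Groth.Agent.Henz21
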