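import Mathlib.RingTheory.Localization.Away.Basic
import Mathlib.RingTheory.Ideal.Quotient.Operations
import Mathlib.RingTheory.Etale.Basic
import Mathlib.RingTheory.Spectrum.Prime.Topology
import Mathlib.RingTheory.Smooth.Locus
import Mathlib.RingTheory.RingHom.QuasiFinite
import Mathlib.RingTheory.ZariskisMainTheorem

/-! Shrinking an algebra around the closed subset of an ideal. -/

set_option autoImplicit false
set_option linter.style.haveILetI false

universe u

namespace Groth.Agent.Henz21

variable {R : Type u} [CommRing R]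

/-- If `g ≡ 1` modulo `J`, inverting `g` does not change the quotient by `J`. -/
theorem bijective_quotientMap_away {g : R} (J : Ideal R) (hg : g - 1 ∈ J) (L : Type u) [CommRing L]
    [Algebra R L] [IsLocalization.Away g L] :
    Function.Bijective (Ideal.quotientMap (J.map (algebraMap R L)) (algebraMap R L)
      Ideal.le_comap_map) := by
  have hpow : ∀ n : ℕ, g ^ n - 1 ∈ J := fun n =>
    J.mem_of_dvd (sub_one_dvd_pow_sub_one g n) hg
  constructor
  · rw [RingHom.injective_iff_ker_eq_bot, eq_bot_iff]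
    intro z hz
    obtain ⟨x, rfl⟩ := Ideal.Quotient.mk_surjective z
    rw [RingHom.mem_ker, Ideal.quotientMap_mk, Ideal.Quotient.eq_zero_iff_mem,
      IsLocalization.algebraMap_mem_map_algebraMap_iff (Submonoid.powers g)] at hz
    obtain ⟨m, ⟨n, rfl⟩, hm⟩ := hz
    rw [Ideal.mem_bot, Ideal.Quotient.eq_zero_iff_mem]
    have : x = g ^ n * x - (g ^ n - 1) * x := by ring
    rw [this]
    exact J.sub_mem hm (J.mul_mem_right _ (hpow n))
  · intro z
    obtain ⟨y, rfl⟩ := Ideal.Quotient.mk_surjective z
    obtain ⟨⟨x, _, n, rfl⟩, h⟩ := IsLocalization.surj (Submonoid.powers g) y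
    refine ⟨Ideal.Quotient.mk J x, ?_⟩
    rw [Ideal.quotientMap_mk, Ideal.Quotient.eq, ← h]
    have : y * algebraMap R L (g ^ n) - y = y * algebraMap R L (g ^ n - 1) := by
      rw [map_sub, map_one]; ring
    rw [this]
    exact Ideal.mul_mem_left _ _ (Ideal.mem_map_of_mem _ (hpow n))

/-- An open set containing `V(J)` contains a `D(g)` with `g ≡ 1` modulo `J`. -/
theorem exists_basicOpen_subset {J : Ideal R} {W : Set (PrimeSpectrum R)} (hW : IsOpen W)
    (hJ : PrimeSpectrum.zeroLocus (J : Set R) ⊆ W) :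
    ∃ g : R, g - 1 ∈ J ∧ ↑(PrimeSpectrum.basicOpen g) ⊆ W := by
  obtain ⟨K, hK⟩ := (PrimeSpectrum.isClosed_iff_zeroLocus_ideal Wᶜ).mp hW.isClosed_compl
  have h : K ⊔ J = ⊤ := by
    rw [← PrimeSpectrum.zeroLocus_empty_iff_eq_top, PrimeSpectrum.zeroLocus_sup, ← hK]
    exact Set.eq_empty_of_forall_notMem fun x hx => hx.1 (hJ hx.2)
  obtain ⟨g, hg, j, hj, hsum⟩ := Submodule.mem_sup.mp ((Ideal.eq_top_iff_one _).mp h)
  refine ⟨g, ?_, fun x hx => not_not.mp fun hxW => hx ?_⟩
  · rw [show g - 1 = -j by rw [← hsum]; ring]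
    exact J.neg_mem hj
  · exact (hK ▸ hxW : x ∈ PrimeSpectrum.zeroLocus (K : Set R)) hg

variable {A : Type u} [CommRing A] [Algebra A R]

/-- Quasi-finiteness near the closed subset `V(J)`. -/
theorem exists_quasiFinite_away [Algebra.FiniteType A R] (J : Ideal R)
    (h : ∀ (p : Ideal R) [p.IsPrime], J ≤ p → Algebra.QuasiFiniteAt A p) :
    ∃ g : R, g - 1 ∈ J ∧ Algebra.QuasiFinite A (Localization.Away g) := by
  classical
  let s : Set R := {r | Algebra.QuasiFinite A (Localization.Away r)}
  have htop : Ideal.span s ⊔ J = ⊤ := by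
    by_contra hne
    obtain ⟨m, hm, hle⟩ := Ideal.exists_le_maximal _ hne
    haveI := h m (le_sup_right.trans hle)
    obtain ⟨S', hS', r, hrm, hb⟩ :=
      Algebra.QuasiFiniteAt.exists_fg_and_exists_notMem_and_awayMap_bijective (R := A) m
    haveI : Module.Finite A S' := ⟨(Submodule.fg_top _).mpr hS'⟩
    haveI : Algebra.QuasiFinite A (Localization.Away r) := .trans _ S' _
    exact hrm (hle (Submodule.mem_sup_left (Ideal.subset_span
      (show (r : R) ∈ s from .of_surjective_algHom (Localization.awayMapₐ S'.val r) hb.2))))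
  obtain ⟨g, hg, j, hj, hsum⟩ := Submodule.mem_sup.mp ((Ideal.eq_top_iff_one _).mp htop)
  refine ⟨g, by rw [show g - 1 = -j by rw [← hsum]; ring]; exact J.neg_mem hj, ?_⟩
  let L := Localization.Away g
  have hspan : Ideal.span (algebraMap R L '' s) = ⊤ := by
    rw [← Ideal.map_span]
    exact Ideal.eq_top_of_isUnit_mem _ (Ideal.mem_map_of_mem _ hg)
      (IsLocalization.Away.algebraMap_isUnit g)
  rw [← RingHom.quasiFinite_algebraMap]
  refine RingHom.QuasiFinite.ofLocalizationSpanTarget (algebraMap A L) _ hspan ?_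
  rintro ⟨_, r, hr, rfl⟩
  let T := Localization.Away (algebraMap R L r)
  let L' := Localization.Away r
  let T' := Localization.Away (algebraMap R L' g)
  haveI : Algebra.QuasiFinite A L' := hr
  haveI : Algebra.QuasiFinite L' T' := .of_isLocalization (Submonoid.powers (algebraMap R L' g))
  haveI : Algebra.QuasiFinite A T' := .trans A L' T'
  haveI : IsLocalization.Away (g * r) T := IsLocalization.Away.mul' L T g r
  haveI : IsLocalization.Away (g * r) T' := IsLocalization.Away.mul L' T' r g
  rw [← IsScalarTower.algebraMap_eq, RingHom.quasiFinite_algebraMap]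
  exact (Algebra.QuasiFinite.iff_of_algEquiv
    ((IsLocalization.algEquiv (Submonoid.powers (g * r)) T' T).restrictScalars A)).mp ‹_›

end Groth.Agent.Henz21
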