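import Groth.Prelude.Def_Hensel
import Groth.Agent.Henz21.LocalProps
import Groth.Agent.Henz21.Unique
import Mathlib.RingTheory.LocalRing.ResidueField.Ideal

/-! `H R κ(p)` is a henselization of `R_p`. -/

universe u

open IsLocalRing

noncomputable section

namespace Groth.Agent.Henz21

variable (R : Type u) [CommRing R] (p : Ideal R) [p.IsPrime]

/-- The henselization of `R` at `p`. -/
abbrev HenselizationAt : Type u := H R p.ResidueField

namespace HenselizationAt

theorem isUnit_algebraMap {r : R} (hr : r ∉ p) :
    IsUnit (algebraMap R (HenselizationAt R p) r) := by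
  refine H.isUnit_of_isUnit_proj (IsUnit.mk0 _ ?_)
  rwa [AlgHom.commutes, Ne, Ideal.algebraMap_residueField_eq_zero]

instance algebraLocalization : Algebra (Localization.AtPrime p) (HenselizationAt R p) :=
  (IsLocalization.lift (M := p.primeCompl) (g := algebraMap R (HenselizationAt R p))
    fun y => isUnit_algebraMap R p y.2).toAlgebra

instance : IsScalarTower R (Localization.AtPrime p) (HenselizationAt R p) :=
  IsScalarTower.of_algebraMap_eq fun r => (IsLocalization.lift_eq _ r).symm

theorem comap_maximalIdeal :
    (maximalIdeal (HenselizationAt R p)).comap (algebraMap R (HenselizationAt R p)) = p := by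
  ext r
  rw [Ideal.mem_comap, H.maximalIdeal_eq, RingHom.mem_ker, AlgHom.commutes,
    Ideal.algebraMap_residueField_eq_zero]

theorem map_eq_maximalIdeal :
    p.map (algebraMap R (HenselizationAt R p)) = maximalIdeal (HenselizationAt R p) := by
  refine le_antisymm (Ideal.map_le_iff_le_comap.mpr (comap_maximalIdeal R p).ge) fun x hx => ?_
  obtain ⟨i, s, rfl⟩ := H.exists_rep x
  rw [H.maximalIdeal_eq, RingHom.mem_ker, H.proj_incl] at hx
  let q : Ideal i.S := RingHom.ker i.pt
  have : q.IsPrime := RingHom.ker_isPrime _
  have hq : q.comap (algebraMap R i.S) = p := by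
    ext r
    rw [Ideal.mem_comap, RingHom.mem_ker, AlgHom.commutes, Ideal.algebraMap_residueField_eq_zero]
  have : q.LiesOver p := ⟨hq.symm⟩
  have : Algebra.IsUnramifiedAt R q :=
    Algebra.FormallyUnramified.comp R i.S (Localization.AtPrime q)
  let _ := Localization.AtPrime.algebraOfLiesOver p q
  have h := ((Algebra.isUnramifiedAt_iff_map_eq R p q).mp inferInstance).2
  have hs : algebraMap i.S (Localization.AtPrime q) s ∈
      (p.map (algebraMap R i.S)).map (algebraMap i.S (Localization.AtPrime q)) := by
    rw [Ideal.map_map, ← IsScalarTower.algebraMap_eq, h,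
      IsLocalization.AtPrime.to_map_mem_maximal_iff (Localization.AtPrime q) q]
    exact hx
  obtain ⟨m, hm, hms⟩ :=
    (IsLocalization.algebraMap_mem_map_algebraMap_iff q.primeCompl _ _ _).mp hs
  have hu : IsUnit (H.incl i m) := H.isUnit_of_isUnit_proj (isUnit_iff_ne_zero.mpr (by
    rw [H.proj_incl]; simpa [q, Ideal.primeCompl, RingHom.mem_ker] using hm))
  have h1 := Ideal.mem_map_of_mem (H.incl i).toRingHom hms
  rw [Ideal.map_map, show (H.incl i).toRingHom.comp (algebraMap R i.S) =
    algebraMap R (HenselizationAt R p) from RingHom.ext (H.incl i).commutes] at h1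
  exact (Ideal.unit_mul_mem_iff_mem _ hu).mp (by rwa [AlgHom.toRingHom_eq_coe, RingHom.coe_coe,
    map_mul] at h1)

theorem proj_algebraMap (x : Localization.AtPrime p) :
    H.proj R p.ResidueField (algebraMap _ (HenselizationAt R p) x) = residue _ x := by
  have : (H.proj R p.ResidueField).toRingHom.comp
      (algebraMap (Localization.AtPrime p) (HenselizationAt R p)) = residue _ :=
    IsLocalization.ringHom_ext p.primeCompl (RingHom.ext fun r => by
      rw [RingHom.comp_assoc, ← IsScalarTower.algebraMap_eq]
      exact (H.proj R p.ResidueField).commutes r)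
  exact RingHom.congr_fun this x

instance isLocalHom_algebraMap :
    IsLocalHom (algebraMap (Localization.AtPrime p) (HenselizationAt R p)) where
  map_nonunit x hx := by
    have := hx.map (H.proj R p.ResidueField)
    rw [proj_algebraMap] at this
    exact isUnit_of_map_unit _ _ this

theorem map_maximalIdeal :
    (maximalIdeal (Localization.AtPrime p)).map
      (algebraMap (Localization.AtPrime p) (HenselizationAt R p)) =
      maximalIdeal (HenselizationAt R p) := by
  rw [← Localization.AtPrime.map_eq_maximalIdeal, Ideal.map_map, ← IsScalarTower.algebraMap_eq,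
    map_eq_maximalIdeal]

instance isHenselization :
    Hensel.IsHenselization (Localization.AtPrime p) (HenselizationAt R p) where
  henselian := inferInstance
  universal T _ _ f hf := by
    let _ : Algebra R T := (f.comp (algebraMap R (Localization.AtPrime p))).toAlgebra
    let θ : HenselizationAt R p →ₐ[R] ResidueField T :=
      AlgHom.comp { (ResidueField.map f : p.ResidueField →+* ResidueField T) with
        commutes' := fun r => rfl } (H.proj R _)
    obtain ⟨g, hg, hgu⟩ := H.existsUnique_lift θ
    refine ⟨g.toRingHom, IsLocalization.ringHom_ext p.primeCompl ?_, fun g' hg' => ?_⟩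
    · rw [RingHom.comp_assoc, ← IsScalarTower.algebraMap_eq]
      exact g.comp_algebraMap
    have hc : ∀ r, g' (algebraMap R (HenselizationAt R p) r) = algebraMap R T r := fun r => by
      rw [IsScalarTower.algebraMap_apply R (Localization.AtPrime p) (HenselizationAt R p)]
      exact RingHom.congr_fun hg' _
    let g'' : HenselizationAt R p →ₐ[R] T := { g' with commutes' := hc }
    refine congrArg AlgHom.toRingHom (hgu g'' ?_)
    refine AlgHom.ext fun x => ?_
    obtain ⟨r, hr⟩ := residue_surjective (H.proj R p.ResidueField x)
    have hd : x - algebraMap (Localization.AtPrime p) _ r ∈ maximalIdeal (HenselizationAt R p) := by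
      rw [H.maximalIdeal_eq, RingHom.mem_ker, map_sub, proj_algebraMap, ← hr, sub_self]
    rw [← map_maximalIdeal] at hd
    have h2 : g' (x - algebraMap (Localization.AtPrime p) _ r) ∈ maximalIdeal T := by
      have := Ideal.mem_map_of_mem g' hd
      rw [Ideal.map_map, show g'.comp (algebraMap _ _) = f from hg'] at this
      exact Ideal.map_le_iff_le_comap.mpr (((local_hom_TFAE f).out 0 3).mp hf) this
    rw [map_sub, ← residue_eq_zero_iff, map_sub, sub_eq_zero,
      show g' (algebraMap _ _ r) = f r from RingHom.congr_fun hg' r] at h2
    show residue T (g' x) = ResidueField.map f (H.proj R p.ResidueField x)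
    rw [h2, ← hr]
    exact (ResidueField.map_residue f r).symm

end HenselizationAt

/-- A henselization of `R_p` is isomorphic to `H R κ(p)` over `R`. -/
theorem exists_henselizationAt_equiv (Rh : Type u) [CommRing Rh] [IsLocalRing Rh]
    [Algebra (Localization.AtPrime p) Rh] [IsLocalHom (algebraMap (Localization.AtPrime p) Rh)]
    [Hensel.IsHenselization (Localization.AtPrime p) Rh] [Algebra R Rh]
    [IsScalarTower R (Localization.AtPrime p) Rh] :
    Nonempty (HenselizationAt R p ≃ₐ[R] Rh) :=
  ⟨(exists_henselization_equiv (R := Localization.AtPrime p) (HenselizationAt R p) Rh).some.restrictScalars R⟩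

end Groth.Agent.Henz21
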