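import Groth.Agent.Henz21.BaseMap
import Groth.Agent.Henz21.StrictMap

/-! The (strict) henselization of a localized base change. -/

set_option autoImplicit false
set_option linter.style.haveILetI false

universe u

open IsLocalRing TensorProduct

namespace Groth.Agent.Henz21

theorem exists_henselization_baseChange_equiv (R : Type u) [CommRing R] (S : Type u)
    [CommRing S] [Algebra R S] (p : Ideal R) [p.IsPrime] (q : Ideal S) [q.IsPrime] [q.LiesOver p]
    (Rh : Type u) [CommRing Rh] [IsLocalRing Rh] [Algebra (Localization.AtPrime p) Rh]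
    [IsLocalHom (algebraMap (Localization.AtPrime p) Rh)]
    [Hensel.IsHenselization (Localization.AtPrime p) Rh] [Algebra R Rh]
    [IsScalarTower R (Localization.AtPrime p) Rh]
    (Sh : Type u) [CommRing Sh] [IsLocalRing Sh] [Algebra (Localization.AtPrime q) Sh]
    [IsLocalHom (algebraMap (Localization.AtPrime q) Sh)]
    [Hensel.IsHenselization (Localization.AtPrime q) Sh] [Algebra S Sh]
    [IsScalarTower S (Localization.AtPrime q) Sh] [Algebra R Sh] [IsScalarTower R S Sh]
    [Algebra Rh Sh] [IsScalarTower R Rh Sh]
    (φ : Rh ⊗[R] S →ₐ[R] Sh) (hφ : ∀ x s, φ (x ⊗ₜ s) = algebraMap Rh Sh x * algebraMap S Sh s)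
    (Q : Ideal (Rh ⊗[R] S)) [Q.IsPrime]
    (hQ : ∀ d, d ∈ Q ↔ φ d ∈ maximalIdeal Sh)
    (E : Type u) [CommRing E] [IsLocalRing E] [Algebra (Localization.AtPrime Q) E]
    [IsLocalHom (algebraMap (Localization.AtPrime Q) E)]
    [Hensel.IsHenselization (Localization.AtPrime Q) E] :
    ∃ e : E ≃+* Sh, ∀ d, e (algebraMap (Localization.AtPrime Q) E (algebraMap _ _ d)) = φ d := by
  haveI hSh := ‹Hensel.IsHenselization (Localization.AtPrime q) Sh›
  haveI hE := ‹Hensel.IsHenselization (Localization.AtPrime Q) E›
  haveI := hSh.henselian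
  haveI := hE.henselian
  haveI hRS : IsLocalHom (algebraMap Rh Sh) :=
    isLocalHom_of_maximalIdeal_eq p q
      (henselization_map_maximalIdeal (R := Localization.AtPrime p) (S := Rh))
  have hu : ∀ y : Q.primeCompl, IsUnit (φ.toRingHom y) := fun y =>
    IsLocalRing.notMem_maximalIdeal.mp fun h => y.2 ((hQ _).mpr h)
  let ψ : (Localization.AtPrime Q) →+* Sh := IsLocalization.lift hu
  have hψ : ∀ d, ψ (algebraMap _ (Localization.AtPrime Q) d) = φ d := fun d => IsLocalization.lift_eq hu d
  haveI : IsLocalHom ψ := ⟨fun t ht => by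
    obtain ⟨z, s, rfl⟩ := IsLocalization.exists_mk'_eq Q.primeCompl t
    have h3 := IsLocalization.mk'_spec (Localization.AtPrime Q) z s
    have h4 : IsUnit (φ z) := by
      rw [← hψ, ← h3, map_mul]
      exact ht.mul (by rw [hψ]; exact hu s)
    have hz : IsUnit (algebraMap _ (Localization.AtPrime Q) z) :=
      IsLocalization.map_units _ (⟨z, fun hzQ => IsLocalRing.notMem_maximalIdeal.mpr h4 ((hQ _).mp hzQ)⟩ : Q.primeCompl)
    rw [← h3] at hz
    exact isUnit_of_mul_isUnit_left hz⟩
  clear_value ψ
  obtain ⟨g, hg, -⟩ := hE.universal Sh ψ inferInstance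
  haveI hgl : IsLocalHom g := by
    refine ((IsLocalRing.local_hom_TFAE _).out 0 2).mpr ?_
    rw [← henselization_map_maximalIdeal (R := (Localization.AtPrime Q)) (S := E), Ideal.map_map, hg]
    exact ((IsLocalRing.local_hom_TFAE _).out 0 2).mp ‹IsLocalHom ψ›
  let κ : Rh ⊗[R] S →+* E := (algebraMap (Localization.AtPrime Q) E).comp (algebraMap _ (Localization.AtPrime Q))
  have hgκ : ∀ d, g (κ d) = φ d := fun d => (RingHom.congr_fun hg _).trans (hψ d)
  let a : Rh →+* E := κ.comp Algebra.TensorProduct.includeLeftRingHom
  let b : S →+* E := κ.comp (Algebra.TensorProduct.includeRight : S →ₐ[R] Rh ⊗[R] S).toRingHom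
  have hga : ∀ x, g (a x) = algebraMap Rh Sh x := fun x => by
    show g (κ (x ⊗ₜ 1)) = _
    rw [hgκ, hφ, map_one, mul_one]
  have hgb : ∀ x, g (b x) = algebraMap S Sh x := fun x => by
    show g (κ (1 ⊗ₜ x)) = _
    rw [hgκ, hφ, map_one, one_mul]
  haveI : IsLocalHom a := ⟨fun x hx => isUnit_of_map_unit (algebraMap Rh Sh) x (hga x ▸ hx.map g)⟩
  have hb : ∀ y : q.primeCompl, IsUnit (b y) := fun y => isUnit_of_map_unit g _ (by
    rw [hgb, IsScalarTower.algebraMap_apply S (Localization.AtPrime q) Sh]
    exact (IsLocalization.map_units _ y).map _)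
  let j : Localization.AtPrime q →+* E := IsLocalization.lift hb
  have hj : ∀ x, j (algebraMap S _ x) = b x := fun x => IsLocalization.lift_eq hb x
  clear_value j
  have hab : ∀ r, a (algebraMap R Rh r) = b (algebraMap R S r) := fun r =>
    congrArg κ ((Algebra.TensorProduct.algebraMap_apply r).symm.trans
      ((Algebra.TensorProduct.includeRight : S →ₐ[R] Rh ⊗[R] S).commutes r).symm)
  have hbij : Function.Bijective g :=
    bijective_of_henselization (R := Localization.AtPrime q) j g
      (IsLocalization.ringHom_ext q.primeCompl (RingHom.ext fun x => by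
        show g (j (algebraMap S _ x)) = algebraMap _ Sh (algebraMap S _ x)
        rw [hj, hgb, ← IsScalarTower.algebraMap_apply]))
      fun h hl h1 => by
        have h2 : h.comp a = a :=
          rigid_of_henselization (A := Localization.AtPrime p) a h
            (IsLocalization.ringHom_ext p.primeCompl (RingHom.ext fun r => by
              show h (a (algebraMap (Localization.AtPrime p) Rh (algebraMap R _ r))) =
                a (algebraMap (Localization.AtPrime p) Rh (algebraMap R _ r))
              rw [← IsScalarTower.algebraMap_apply, hab, ← hj]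
              exact RingHom.congr_fun h1 _))
        have h3 : h.comp (algebraMap (Localization.AtPrime Q) E) = algebraMap (Localization.AtPrime Q) E := by
          refine IsLocalization.ringHom_ext Q.primeCompl (RingHom.ext fun d => ?_)
          show h (κ d) = κ d
          induction d using TensorProduct.induction_on with
          | zero => simp
          | tmul x s =>
            have hxs : κ (x ⊗ₜ s) = a x * b s := by
              show _ = κ (x ⊗ₜ 1) * κ (1 ⊗ₜ s)
              rw [← map_mul, Algebra.TensorProduct.tmul_mul_tmul, mul_one, one_mul]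
            rw [hxs, map_mul]
            congr 1
            · exact RingHom.congr_fun h2 x
            · rw [← hj]; exact RingHom.congr_fun h1 _
          | add x y hx hy => rw [map_add, map_add, hx, hy]
        obtain ⟨_, -, u⟩ := hE.universal E (algebraMap (Localization.AtPrime Q) E) inferInstance
        exact (u h h3).trans (u (RingHom.id E) (RingHom.id_comp _)).symm
  exact ⟨RingEquiv.ofBijective g hbij, hgκ⟩

theorem exists_strictHenselization_baseChange_equiv (R : Type u) [CommRing R] (S : Type u)
    [CommRing S] [Algebra R S] (p : Ideal R) [p.IsPrime] (q : Ideal S) [q.IsPrime] [q.LiesOver p]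
    (Rh : Type u) [CommRing Rh] [IsLocalRing Rh] [Algebra (Localization.AtPrime p) Rh]
    [IsLocalHom (algebraMap (Localization.AtPrime p) Rh)]
    [Hensel.IsStrictHenselization (Localization.AtPrime p) Rh] [Algebra R Rh]
    [IsScalarTower R (Localization.AtPrime p) Rh]
    (Sh : Type u) [CommRing Sh] [IsLocalRing Sh] [Algebra (Localization.AtPrime q) Sh]
    [IsLocalHom (algebraMap (Localization.AtPrime q) Sh)]
    [Hensel.IsStrictHenselization (Localization.AtPrime q) Sh] [Algebra S Sh]
    [IsScalarTower S (Localization.AtPrime q) Sh] [Algebra R Sh] [IsScalarTower R S Sh]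
    [Algebra Rh Sh] [IsScalarTower R Rh Sh]
    (φ : Rh ⊗[R] S →ₐ[R] Sh) (hφ : ∀ x s, φ (x ⊗ₜ s) = algebraMap Rh Sh x * algebraMap S Sh s)
    (Q : Ideal (Rh ⊗[R] S)) [Q.IsPrime]
    (hQ : ∀ d, d ∈ Q ↔ φ d ∈ maximalIdeal Sh)
    (E : Type u) [CommRing E] [IsLocalRing E] [Algebra (Localization.AtPrime Q) E]
    [IsLocalHom (algebraMap (Localization.AtPrime Q) E)]
    [Hensel.IsStrictHenselization (Localization.AtPrime Q) E] :
    ∃ e : E ≃+* Sh, ∀ d, e (algebraMap (Localization.AtPrime Q) E (algebraMap _ _ d)) = φ d := by
  haveI hSh := ‹Hensel.IsStrictHenselization (Localization.AtPrime q) Sh›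
  haveI hE := ‹Hensel.IsStrictHenselization (Localization.AtPrime Q) E›
  haveI := hSh.henselian
  haveI := hE.henselian
  haveI hRS : IsLocalHom (algebraMap Rh Sh) :=
    isLocalHom_of_maximalIdeal_eq p q
      (strictHenselization_map_maximalIdeal (R := Localization.AtPrime p) (S := Rh))
  have hu : ∀ y : Q.primeCompl, IsUnit (φ.toRingHom y) := fun y =>
    IsLocalRing.notMem_maximalIdeal.mp fun h => y.2 ((hQ _).mpr h)
  let ψ : (Localization.AtPrime Q) →+* Sh := IsLocalization.lift hu
  have hψ : ∀ d, ψ (algebraMap _ (Localization.AtPrime Q) d) = φ d := fun d => IsLocalization.lift_eq hu d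
  haveI : IsLocalHom ψ := ⟨fun t ht => by
    obtain ⟨z, s, rfl⟩ := IsLocalization.exists_mk'_eq Q.primeCompl t
    have h3 := IsLocalization.mk'_spec (Localization.AtPrime Q) z s
    have h4 : IsUnit (φ z) := by
      rw [← hψ, ← h3, map_mul]
      exact ht.mul (by rw [hψ]; exact hu s)
    have hz : IsUnit (algebraMap _ (Localization.AtPrime Q) z) :=
      IsLocalization.map_units _ (⟨z, fun hzQ => IsLocalRing.notMem_maximalIdeal.mpr h4 ((hQ _).mp hzQ)⟩ : Q.primeCompl)
    rw [← h3] at hz
    exact isUnit_of_mul_isUnit_left hz⟩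
  clear_value ψ
  haveI := hSh.isSepClosure
  haveI := hE.isSepClosure
  haveI : IsSepClosed (IsLocalRing.ResidueField Sh) :=
    IsSepClosure.sep_closed (IsLocalRing.ResidueField (Localization.AtPrime q))
  haveI : IsSepClosed (IsLocalRing.ResidueField E) :=
    IsSepClosure.sep_closed (IsLocalRing.ResidueField (Localization.AtPrime Q))
  obtain ⟨g, hg, hgl⟩ := exists_map_of_strictHenselization (Ash := E) ψ
  let κ : Rh ⊗[R] S →+* E := (algebraMap (Localization.AtPrime Q) E).comp (algebraMap _ (Localization.AtPrime Q))
  have hgκ : ∀ d, g (κ d) = φ d := fun d => (RingHom.congr_fun hg _).trans (hψ d)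
  let a : Rh →+* E := κ.comp Algebra.TensorProduct.includeLeftRingHom
  let b : S →+* E := κ.comp (Algebra.TensorProduct.includeRight : S →ₐ[R] Rh ⊗[R] S).toRingHom
  have hga : ∀ x, g (a x) = algebraMap Rh Sh x := fun x => by
    show g (κ (x ⊗ₜ 1)) = _
    rw [hgκ, hφ, map_one, mul_one]
  have hgb : ∀ x, g (b x) = algebraMap S Sh x := fun x => by
    show g (κ (1 ⊗ₜ x)) = _
    rw [hgκ, hφ, map_one, one_mul]
  haveI : IsLocalHom a := ⟨fun x hx => isUnit_of_map_unit (algebraMap Rh Sh) x (hga x ▸ hx.map g)⟩
  have hb : ∀ y : q.primeCompl, IsUnit (b y) := fun y => isUnit_of_map_unit g _ (by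
    rw [hgb, IsScalarTower.algebraMap_apply S (Localization.AtPrime q) Sh]
    exact (IsLocalization.map_units _ y).map _)
  let j : Localization.AtPrime q →+* E := IsLocalization.lift hb
  have hj : ∀ x, j (algebraMap S _ x) = b x := fun x => IsLocalization.lift_eq hb x
  clear_value j
  have hab : ∀ r, a (algebraMap R Rh r) = b (algebraMap R S r) := fun r =>
    congrArg κ ((Algebra.TensorProduct.algebraMap_apply r).symm.trans
      ((Algebra.TensorProduct.includeRight : S →ₐ[R] Rh ⊗[R] S).commutes r).symm)
  have hbij : Function.Bijective g :=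
    bijective_of_strictHenselization (R := Localization.AtPrime q) j g
      (IsLocalization.ringHom_ext q.primeCompl (RingHom.ext fun x => by
        show g (j (algebraMap S _ x)) = algebraMap _ Sh (algebraMap S _ x)
        rw [hj, hgb, ← IsScalarTower.algebraMap_apply]))
      fun h hl h1 hres => by
        have h2 : h.comp a = a :=
          rigid_of_strictHenselization (A := Localization.AtPrime p) a h
            (IsLocalization.ringHom_ext p.primeCompl (RingHom.ext fun r => by
              show h (a (algebraMap (Localization.AtPrime p) Rh (algebraMap R _ r))) =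
                a (algebraMap (Localization.AtPrime p) Rh (algebraMap R _ r))
              rw [← IsScalarTower.algebraMap_apply, hab, ← hj]
              exact RingHom.congr_fun h1 _)) hres
        have h3 : h.comp (algebraMap (Localization.AtPrime Q) E) = algebraMap (Localization.AtPrime Q) E := by
          refine IsLocalization.ringHom_ext Q.primeCompl (RingHom.ext fun d => ?_)
          show h (κ d) = κ d
          induction d using TensorProduct.induction_on with
          | zero => simp
          | tmul x s =>
            have hxs : κ (x ⊗ₜ s) = a x * b s := by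
              show _ = κ (x ⊗ₜ 1) * κ (1 ⊗ₜ s)
              rw [← map_mul, Algebra.TensorProduct.tmul_mul_tmul, mul_one, one_mul]
            rw [hxs, map_mul]
            congr 1
            · exact RingHom.congr_fun h2 x
            · rw [← hj]; exact RingHom.congr_fun h1 _
          | add x y hx hy => rw [map_add, map_add, hx, hy]
        haveI : IsLocalHom (RingHom.id E) := ⟨fun x hx => hx⟩
        exact rigid_of_strictHenselization (A := (Localization.AtPrime Q)) (RingHom.id E) h
          (by rw [RingHom.id_comp]; exact h3) hres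
  exact ⟨RingEquiv.ofBijective g hbij, hgκ⟩

end Groth.Agent.Henz21
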