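import Groth.Agent.Henz21.IntegralLoc
import Groth.Agent.Henz21.IsoCriterion
import Mathlib.RingTheory.TensorProduct.Maps

/-!
The (strict) henselization of a local ring which is a localization of an integral algebra over a
local ring `A` is a localization of the base change to the (strict) henselization of `A`.
-/

set_option autoImplicit false
set_option linter.style.haveILetI false

universe u

open IsLocalRing TensorProduct

namespace Groth.Agent.Henz21

variable {A S Ash Ssh B' : Type u} [CommRing A] [IsLocalRing A] [CommRing S] [IsLocalRing S]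
  [Algebra A S] [CommRing Ash] [IsLocalRing Ash] [Algebra A Ash] [IsLocalHom (algebraMap A Ash)]
  [CommRing Ssh] [IsLocalRing Ssh] [Algebra S Ssh] [IsLocalHom (algebraMap S Ssh)]
  [Algebra A Ssh] [IsScalarTower A S Ssh]
  [CommRing B'] [Algebra A B'] [Algebra B' S] [IsScalarTower A B' S]

/-- Rigidity of maps out of a henselization. -/
theorem rigid_of_henselization [hA : Hensel.IsHenselization A Ash] {T : Type u} [CommRing T]
    [HenselianLocalRing T] (a : Ash →+* T) [IsLocalHom a] (h : T →+* T) [IsLocalHom h]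
    (hc : h.comp (a.comp (algebraMap A Ash)) = a.comp (algebraMap A Ash)) : h.comp a = a :=
  (hA.universal T (a.comp (algebraMap A Ash)) (RingHom.isLocalHom_comp _ _)).unique
    (by rw [RingHom.comp_assoc, hc]) rfl

/-- Rigidity of maps out of a strict henselization. -/
theorem rigid_of_strictHenselization [hA : Hensel.IsStrictHenselization A Ash] {T : Type u}
    [CommRing T] [HenselianLocalRing T] (a : Ash →+* T) [IsLocalHom a] (h : T →+* T)
    (hc : h.comp (a.comp (algebraMap A Ash)) = a.comp (algebraMap A Ash))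
    (hres : ∀ x, residue T (h x) = residue T x) : h.comp a = a := by
  haveI : IsLocalHom (a.comp (algebraMap A Ash)) := RingHom.isLocalHom_comp _ _
  exact (hA.universal T (a.comp (algebraMap A Ash)) (ResidueField.map a)
    (RingHom.ext fun x => by
      obtain ⟨r, rfl⟩ := residue_surjective x
      rfl)).unique
    ⟨by rw [RingHom.comp_assoc, hc], fun x => by
      rw [RingHom.comp_apply, hres, ResidueField.map_residue]⟩
    ⟨rfl, fun x => (ResidueField.map_residue a x).symm⟩

/-- Separably closed residue fields pass to integral local algebras. -/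
theorem isSepClosed_residueField_of_isIntegral {P T : Type u} [CommRing P] [IsLocalRing P]
    [CommRing T] [IsLocalRing T] [Algebra P T] [IsLocalHom (algebraMap P T)]
    [Algebra.IsIntegral P T] [IsSepClosed (ResidueField P)] : IsSepClosed (ResidueField T) := by
  haveI : Algebra.IsIntegral (ResidueField P) (ResidueField T) := ⟨fun x => by
    obtain ⟨t, rfl⟩ := residue_surjective x
    exact IsIntegral.tower_top ((Algebra.IsIntegral.isIntegral (R := P) t).map
      (IsScalarTower.toAlgHom P T (ResidueField T)))⟩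
  exact Algebra.IsAlgebraic.isSepClosed (F := ResidueField P)

variable (α : Ash →ₐ[A] Ssh) [IsLocalHom α.toRingHom] [Algebra.IsIntegral A B']
  (hfrac : ∀ x : S, ∃ b r : B', IsUnit (algebraMap B' S r) ∧
    algebraMap B' S r * x = algebraMap B' S b)
  (hker : ∀ b : B', algebraMap B' S b = 0 → ∃ r, IsUnit (algebraMap B' S r) ∧ r * b = 0)

/-- The map from the base change. -/
noncomputable def baseChangeMap : B' ⊗[A] Ash →ₐ[A] Ssh :=
  Algebra.TensorProduct.productMap
    ((IsScalarTower.toAlgHom A S Ssh).comp (IsScalarTower.toAlgHom A B' S)) α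

theorem baseChangeMap_tmul (b : B') (a : Ash) :
    baseChangeMap (S := S) α (b ⊗ₜ a) = algebraMap S Ssh (algebraMap B' S b) * α a :=
  Algebra.TensorProduct.productMap_apply_tmul _ _ _ _

set_option maxHeartbeats 1000000 in
include hfrac hker in
/-- Common core: the localization at the kernel of the closed point is henselian, local over `Ash`,
and receives `S`. -/
theorem core [HenselianLocalRing Ash] :
    ∃ (Q : Ideal (B' ⊗[A] Ash)) (_ : Q.IsMaximal)
      (_ : HenselianLocalRing (Localization.AtPrime Q))
      (j : S →+* Localization.AtPrime Q) (a : Ash →+* Localization.AtPrime Q) (_ : IsLocalHom a)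
      (ψ : Localization.AtPrime Q →+* Ssh) (_ : IsLocalHom ψ),
      Q = (maximalIdeal Ssh).comap (baseChangeMap (S := S) α).toRingHom ∧
      Function.Surjective (algebraMap (B' ⊗[A] Ash) (Localization.AtPrime Q)) ∧
      (∀ z, ψ (algebraMap (B' ⊗[A] Ash) _ z) = baseChangeMap (S := S) α z) ∧
      ψ.comp j = algebraMap S Ssh ∧
      a.comp (algebraMap A Ash) = j.comp (algebraMap A S) ∧
      (∀ h : Localization.AtPrime Q →+* Localization.AtPrime Q,
        h.comp j = j → h.comp a = a → h = RingHom.id _) ∧
      (IsSepClosed (ResidueField Ash) → IsSepClosed (ResidueField (Localization.AtPrime Q))) ∧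
      a.IsIntegral := by
  let φ := baseChangeMap (S := S) (B' := B') α
  let iR : Ash →+* B' ⊗[A] Ash :=
    (Algebra.TensorProduct.includeRight : Ash →ₐ[A] B' ⊗[A] Ash).toRingHom
  letI : Algebra Ash (B' ⊗[A] Ash) := iR.toAlgebra
  haveI hint : Algebra.IsIntegral Ash (B' ⊗[A] Ash) := ⟨fun z => by
    induction z using TensorProduct.induction_on with
    | zero => exact isIntegral_zero
    | tmul b c =>
      have h1 : IsIntegral Ash (b ⊗ₜ[A] (1 : Ash) : B' ⊗[A] Ash) := by
        obtain ⟨p, hp, hp'⟩ := Algebra.IsIntegral.isIntegral (R := A) b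
        refine ⟨p.map (algebraMap A Ash), hp.map _, ?_⟩
        rw [Polynomial.eval₂_map]
        have h2 := Polynomial.hom_eval₂ p (algebraMap A B')
          (Algebra.TensorProduct.includeLeftRingHom : B' →+* B' ⊗[A] Ash) b
        rw [hp', map_zero] at h2
        rw [h2]
        congr 1
        exact RingHom.ext fun x => ((Algebra.TensorProduct.includeRight :
          Ash →ₐ[A] B' ⊗[A] Ash).commutes x)
      have h2 : (b ⊗ₜ[A] c : B' ⊗[A] Ash) = (b ⊗ₜ 1) * algebraMap Ash (B' ⊗[A] Ash) c := by
        show _ = (b ⊗ₜ 1) * ((1 : B') ⊗ₜ c)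
        rw [Algebra.TensorProduct.tmul_mul_tmul, mul_one, one_mul]
      rw [h2]
      exact h1.mul isIntegral_algebraMap
    | add x y hx hy => exact hx.add hy⟩
  let Q := (maximalIdeal Ssh).comap φ.toRingHom
  haveI : Q.IsPrime := inferInstance
  have hcomap : Q.comap (algebraMap Ash (B' ⊗[A] Ash)) = maximalIdeal Ash := by
    ext c
    have : φ (1 ⊗ₜ c) = α c := by
      rw [baseChangeMap_tmul, map_one, map_one, one_mul]
    show φ (1 ⊗ₜ c) ∈ maximalIdeal Ssh ↔ _
    rw [this, mem_maximalIdeal, mem_maximalIdeal]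
    exact (isUnit_map_iff α.toRingHom c).not
  haveI hQ : Q.IsMaximal :=
    Ideal.isMaximal_of_isIntegral_of_isMaximal_comap Q (hcomap ▸ maximalIdeal.isMaximal Ash)
  obtain ⟨hT, hTi⟩ := henselianLocalRing_localization_of_isIntegral (A := Ash) Q
  have hu : ∀ y : Q.primeCompl, IsUnit (φ.toRingHom y) := fun y =>
    notMem_maximalIdeal.mp y.2
  let ψ : Localization.AtPrime Q →+* Ssh := IsLocalization.lift hu
  have hψ : ∀ z, ψ (algebraMap _ _ z) = φ z := fun z => IsLocalization.lift_eq hu z
  haveI hψl : IsLocalHom ψ := ⟨fun t ht => by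
    obtain ⟨z, s, rfl⟩ := IsLocalization.exists_mk'_eq Q.primeCompl t
    have h3 := IsLocalization.mk'_spec (Localization.AtPrime Q) z s
    have h4 : IsUnit (φ z) := by
      rw [← hψ, ← h3, map_mul]
      exact ht.mul (by rw [hψ]; exact hu s)
    have hz : IsUnit (algebraMap _ (Localization.AtPrime Q) z) :=
      IsLocalization.map_units _ (⟨z, fun hzQ => notMem_maximalIdeal.mpr h4 hzQ⟩ : Q.primeCompl)
    rw [← h3] at hz
    exact isUnit_of_mul_isUnit_left hz⟩
  let iL : B' →+* Localization.AtPrime Q :=
    (algebraMap (B' ⊗[A] Ash) _).comp Algebra.TensorProduct.includeLeftRingHom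
  let M : Submonoid B' := (IsUnit.submonoid S).comap (algebraMap B' S)
  haveI : IsLocalization M S := (isLocalization_iff M S).mpr
    ⟨fun y => y.2, fun x => by
      obtain ⟨b, r, hr, hx⟩ := hfrac x
      exact ⟨(b, ⟨r, hr⟩), by rw [mul_comm]; exact hx⟩,
    fun {x y} hxy => by
      obtain ⟨r, hr, h0⟩ := hker (x - y) (by rw [map_sub, hxy, sub_self])
      exact ⟨⟨r, hr⟩, sub_eq_zero.mp (by rw [← mul_sub]; exact h0)⟩⟩
  have hiL : ∀ b, ψ (iL b) = algebraMap S Ssh (algebraMap B' S b) := fun b => by
    show ψ (algebraMap _ _ (b ⊗ₜ[A] (1 : Ash))) = _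
    rw [hψ, baseChangeMap_tmul, map_one, mul_one]
  have hM : ∀ y : M, IsUnit (iL y) := fun y =>
    isUnit_of_map_unit ψ _ (by rw [hiL]; exact (y.2 : IsUnit _).map _)
  let j : S →+* Localization.AtPrime Q := IsLocalization.lift hM
  have hj : ∀ b, j (algebraMap B' S b) = iL b := fun b => IsLocalization.lift_eq hM b
  let a : Ash →+* Localization.AtPrime Q := algebraMap Ash (Localization.AtPrime Q)
  have haψ : ∀ c, ψ (a c) = α c := fun c => by
    show ψ (algebraMap Ash (Localization.AtPrime Q) c) = _
    rw [IsScalarTower.algebraMap_apply Ash (B' ⊗[A] Ash) (Localization.AtPrime Q), hψ]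
    show φ (1 ⊗ₜ c) = _
    rw [baseChangeMap_tmul, map_one, map_one, one_mul]
  clear_value ψ j
  haveI hal : IsLocalHom a := ⟨fun c hc => isUnit_of_map_unit α.toRingHom c
    (by have := hc.map ψ; rwa [haψ] at this)⟩
  refine ⟨Q, hQ, hT, j, a, hal, ψ, hψl, rfl, algebraMap_localization_surjective (A := Ash) Q, hψ,
    IsLocalization.ringHom_ext M (RingHom.ext fun b => ?_), RingHom.ext fun x => ?_, ?_, ?_, ?_⟩
  · show ψ (j (algebraMap B' S b)) = _
    rw [hj, hiL]; rfl
  · show algebraMap Ash _ (algebraMap A Ash x) = j (algebraMap A S x)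
    rw [IsScalarTower.algebraMap_apply A B' S, hj,
      IsScalarTower.algebraMap_apply Ash (B' ⊗[A] Ash) (Localization.AtPrime Q)]
    show algebraMap _ _ ((1 : B') ⊗ₜ[A] algebraMap A Ash x) = algebraMap _ _ (algebraMap A B' x ⊗ₜ[A] (1 : Ash))
    exact congrArg _ (((Algebra.TensorProduct.includeRight : Ash →ₐ[A] B' ⊗[A] Ash).commutes x).trans
      (Algebra.TensorProduct.algebraMap_apply x))
  · intro h h1 h2
    refine IsLocalization.ringHom_ext Q.primeCompl (RingHom.ext fun z => ?_)
    show h (algebraMap _ _ z) = algebraMap _ _ z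
    induction z using TensorProduct.induction_on with
    | zero => simp
    | tmul b c =>
      have hb : (b ⊗ₜ[A] c : B' ⊗[A] Ash) = (b ⊗ₜ 1) * iR c := by
        show _ = (b ⊗ₜ 1) * ((1 : B') ⊗ₜ c)
        rw [Algebra.TensorProduct.tmul_mul_tmul, mul_one, one_mul]
      rw [hb, map_mul, map_mul]
      congr 1
      · show h (iL b) = iL b
        rw [← hj]
        exact RingHom.congr_fun h1 _
      · exact RingHom.congr_fun h2 c
    | add x y hx hy => rw [map_add, map_add, hx, hy]
  · intro hs
    haveI : IsLocalHom (algebraMap Ash (Localization.AtPrime Q)) := hal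
    exact isSepClosed_residueField_of_isIntegral (P := Ash)
  · exact fun t => hTi.isIntegral t

include hfrac hker in
/-- The strict henselization of `S` is a localization of `B' ⊗ Ash`. -/
theorem baseChangeMap_strict [hA : Hensel.IsStrictHenselization A Ash]
    [Hensel.IsStrictHenselization S Ssh] :
    Function.Surjective (baseChangeMap (S := S) (B' := B') α) ∧
      ∃ (_ : ((maximalIdeal Ssh).comap (baseChangeMap (S := S) (B' := B') α).toRingHom).IsMaximal),
        ∀ z, baseChangeMap (S := S) (B' := B') α z = 0 →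
          ∃ w ∉ (maximalIdeal Ssh).comap (baseChangeMap (S := S) (B' := B') α).toRingHom,
            w * z = 0 := by
  haveI := hA.henselian
  haveI := hA.isSepClosure
  obtain ⟨Q, hQ, hT, j, a, ha, ψ, hψl, hQe, hsur, hψ, hψj, haj, hfix, hsc, -⟩ :=
    core (S := S) α hfrac hker
  haveI := hsc (IsSepClosure.sep_closed (ResidueField A))
  have hb := bijective_of_strictHenselization j ψ hψj fun h _ h1 h2 => hfix h h1 (by
    refine rigid_of_strictHenselization (A := A) a h ?_ h2
    rw [haj, ← RingHom.comp_assoc, h1])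
  subst hQe
  refine ⟨fun y => ?_, hQ, fun z hz => ?_⟩
  · obtain ⟨t, rfl⟩ := hb.2 y
    obtain ⟨z, rfl⟩ := hsur t
    exact ⟨z, (hψ z).symm⟩
  · obtain ⟨w, hw⟩ := (IsLocalization.map_eq_zero_iff
      ((maximalIdeal Ssh).comap (baseChangeMap (S := S) (B' := B') α).toRingHom).primeCompl
      (Localization.AtPrime ((maximalIdeal Ssh).comap (baseChangeMap (S := S) (B' := B') α).toRingHom)) z).mp
      (hb.1 (((hψ z).trans hz).trans (map_zero ψ).symm))
    exact ⟨w, w.2, hw⟩

include hfrac hker in
/-- The henselization of `S` is a localization of `B' ⊗ Ash`. -/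
theorem baseChangeMap_henselization [hA : Hensel.IsHenselization A Ash]
    [Hensel.IsHenselization S Ssh] :
    Function.Surjective (baseChangeMap (S := S) (B' := B') α) := by
  haveI := hA.henselian
  obtain ⟨Q, hQ, hT, j, a, ha, ψ, hψl, hQe, hsur, hψ, hψj, haj, hfix, -, -⟩ :=
    core (S := S) α hfrac hker
  have hb := bijective_of_henselization j ψ hψj fun h _ h1 => hfix h h1 (by
    refine rigid_of_henselization (A := A) a h ?_
    rw [haj, ← RingHom.comp_assoc, h1])
  intro y
  obtain ⟨t, rfl⟩ := hb.2 y
  obtain ⟨z, rfl⟩ := hsur t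
  exact ⟨z, (hψ z).symm⟩

end Groth.Agent.Henz21
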