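import Groth.Agent.Henz21.Unique
import Groth.Agent.Henz21.IntegralSh

/-! Locality of maps between henselizations at primes. -/

set_option autoImplicit false

universe u

open IsLocalRing

namespace Groth.Agent.Henz21

/-- If the maximal ideal of `Rh` is generated by the prime `p` of `R`, and `q` lies over `p`, then
any map `Rh → Sh` under `R → S` is local. -/
theorem isLocalHom_of_maximalIdeal_eq {R S Rh Sh : Type u} [CommRing R] [CommRing S] [Algebra R S]
    (p : Ideal R) [p.IsPrime] (q : Ideal S) [q.IsPrime] [q.LiesOver p]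
    [CommRing Rh] [IsLocalRing Rh] [Algebra (Localization.AtPrime p) Rh]
    [Algebra R Rh] [IsScalarTower R (Localization.AtPrime p) Rh]
    [CommRing Sh] [IsLocalRing Sh] [Algebra (Localization.AtPrime q) Sh]
    [IsLocalHom (algebraMap (Localization.AtPrime q) Sh)]
    [Algebra S Sh] [IsScalarTower S (Localization.AtPrime q) Sh] [Algebra R Sh] [IsScalarTower R S Sh]
    [Algebra Rh Sh] [IsScalarTower R Rh Sh]
    (hmax : (maximalIdeal (Localization.AtPrime p)).map (algebraMap (Localization.AtPrime p) Rh) =
      maximalIdeal Rh) : IsLocalHom (algebraMap Rh Sh) := by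
  refine ((local_hom_TFAE _).out 0 2).mpr ?_
  have h1 : maximalIdeal Rh = p.map (algebraMap R Rh) := by
    rw [← hmax, ← IsLocalization.AtPrime.map_eq_maximalIdeal p (Localization.AtPrime p),
      Ideal.map_map, ← IsScalarTower.algebraMap_eq]
  rw [h1, Ideal.map_map, ← IsScalarTower.algebraMap_eq, Ideal.map_le_iff_le_comap]
  intro r hr
  show algebraMap R Sh r ∈ maximalIdeal Sh
  rw [IsScalarTower.algebraMap_apply R S Sh, IsScalarTower.algebraMap_apply S (Localization.AtPrime q) Sh,
    mem_maximalIdeal, mem_nonunits_iff, isUnit_map_iff, IsLocalization.AtPrime.isUnit_to_map_iff _ q]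
  exact fun h => h ((Ideal.mem_of_liesOver q p r).mp hr)

end Groth.Agent.Henz21
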