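import Groth.Agent.Brnch26.Compl
import Groth.Agent.CAlg1.Regular
import Groth.Agent.CAlg9.Node.Fibral
import Groth.Agent.Henz21.Unique

/-!
One-dimensional components along faithfully flat extensions of henselian local rings.
-/

set_option autoImplicit false
set_option linter.style.haveILetI false

universe u

open IsLocalRing

namespace Groth.Agent.Henz21

/-- A henselian local domain has dimension one as soon as a flat extension with the same residue
field and extended maximal ideal has a one-dimensional component. -/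
theorem exists_dim_one_iff_of_ff {S C : Type u} [CommRing S] [HenselianLocalRing S] [IsNoetherianRing S]
    [CommRing C] [IsLocalRing C] [IsNoetherianRing C] [Algebra S C] [Module.FaithfullyFlat S C]
    [IsLocalHom (algebraMap S C)]
    (hm : (maximalIdeal S).map (algebraMap S C) = maximalIdeal C)
    (hres : ∀ c : C, ∃ s, c - algebraMap S C s ∈ maximalIdeal C) (J : Ideal S) :
    (∃ P ∈ J.minimalPrimes, ringKrullDim (S ⧸ P) = 1) ↔
      ∃ Q ∈ (J.map (algebraMap S C)).minimalPrimes, ringKrullDim (C ⧸ Q) = 1 := by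
  have hle : ∀ P : Ideal S, P.IsPrime → P.map (algebraMap S C) ≤ maximalIdeal C := fun P hP =>
    (Ideal.map_mono (le_maximalIdeal hP.ne_top)).trans hm.le
  have hdim : ∀ P : Ideal S, P.IsPrime →
      ringKrullDim (C ⧸ P.map (algebraMap S C)) = ringKrullDim (S ⧸ P) := by
    intro P hP
    haveI : Nontrivial (S ⧸ P) := Ideal.Quotient.nontrivial_iff.2 hP.ne_top
    haveI : IsLocalRing (S ⧸ P) := IsLocalRing.of_surjective' _ Ideal.Quotient.mk_surjective
    haveI : Nontrivial (C ⧸ P.map (algebraMap S C)) := Ideal.Quotient.nontrivial_iff.2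
      (ne_top_of_le_ne_top (maximalIdeal.isMaximal C).ne_top (hle P hP))
    haveI : IsLocalRing (C ⧸ P.map (algebraMap S C)) :=
      IsLocalRing.of_surjective' _ Ideal.Quotient.mk_surjective
    haveI : Module.Flat (S ⧸ P) (C ⧸ P.map (algebraMap S C)) :=
      RingHom.flat_algebraMap_iff.1 (CAlg9.Node.flat_quotientMap' P)
    haveI : IsLocalHom (algebraMap (S ⧸ P) (C ⧸ P.map (algebraMap S C))) := by
      haveI : IsLocalHom (Ideal.Quotient.mk (P.map (algebraMap S C))) :=
        IsLocalHom.of_surjective _ Ideal.Quotient.mk_surjective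
      refine ⟨fun x hx => ?_⟩
      obtain ⟨r, rfl⟩ := Ideal.Quotient.mk_surjective x
      exact (isUnit_of_map_unit (algebraMap S C) r (isUnit_of_map_unit (Ideal.Quotient.mk (P.map (algebraMap S C))) _ hx)).map _
    refine CAlg1.ringKrullDim_eq_of_flat ?_
    rw [← map_maximalIdeal_of_surjective (f := Ideal.Quotient.mk P) Ideal.Quotient.mk_surjective,
      Ideal.map_map]
    show (maximalIdeal S).map ((Ideal.Quotient.mk (P.map (algebraMap S C))).comp (algebraMap S C)) = _
    rw [← Ideal.map_map, hm]
    exact map_maximalIdeal_of_surjective (f := algebraMap C (C ⧸ P.map (algebraMap S C)))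
      Ideal.Quotient.mk_surjective
  constructor
  · rintro ⟨P, hP, hP1⟩
    haveI := hP.1.1
    obtain ⟨Q, hQ, -⟩ := Ideal.exists_minimalPrimes_le (hle P hP.1.1)
    haveI := hQ.1.1
    have hQle : ringKrullDim (C ⧸ Q) ≤ 1 := by
      refine le_of_le_of_eq ?_ ((hdim P hP.1.1).trans hP1)
      exact ringKrullDim_le_of_surjective (Ideal.Quotient.factor hQ.1.2)
        (Ideal.Quotient.factor_surjective hQ.1.2)
    -- `Q` lies over `P` and is minimal over the extension of `J`
    haveI : Q.LiesOver (Q.comap (algebraMap S C)) := ⟨rfl⟩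
    have hQP : Q.comap (algebraMap S C) = P := by
      refine le_antisymm ?_ (Ideal.map_le_iff_le_comap.1 hQ.1.2)
      obtain ⟨Q', hQ'Q, hQ', hQ'P⟩ :=
        Ideal.exists_ideal_le_liesOver_of_le (Q := Q) (Ideal.map_le_iff_le_comap.1 hQ.1.2)
      have hmap : P.map (algebraMap S C) ≤ Q' := Ideal.map_le_iff_le_comap.2 hQ'P.over.le
      have : Q' = Q := le_antisymm hQ'Q (hQ.2 ⟨hQ', hmap⟩ hQ'Q)
      rw [← this]
      exact hQ'P.over.ge
    have hQmin : Q ∈ (J.map (algebraMap S C)).minimalPrimes := by
      refine ⟨⟨hQ.1.1, (Ideal.map_mono hP.1.2).trans hQ.1.2⟩, fun Q' hQ' hle' => ?_⟩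
      have h1 : Q'.comap (algebraMap S C) = P :=
        le_antisymm (hQP ▸ Ideal.comap_mono hle') (hP.2
          ⟨hQ'.1.comap _, Ideal.map_le_iff_le_comap.1 hQ'.2⟩ (hQP ▸ Ideal.comap_mono hle'))
      exact hQ.2 ⟨hQ'.1, Ideal.map_le_iff_le_comap.2 h1.ge⟩ hle'
    refine ⟨Q, hQmin, le_antisymm hQle ?_⟩
    by_contra hlt
    have hQm : Q ≠ maximalIdeal C := fun h => by
      have h1 : P = maximalIdeal S := by
        rw [← hQP, h]; exact maximalIdeal_comap (algebraMap S C)
      subst h1
      let := Ideal.Quotient.field (maximalIdeal S)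
      simp [ringKrullDim_eq_zero_of_field] at hP1
    haveI : Nontrivial (C ⧸ Q) := Ideal.Quotient.nontrivial_iff.2 hQ.1.1.ne_top
    have h2 : ¬ IsField (C ⧸ Q) := fun h =>
      hQm (eq_maximalIdeal (Ideal.Quotient.maximal_of_isField Q h))
    have h4 : ringKrullDim (C ⧸ Q) ≤ 0 := by
      rw [not_le] at hlt
      generalize ringKrullDim (C ⧸ Q) = d at hlt
      induction d with
      | bot => exact bot_le
      | coe d =>
        norm_cast at hlt ⊢
        exact le_of_eq (Order.lt_one_iff.1 hlt)
    haveI : Ring.KrullDimLE 0 (C ⧸ Q) := Ring.krullDimLE_iff.2 (by simpa using h4)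
    exact h2 (Ring.KrullDimLE.isField_of_isDomain)
  · rintro ⟨Q, hQ, hQ1⟩
    haveI := hQ.1.1
    let P := Q.comap (algebraMap S C)
    haveI : P.IsPrime := hQ.1.1.comap _
    haveI : Q.LiesOver P := ⟨rfl⟩
    have hPmin : P ∈ J.minimalPrimes := by
      refine ⟨⟨inferInstance, Ideal.map_le_iff_le_comap.1 hQ.1.2⟩, fun P' hP' hle' => ?_⟩
      haveI := hP'.1
      obtain ⟨Q', hQ'Q, hQ', hQ'P⟩ := Ideal.exists_ideal_le_liesOver_of_le (Q := Q) hle'
      have : Q' = Q := le_antisymm hQ'Q (hQ.2 ⟨hQ', Ideal.map_le_iff_le_comap.2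
        (hP'.2.trans hQ'P.over.le)⟩ hQ'Q)
      show Q.comap (algebraMap S C) ≤ P'
      rw [← this]
      exact hQ'P.over.ge
    refine ⟨P, hPmin, ?_⟩
    rw [← hdim P inferInstance]
    -- `Q` is the only component
    let I' := P.map (algebraMap S C)
    haveI : Nontrivial (S ⧸ P) := Ideal.Quotient.nontrivial_iff.2 Ideal.IsPrime.ne_top'
    haveI : IsLocalRing (S ⧸ P) := IsLocalRing.of_surjective' _ Ideal.Quotient.mk_surjective
    haveI : HenselianLocalRing (S ⧸ P) := henselianLocalRing_of_isIntegral (A := S)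
    haveI : Nontrivial (C ⧸ I') := Ideal.Quotient.nontrivial_iff.2
      (ne_top_of_le_ne_top (maximalIdeal.isMaximal C).ne_top (hle P inferInstance))
    haveI : IsLocalRing (C ⧸ I') := IsLocalRing.of_surjective' _ Ideal.Quotient.mk_surjective
    haveI : Module.Flat (S ⧸ P) (C ⧸ I') :=
      RingHom.flat_algebraMap_iff.1 (CAlg9.Node.flat_quotientMap' P)
    have hIQ : I' ≤ Q := Ideal.map_le_iff_le_comap.2 le_rfl
    let q : Ideal (C ⧸ I') := Q.map (Ideal.Quotient.mk I')
    have hqc : q.comap (Ideal.Quotient.mk I') = Q := by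
      rw [Ideal.comap_map_of_surjective _ Ideal.Quotient.mk_surjective, ← RingHom.ker_eq_comap_bot,
        Ideal.mk_ker, sup_eq_left.2 hIQ]
    have hmm : (maximalIdeal (S ⧸ P)).map (algebraMap (S ⧸ P) (C ⧸ I')) = maximalIdeal (C ⧸ I') := by
      rw [← map_maximalIdeal_of_surjective (f := Ideal.Quotient.mk P) Ideal.Quotient.mk_surjective,
        Ideal.map_map]
      show (maximalIdeal S).map ((Ideal.Quotient.mk I').comp (algebraMap S C)) = _
      rw [← Ideal.map_map, hm]
      exact map_maximalIdeal_of_surjective (f := algebraMap C (C ⧸ I')) Ideal.Quotient.mk_surjective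
    haveI : IsLocalHom (algebraMap (S ⧸ P) (C ⧸ I')) := ((local_hom_TFAE _).out 0 2).2 hmm.le
    have hqp : q.IsPrime := Ideal.map_isPrime_of_surjective Ideal.Quotient.mk_surjective
      (by rw [Ideal.mk_ker]; exact hIQ)
    have hqmin : q ∈ minimalPrimes (C ⧸ I') := by
      refine ⟨⟨hqp, bot_le⟩, fun q' hq' hle' => ?_⟩
      have h1 : Q ≤ q'.comap (Ideal.Quotient.mk I') := hQ.2 ⟨hq'.1.comap _, by
          refine (Ideal.map_mono hPmin.1.2 : J.map (algebraMap S C) ≤ I').trans ?_
          intro z hz
          show Ideal.Quotient.mk I' z ∈ q'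
          rw [Ideal.Quotient.eq_zero_iff_mem.2 hz]
          exact Ideal.zero_mem _⟩ (hqc ▸ Ideal.comap_mono hle')
      refine (Ideal.map_mono h1).trans ?_
      rw [Ideal.map_comap_of_surjective _ Ideal.Quotient.mk_surjective]
    have hqdim : ∀ R : Ideal (C ⧸ I'), R.IsPrime → q ≤ R → R ≠ maximalIdeal (C ⧸ I') → R = q := by
      intro R hR hqR hRm
      haveI := hR.comap (Ideal.Quotient.mk I')
      have h1 : Q ≤ R.comap (Ideal.Quotient.mk I') := hqc ▸ Ideal.comap_mono hqR
      haveI : Ring.KrullDimLE 1 (C ⧸ Q) := Ring.krullDimLE_iff.2 (by simp [hQ1])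
      let R' := (R.comap (Ideal.Quotient.mk I')).map (Ideal.Quotient.mk Q)
      have hR' : R'.IsPrime := Ideal.map_isPrime_of_surjective Ideal.Quotient.mk_surjective
        (by rw [Ideal.mk_ker]; exact h1)
      have hback : R'.comap (Ideal.Quotient.mk Q) = R.comap (Ideal.Quotient.mk I') := by
        rw [Ideal.comap_map_of_surjective _ Ideal.Quotient.mk_surjective, ← RingHom.ker_eq_comap_bot,
          Ideal.mk_ker, sup_eq_left.2 h1]
      rcases Ring.krullDimLE_one_iff.1 ‹_› R' hR' with h | h
      · have h0 : R' = ⊥ := le_antisymm (h.2 ⟨Ideal.isPrime_bot, le_rfl⟩ bot_le) bot_le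
        rw [h0, ← RingHom.ker_eq_comap_bot, Ideal.mk_ker] at hback
        rw [← Ideal.map_comap_of_surjective _ Ideal.Quotient.mk_surjective R, ← hback]
      · haveI := h
        haveI : (R.comap (Ideal.Quotient.mk I')).IsMaximal :=
          hback ▸ Ideal.comap_isMaximal_of_surjective _ Ideal.Quotient.mk_surjective
        refine absurd (eq_maximalIdeal ?_) hRm
        have h2 := Ideal.IsMaximal.map_of_surjective_of_ker_le (f := Ideal.Quotient.mk I')
          Ideal.Quotient.mk_surjective (m := R.comap (Ideal.Quotient.mk I'))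
          (by rw [Ideal.mk_ker]; exact hIQ.trans h1)
        rwa [Ideal.map_comap_of_surjective _ Ideal.Quotient.mk_surjective] at h2
    have hqm : q ≠ maximalIdeal (C ⧸ I') := fun h => by
      haveI : Q.IsMaximal := by
        rw [← hqc, h]; exact Ideal.comap_isMaximal_of_surjective _ Ideal.Quotient.mk_surjective
      let := Ideal.Quotient.field Q
      simp [ringKrullDim_eq_zero_of_field] at hQ1
    have hrad := Brnch26.radical_map_comap_eq hmm (fun c => by
      obtain ⟨c, rfl⟩ := Ideal.Quotient.mk_surjective c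
      obtain ⟨s, hs⟩ := hres c
      refine ⟨Ideal.Quotient.mk P s, ?_⟩
      have h1 := Ideal.mem_map_of_mem (Ideal.Quotient.mk I') hs
      rw [map_maximalIdeal_of_surjective (f := Ideal.Quotient.mk I') Ideal.Quotient.mk_surjective,
        map_sub] at h1
      exact h1) hqmin hqm hqdim
    have hq0 : q.comap (algebraMap (S ⧸ P) (C ⧸ I')) = ⊥ := by
      rw [eq_bot_iff]
      intro x hx
      obtain ⟨x, rfl⟩ := Ideal.Quotient.mk_surjective x
      rw [Ideal.mem_bot, Ideal.Quotient.eq_zero_iff_mem]
      have : algebraMap S C x ∈ q.comap (Ideal.Quotient.mk I') := hx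
      rwa [hqc] at this
    rw [hq0, Ideal.map_bot] at hrad
    have hfac : Function.Surjective (Ideal.Quotient.mk q) := Ideal.Quotient.mk_surjective
    have e1 : ringKrullDim ((C ⧸ I') ⧸ q) = ringKrullDim (C ⧸ I') := by
      refine le_antisymm (ringKrullDim_le_of_surjective _ hfac) ?_
      rw [ringKrullDim_quotient q]
      refine le_of_eq ?_
      have : PrimeSpectrum.zeroLocus (q : Set (C ⧸ I')) = Set.univ := Set.eq_univ_of_forall fun z => by
        show q ≤ z.asIdeal
        rw [← hrad, z.isPrime.radical_le_iff]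
        exact bot_le
      rw [this]
      exact (Order.krullDim_eq_of_orderIso (OrderIso.Set.univ)).symm
    rw [← e1, ringKrullDim_eq_of_ringEquiv ((DoubleQuot.quotQuotEquivQuotOfLE hIQ))]
    exact hQ1

end Groth.Agent.Henz21

namespace Groth.Agent.Henz21

open Brnch26 Groth.Agent

/-- The comparison of strict henselizations of a local ring and its completion, over the ring. -/
theorem exists_approx_strict_comp {A : Type u} [CommRing A] [IsLocalRing A] [IsNoetherianRing A] :
    ∃ _ : Algebra (Henz21.StrictHenselization A) (Henz21.StrictHenselization (Cpl A)),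
      (algebraMap (Henz21.StrictHenselization A) (Henz21.StrictHenselization (Cpl A))).comp
          (algebraMap A (Henz21.StrictHenselization A)) =
        (algebraMap (Cpl A) (Henz21.StrictHenselization (Cpl A))).comp (algebraMap A (Cpl A)) ∧
      Module.FaithfullyFlat (Henz21.StrictHenselization A) (Henz21.StrictHenselization (Cpl A)) ∧
      IsLocalHom (algebraMap (Henz21.StrictHenselization A) (Henz21.StrictHenselization (Cpl A))) ∧
      (maximalIdeal (Henz21.StrictHenselization A)).map
          (algebraMap (Henz21.StrictHenselization A) (Henz21.StrictHenselization (Cpl A))) =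
        maximalIdeal (Henz21.StrictHenselization (Cpl A)) ∧
      ∀ c : Henz21.StrictHenselization (Cpl A), ∃ s,
        c - algebraMap (Henz21.StrictHenselization A) (Henz21.StrictHenselization (Cpl A)) s ∈
          maximalIdeal (Henz21.StrictHenselization (Cpl A)) := by
  let S' := Henz21.StrictHenselization A
  let C := Cpl A
  let T := Henz21.StrictHenselization C
  haveI hT : IsSepClosure (ResidueField C) (ResidueField T) :=
    Hensel.IsStrictHenselization.isSepClosure
  haveI hS' : IsSepClosure (ResidueField A) (ResidueField S') :=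
    Hensel.IsStrictHenselization.isSepClosure
  haveI : IsSepClosed (ResidueField T) := hT.sep_closed
  let f : A →+* T := (algebraMap C T).comp (algebraMap A C)
  haveI : IsLocalHom f := RingHom.isLocalHom_comp _ _
  obtain ⟨g, hg, hgl⟩ := Henz21.exists_map_of_strictHenselization (Ash := S') f
  letI := g.toAlgebra
  letI algAT : Algebra A T := f.toAlgebra
  haveI : IsScalarTower A C T := IsScalarTower.of_algebraMap_eq fun a => rfl
  haveI : Module.Flat A T := Module.Flat.trans A C T
  let g' : S' →ₐ[A] T := { g with commutes' := RingHom.congr_fun hg }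
  haveI hflat : Module.Flat S' T := flat_of_algHom g'
  haveI hloc : IsLocalHom (algebraMap S' T) := hgl
  have hmap : (maximalIdeal S').map (algebraMap S' T) = maximalIdeal T := by
    rw [← Henz21.strictHenselization_map_maximalIdeal (R := A) (S := S'), Ideal.map_map,
      ← Henz21.strictHenselization_map_maximalIdeal (R := C) (S := T),
      AdicCompletion.maximalIdeal_eq_map, Ideal.map_map]
    exact congrArg (fun f => Ideal.map f (maximalIdeal A)) hg
  refine ⟨g.toAlgebra, hg, Module.FaithfullyFlat.of_flat_of_isLocalHom, hloc, hmap, fun c => ?_⟩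
  -- the residue fields agree
  letI : Algebra (ResidueField S') (ResidueField T) := (ResidueField.map (algebraMap S' T)).toAlgebra
  haveI : IsSepClosed (ResidueField S') := hS'.sep_closed
  haveI : Algebra.IsSeparable (ResidueField C) (ResidueField T) := hT.separable
  haveI : Algebra.IsSeparable (ResidueField S') (ResidueField T) := by
    refine ⟨fun x => ?_⟩
    have hx := Algebra.IsSeparable.isSeparable (ResidueField C) x
    let τ : ResidueField C →+* ResidueField S' :=
      (ResidueField.map (algebraMap A S')).comp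
        (RingEquiv.ofBijective _ (AdicCompletion.residueField_map_bijective A)).symm.toRingHom
    have hτ : (algebraMap (ResidueField S') (ResidueField T)).comp τ =
        algebraMap (ResidueField C) (ResidueField T) := by
      refine RingHom.ext fun y => ?_
      obtain ⟨y, rfl⟩ := (RingEquiv.ofBijective _
        (AdicCompletion.residueField_map_bijective A)).surjective y
      obtain ⟨a, rfl⟩ := residue_surjective y
      show ResidueField.map g (ResidueField.map (algebraMap A S')
        ((RingEquiv.ofBijective _ (AdicCompletion.residueField_map_bijective A)).symm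
          ((RingEquiv.ofBijective _ (AdicCompletion.residueField_map_bijective A)) (residue A a)))) = _
      rw [RingEquiv.symm_apply_apply, ResidueField.map_residue, ResidueField.map_residue,
        RingEquiv.ofBijective_apply, ResidueField.map_residue]
      exact congrArg (residue T) (RingHom.congr_fun hg a)
    refine Polynomial.Separable.of_dvd (f := (minpoly (ResidueField C) x).map τ) (Polynomial.Separable.map hx) ?_
    refine minpoly.dvd _ _ ?_
    rw [Polynomial.aeval_def, Polynomial.eval₂_map, hτ, ← Polynomial.aeval_def, minpoly.aeval]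
  obtain ⟨s, hs⟩ := IsSepClosed.algebraMap_surjective (ResidueField S') (ResidueField T) (residue T c)
  obtain ⟨s, rfl⟩ := residue_surjective s
  refine ⟨s, (residue_eq_zero_iff _).1 ?_⟩
  rw [map_sub, ← hs]
  exact sub_eq_zero.2 (ResidueField.map_residue (algebraMap S' T) s)

end Groth.Agent.Henz21

namespace Groth.Agent.Henz21

/-- Having a one-dimensional component over a prime is invariant under isomorphisms. -/
theorem exists_dim_one_of_algEquiv {R S T : Type u} [CommRing R] [CommRing S] [CommRing T]
    [Algebra R S] [Algebra R T] (e : S ≃ₐ[R] T) (p : Ideal R)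
    (h : ∃ P ∈ (p.map (algebraMap R S)).minimalPrimes, ringKrullDim (S ⧸ P) = 1) :
    ∃ P ∈ (p.map (algebraMap R T)).minimalPrimes, ringKrullDim (T ⧸ P) = 1 := by
  obtain ⟨P, hP, hP1⟩ := h
  refine ⟨P.map e.toRingEquiv, ?_, ?_⟩
  · have h1 : p.map (algebraMap R T) = (p.map (algebraMap R S)).map e.toRingEquiv := by
      rw [← e.toAlgHom.comp_algebraMap, ← Ideal.map_map]
      rfl
    rw [h1, ← Ideal.comap_symm, ← Ideal.comap_symm]
    show Ideal.comap (e.toRingEquiv.symm : T →+* S) P ∈
      (Ideal.comap (e.toRingEquiv.symm : T →+* S) _).minimalPrimes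
    rw [Ideal.comap_minimalPrimes_eq_of_surjective (f := (e.toRingEquiv.symm : T →+* S))
      e.toRingEquiv.symm.surjective]
    exact ⟨P, hP, rfl⟩
  · rw [← hP1]
    exact (ringKrullDim_eq_of_ringEquiv (Ideal.quotientEquiv P _ e.toRingEquiv rfl)).symm

/-- The minimal primes over an extension are the minimal primes over minimal primes, in a flat
tower. -/
theorem minimalPrimes_map_tower {A B C : Type u} [CommRing A] [CommRing B] [CommRing C]
    [Algebra A B] [Algebra B C] [Algebra A C] [IsScalarTower A B C] [Module.Flat B C]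
    (p : Ideal A) (Q : Ideal C) :
    Q ∈ (p.map (algebraMap A C)).minimalPrimes ↔
      ∃ q ∈ (p.map (algebraMap A B)).minimalPrimes, Q ∈ (q.map (algebraMap B C)).minimalPrimes := by
  rw [IsScalarTower.algebraMap_eq A B C, ← Ideal.map_map]
  constructor
  · intro hQ
    haveI := hQ.1.1
    haveI : Q.LiesOver (Q.comap (algebraMap B C)) := ⟨rfl⟩
    refine ⟨Q.comap (algebraMap B C), ⟨⟨inferInstance, Ideal.map_le_iff_le_comap.1 hQ.1.2⟩,
      fun q hq hle => ?_⟩, ⟨⟨inferInstance, Ideal.map_comap_le⟩, fun Q' hQ' hle => ?_⟩⟩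
    · haveI := hq.1
      obtain ⟨Q', hQ'Q, hQ', hQ'q⟩ := Ideal.exists_ideal_le_liesOver_of_le (Q := Q) hle
      have : Q' = Q := le_antisymm hQ'Q (hQ.2
        ⟨hQ', Ideal.map_le_iff_le_comap.2 (hq.2.trans hQ'q.over.le)⟩ hQ'Q)
      rw [← this]
      exact hQ'q.over.ge
    · exact hQ.2 ⟨hQ'.1, (Ideal.map_mono (Ideal.map_le_iff_le_comap.1 hQ.1.2)).trans hQ'.2⟩ hle
  · rintro ⟨q, hq, hQ⟩
    haveI := hQ.1.1
    haveI := hq.1.1
    refine ⟨⟨inferInstance, (Ideal.map_mono hq.1.2).trans hQ.1.2⟩, fun Q' hQ' hle => ?_⟩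
    haveI := hQ'.1
    haveI : Q.LiesOver (Q.comap (algebraMap B C)) := ⟨rfl⟩
    have hqQ : Q.comap (algebraMap B C) = q := by
      refine le_antisymm ?_ (Ideal.map_le_iff_le_comap.1 hQ.1.2)
      obtain ⟨R, hRQ, hR, hRq⟩ :=
        Ideal.exists_ideal_le_liesOver_of_le (Q := Q) (Ideal.map_le_iff_le_comap.1 hQ.1.2)
      have : R = Q := le_antisymm hRQ (hQ.2 ⟨hR, Ideal.map_le_iff_le_comap.2 hRq.over.le⟩ hRQ)
      rw [← this]
      exact hRq.over.ge
    have h1 : q ≤ Q'.comap (algebraMap B C) :=
      hq.2 ⟨inferInstance, Ideal.map_le_iff_le_comap.1 hQ'.2⟩ (hqQ ▸ Ideal.comap_mono hle)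
    exact hQ.2 ⟨inferInstance, Ideal.map_le_iff_le_comap.2 h1⟩ hle

end Groth.Agent.Henz21
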