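import Groth.Agent.Henz21.ComponentDim
import Groth.Agent.Henz21.EtaleGenerization
import Groth.Agent.Brnch26.Decomp
import Groth.Agent.Brnch26.Compl

/-!
Components of dimension at least two: normalization, henselizations, completion.
-/

set_option autoImplicit false
set_option linter.style.haveILetI false

universe u

open IsLocalRing

noncomputable section

namespace Groth.Agent.Henz21.C2Criterion

open Groth.Agent Brnch26

theorem forall_minimal_congr {R S : Type u} [CommRing R] [CommRing S] (e : R ≃+* S) (Φ : WithBot ℕ∞ → Prop) :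
    (∀ P ∈ minimalPrimes R, Φ (ringKrullDim (R ⧸ P))) ↔ ∀ P ∈ minimalPrimes S, Φ (ringKrullDim (S ⧸ P)) := by
  suffices h : ∀ (R S : Type u) [CommRing R] [CommRing S], (R ≃+* S) →
      (∀ P ∈ minimalPrimes R, Φ (ringKrullDim (R ⧸ P))) → ∀ P ∈ minimalPrimes S, Φ (ringKrullDim (S ⧸ P)) from
    ⟨h R S e, h S R e.symm⟩
  intro R S _ _ e h P hP
  have := hP.1.1
  let f : R →+* S := e.toRingHom
  have hmem : P.comap f ∈ minimalPrimes R := by
    refine ⟨⟨inferInstance, bot_le⟩, fun Q hQ hle => ?_⟩
    have := hQ.1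
    have h1 : P ≤ Q.comap e.symm.toRingHom := hP.2 ⟨inferInstance, bot_le⟩ fun x hx => by
      have h2 := hle hx
      show x ∈ P
      rw [← e.apply_symm_apply x]
      exact h2
    intro x hx
    have h3 := h1 hx
    show x ∈ Q
    rw [← e.symm_apply_apply x]
    exact h3
  have h2 := h _ hmem
  rwa [ringKrullDim_eq_of_ringEquiv (Ideal.quotientEquiv (P.comap f) P e
    (Ideal.map_comap_of_surjective f e.surjective P).symm)] at h2

/-- Local rings of a product decomposition are the local rings of the factors. -/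
theorem forall_atPrime_pi_iff {N : Type u} [CommRing N] {ι : Type u} [Finite ι] {D : ι → Type u}
    [∀ i, CommRing (D i)] (ψ : N ≃+* ∀ i, D i) (Φ : WithBot ℕ∞ → Prop) :
    (∀ M : MaximalSpectrum N, Φ (ringKrullDim (Localization.AtPrime M.asIdeal))) ↔
      ∀ (i : ι) (m : MaximalSpectrum (D i)), Φ (ringKrullDim (Localization.AtPrime m.asIdeal)) := by
  classical
  haveI := Fintype.ofFinite ι
  let g : ∀ i, N →+* D i := fun i => (Pi.evalRingHom D i).comp ψ.toRingHom
  have hg : ∀ i, Function.Surjective (g i) := fun i =>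
    (Function.surjective_eval i).comp ψ.surjective
  let ε : ι → N := fun i => ψ.symm (Pi.single i 1)
  have hεg : ∀ i, g i (ε i) = 1 := fun i => by simp [g, ε]
  have hker : ∀ i (x : N), g i x = 0 → x * ε i = 0 := fun i x hx => ψ.injective (by
    rw [map_mul, RingEquiv.apply_symm_apply, map_zero]
    ext j
    rcases eq_or_ne j i with rfl | hj
    · simp [show (ψ x) j = 0 from hx]
    · simp [hj])
  have hheight : ∀ i (m : Ideal (D i)) [m.IsPrime],
      ringKrullDim (Localization.AtPrime (m.comap (g i))) = ringKrullDim (Localization.AtPrime m) := by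
    intro i m _
    rw [ComponentDim.ringKrullDim_atPrime, ComponentDim.ringKrullDim_atPrime,
      Order.height_eq_krullDim_Iic, Order.height_eq_krullDim_Iic]
    have hle : ∀ P : Set.Iic (⟨m.comap (g i), inferInstance⟩ : PrimeSpectrum N),
        RingHom.ker (g i) ≤ P.1.asIdeal := by
      intro P x hx
      have h0 : x * ε i ∈ P.1.asIdeal := by rw [hker i x hx]; exact P.1.asIdeal.zero_mem
      refine (P.1.isPrime.mem_or_mem h0).resolve_right fun he => ?_
      have h1 : g i (ε i) ∈ m := P.2 he
      rw [hεg] at h1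
      exact (Ideal.ne_top_iff_one m).1 (Ideal.IsPrime.ne_top ‹_›) h1
    let F : Set.Iic (⟨m.comap (g i), inferInstance⟩ : PrimeSpectrum N) ≃o Set.Iic (⟨m, inferInstance⟩ : PrimeSpectrum (D i)) :=
      { toFun := fun P => ⟨⟨P.1.asIdeal.map (g i), Ideal.map_isPrime_of_surjective (hg i) (hle P)⟩,
          Ideal.map_le_iff_le_comap.2 P.2⟩
        invFun := fun P => ⟨⟨P.1.asIdeal.comap (g i), inferInstance⟩, Ideal.comap_mono P.2⟩
        left_inv := fun P => Subtype.ext (PrimeSpectrum.ext (by
          show (P.1.asIdeal.map (g i)).comap (g i) = _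
          rw [Ideal.comap_map_of_surjective _ (hg i), ← RingHom.ker_eq_comap_bot, sup_eq_left.2 (hle P)]))
        right_inv := fun P => Subtype.ext (PrimeSpectrum.ext (Ideal.map_comap_of_surjective _ (hg i) _))
        map_rel_iff' := fun {P P'} => by
          show P.1.asIdeal.map (g i) ≤ P'.1.asIdeal.map (g i) ↔ P.1.asIdeal ≤ P'.1.asIdeal
          rw [Ideal.map_le_iff_le_comap, Ideal.comap_map_of_surjective _ (hg i),
            ← RingHom.ker_eq_comap_bot, sup_eq_left.2 (hle P')] }
    exact Order.krullDim_eq_of_orderIso F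
  constructor
  · intro h i m
    haveI := Ideal.comap_isMaximal_of_surjective (g i) (hg i) (K := m.asIdeal) (H := m.isMaximal)
    have h1 := h ⟨m.asIdeal.comap (g i), inferInstance⟩
    rwa [hheight i m.asIdeal] at h1
  · intro h M
    obtain ⟨i, hi⟩ : ∃ i, ε i ∉ M.asIdeal := by
      by_contra hall
      push Not at hall
      refine M.isMaximal.ne_top ((Ideal.eq_top_iff_one _).2 ?_)
      have h1 : (1 : N) = ∑ i, ε i := ψ.injective (by
        rw [map_one, map_sum]; ext j; simp [ε])
      rw [h1]
      exact M.asIdeal.sum_mem fun i _ => hall i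
    have hle : RingHom.ker (g i) ≤ M.asIdeal := fun x hx => by
      have h0 : x * ε i ∈ M.asIdeal := by rw [hker i x hx]; exact M.asIdeal.zero_mem
      exact (M.isMaximal.isPrime.mem_or_mem h0).resolve_right hi
    haveI hm : (M.asIdeal.map (g i)).IsMaximal :=
      have := M.isMaximal; Ideal.IsMaximal.map_of_surjective_of_ker_le (hg i) hle
    have h1 := h i ⟨_, hm⟩
    rw [← hheight i (M.asIdeal.map (g i))] at h1
    have e : (M.asIdeal.map (g i)).comap (g i) = M.asIdeal := by
      rw [Ideal.comap_map_of_surjective _ (hg i), ← RingHom.ker_eq_comap_bot, sup_eq_left.2 hle]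
    have hc : ∀ (I J : Ideal N) [I.IsPrime] [J.IsPrime], I = J →
        ringKrullDim (Localization.AtPrime I) = ringKrullDim (Localization.AtPrime J) := by
      rintro I J _ _ rfl; rfl
    rwa [hc _ _ e] at h1

theorem not_two_le {d : WithBot ℕ∞} (h : ¬ (2 : WithBot ℕ∞) ≤ d) : d ≤ 0 ∨ d = 1 := by
  induction d with
  | bot => exact Or.inl bot_le
  | coe d =>
    induction d with
    | top => exact absurd (WithBot.coe_le_coe.2 (le_top (a := (2 : ℕ∞)))) h
    | coe n =>
      have h' : ¬ (2 : ℕ) ≤ n := fun h2 => h (WithBot.coe_le_coe.2 (WithTop.coe_le_coe.2 h2))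
      rcases n with _ | _ | n
      · exact Or.inl le_rfl
      · exact Or.inr rfl
      · exact absurd (Nat.le_add_left 2 n) h'

/-- All components of dimension at least two passes along flat extensions with the same residue field. -/
theorem forall_two_le_iff {S C : Type u} [CommRing S] [HenselianLocalRing S] [IsNoetherianRing S]
    [CommRing C] [IsLocalRing C] [IsNoetherianRing C] [Algebra S C] [Module.FaithfullyFlat S C]
    [IsLocalHom (algebraMap S C)]
    (hm : (maximalIdeal S).map (algebraMap S C) = maximalIdeal C)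
    (hres : ∀ c : C, ∃ s, c - algebraMap S C s ∈ maximalIdeal C) :
    (∀ P ∈ minimalPrimes S, (2 : WithBot ℕ∞) ≤ ringKrullDim (S ⧸ P)) ↔
      ∀ Q ∈ minimalPrimes C, (2 : WithBot ℕ∞) ≤ ringKrullDim (C ⧸ Q) := by
  have key : ∀ (R : Type u) [CommRing R] [IsLocalRing R],
      ¬ (∀ P ∈ minimalPrimes R, (2 : WithBot ℕ∞) ≤ ringKrullDim (R ⧸ P)) ↔
        ringKrullDim R ≤ 0 ∨ ∃ P ∈ minimalPrimes R, ringKrullDim (R ⧸ P) = 1 := by
    intro R _ _
    constructor
    · intro h
      push Not at h
      obtain ⟨P, hP, hP2⟩ := h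
      refine (not_two_le (not_le.2 hP2)).imp (fun h0 => ?_) fun h1 => ⟨P, hP, h1⟩
      haveI := hP.1.1
      haveI : Nontrivial (R ⧸ P) := Ideal.Quotient.nontrivial_iff.2 hP.1.1.ne_top
      haveI : Ring.KrullDimLE 0 (R ⧸ P) := Ring.krullDimLE_iff.2 (by simpa using h0)
      have hPm : P = maximalIdeal R :=
        eq_maximalIdeal (Ideal.Quotient.maximal_of_isField P Ring.KrullDimLE.isField_of_isDomain)
      have : Ring.KrullDimLE 0 R := Ring.KrullDimLE.mk₀ fun Q hQ => by
        have : Q = maximalIdeal R := le_antisymm (le_maximalIdeal hQ.ne_top)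
          (hPm ▸ hP.2 ⟨hQ, bot_le⟩ (hPm ▸ le_maximalIdeal hQ.ne_top))
        rw [this]; infer_instance
      simpa using Ring.krullDimLE_iff.1 this
    · rintro (h | ⟨P, hP, hP1⟩) hall
      · obtain ⟨P, hP, -⟩ := Ideal.exists_minimalPrimes_le (I := (⊥ : Ideal R)) (J := maximalIdeal R) bot_le
        have := (hall P hP).trans ((ringKrullDim_le_of_surjective _ Ideal.Quotient.mk_surjective).trans h)
        norm_cast at this
      · have := hall P hP
        rw [hP1] at this
        norm_cast at this
  rw [← not_iff_not, key S, key C, CAlg1.ringKrullDim_eq_of_flat (R := S) (S := C) hm]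
  have h := exists_dim_one_iff_of_ff hm hres ⊥
  rw [Ideal.map_bot] at h
  exact or_congr Iff.rfl h

theorem tfae (A : Type u) [CommRing A] [IsNoetherianRing A] [IsLocalRing A]
    (S : Type u) [CommRing S] [IsLocalRing S] [Algebra A S] [IsLocalHom (algebraMap A S)]
    [Hensel.IsHenselization A S]
    (S' : Type u) [CommRing S'] [IsLocalRing S'] [Algebra A S'] [IsLocalHom (algebraMap A S')]
    [Hensel.IsStrictHenselization A S'] :
    List.TFAE [
      ∀ m' : MaximalSpectrum (CAlg2.normRed A), (2 : WithBot ℕ∞) ≤ ringKrullDim (Localization.AtPrime m'.asIdeal),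
      ∀ p ∈ minimalPrimes S, (2 : WithBot ℕ∞) ≤ ringKrullDim (S ⧸ p),
      ∀ p ∈ minimalPrimes S', (2 : WithBot ℕ∞) ≤ ringKrullDim (S' ⧸ p),
      ∀ q ∈ minimalPrimes (AdicCompletion (IsLocalRing.maximalIdeal A) A), (2 : WithBot ℕ∞) ≤ ringKrullDim (AdicCompletion (IsLocalRing.maximalIdeal A) A ⧸ q)] := by
  haveI : Finite (minimalPrimes A) := (minimalPrimes.finite_of_isNoetherianRing A).to_subtype
  obtain ⟨ψ, -⟩ := Brnch26.exists_normRed_equiv_pi (A := A)
  have h1 := forall_atPrime_pi_iff ψ ((2 : WithBot ℕ∞) ≤ ·)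
  have h2 := (forall_minimal_congr (henselizationEquiv (R := A) S).toRingEquiv ((2 : WithBot ℕ∞) ≤ ·)).symm.trans
    (ComponentDim.forall_component_iff A (ResidueField A) ((2 : WithBot ℕ∞) ≤ ·))
  have h3 := (forall_minimal_congr (strictHenselizationEquiv (R := A) S').toRingEquiv
    ((2 : WithBot ℕ∞) ≤ ·)).symm.trans
    (ComponentDim.forall_component_iff A (SeparableClosure (ResidueField A)) ((2 : WithBot ℕ∞) ≤ ·))
  haveI hS := (inferInstance : Hensel.IsHenselization A S).henselian
  obtain ⟨g, hg, -⟩ := (inferInstance : Hensel.IsHenselization A S).universal (Cpl A) (algebraMap A (Cpl A))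
    inferInstance
  obtain ⟨hN, hff, hloc, hm, hres⟩ := Brnch26.approx_henselization (A := A) S g hg
  let := g.toAlgebra
  have h4 := forall_two_le_iff (S := S) (C := Cpl A) hm hres
  tfae_have 1 ↔ 2 := h1.trans h2.symm
  tfae_have 2 ↔ 3 := h2.trans h3.symm
  tfae_have 2 ↔ 4 := h4
  tfae_finish

end Groth.Agent.Henz21.C2Criterion
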