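import Groth.Agent.Brnch26.Compl
import Groth.Agent.Hensel20.StageLocal
import Groth.Agent.EGA4H10.CplQuot
import Groth.Agent.EGA4H10.Equidim
import Groth.Agent.EGA4H10.FlatCatenary
import Groth.Agent.Hens22.CompletionUnrAdic
import Groth.Agent.Cohen12.Completion
import Mathlib.RingTheory.Flat.Basic

/-! Formal catenarity of henselizations. -/

set_option autoImplicit false
set_option linter.style.haveILetI false

universe u

open IsLocalRing TensorProduct

noncomputable section

namespace Groth.Agent.Henz21.CatHenz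

/-- A completion is isomorphic to the completion. -/
theorem exists_cplEquiv {A C : Type u} [CommRing A] [IsLocalRing A] [IsNoetherianRing A]
    [CommRing C] [IsLocalRing C]
    [Algebra A C] (h : Hens22.IsCompl' A C) :
    ∃ g : EGA4.Cpl A ≃+* C, ∀ a, g (algebraMap A (EGA4.Cpl A) a) = algebraMap A C a := by
  classical
  haveI := h.complete
  have hA := Hens22.isCompl'_adic A
  haveI := hA.complete
  obtain ⟨g, hg⟩ := Cohen12.exists_extension (A := A) (algebraMap A C) h.map_eq.le
  suffices hb : Function.Bijective g from ⟨RingEquiv.ofBijective g hb, hg⟩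
  set M := maximalIdeal (EGA4.Cpl A)
  have hmap : M.map g = maximalIdeal C := by
    rw [show M = (maximalIdeal A).map (algebraMap A (EGA4.Cpl A)) from hA.map_eq.symm, Ideal.map_map,
      show g.comp (algebraMap A (EGA4.Cpl A)) = algebraMap A C from RingHom.ext hg, h.map_eq]
  have hpow : ∀ n, ∀ x ∈ M ^ n, g x ∈ maximalIdeal C ^ n := fun n x hx => by
    have := Ideal.mem_map_of_mem g hx
    rwa [Ideal.map_pow, hmap] at this
  have haus : ∀ {D : Type u} [CommRing D] (J : Ideal D) [IsHausdorff J D] (x : D),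
      (∀ n, x ∈ J ^ n) → x = 0 := fun J _ x hx => IsHausdorff.haus ‹IsHausdorff J _› x fun n => by
    rw [SModEq.zero, smul_eq_mul, Ideal.mul_top]; exact hx n
  refine ⟨(injective_iff_map_eq_zero g).mpr fun x hx => haus M x fun n => ?_, fun c => ?_⟩
  · obtain ⟨a, ha⟩ := hA.exists_sub_mem n x
    have h1 := hpow n _ ha
    rw [map_sub, hx, hg, zero_sub, neg_mem_iff, h.mem_pow_iff, ← hA.mem_pow_iff] at h1
    simpa using add_mem ha h1
  · choose a ha using fun n => h.exists_sub_mem n c
    obtain ⟨L, hL⟩ := IsPrecomplete.prec (inferInstance : IsPrecomplete M (EGA4.Cpl A))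
      (f := fun n => algebraMap A (EGA4.Cpl A) (a n)) (fun {m n} hmn => by
        rw [SModEq.sub_mem, smul_eq_mul, Ideal.mul_top, ← map_sub, hA.mem_pow_iff,
          ← h.mem_pow_iff, map_sub]
        have := sub_mem (Ideal.pow_le_pow_right hmn (ha n)) (ha m)
        rwa [sub_sub_sub_cancel_left] at this)
    refine ⟨L, sub_eq_zero.mp (haus (maximalIdeal C) _ fun n => ?_)⟩
    have h1 := hL n
    rw [SModEq.sub_mem, smul_eq_mul, Ideal.mul_top] at h1
    have h2 := hpow n _ h1
    rw [map_sub, hg] at h2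
    have := sub_mem (neg_mem h2) (ha n)
    convert this using 1
    ring

variable {R S : Type u} [CommRing R] [IsLocalRing R] [CommRing S] [IsLocalRing S] [Algebra R S]
  [IsLocalHom (algebraMap R S)] [Hensel.IsHenselization R S]

/-- Primes of the henselization over the same prime are incomparable. -/
theorem eq_of_le_of_comap_eq {q' q : Ideal S} [q'.IsPrime] [q.IsPrime] (hle : q' ≤ q)
    (h : q.comap (algebraMap R S) = q'.comap (algebraMap R S)) : q' = q := by
  refine le_antisymm hle fun x hx => ?_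
  let e := Henz21.henselizationEquiv (R := R) S
  let P := q.comap e.toAlgHom.toRingHom
  have hP : P.comap (algebraMap R (Henz21.Henselization R)) = q.comap (algebraMap R S) := by
    rw [Ideal.comap_comap]
    exact congrArg (fun f => Ideal.comap f q) e.toAlgHom.comp_algebraMap
  obtain ⟨s, hs, hsx⟩ := Hensel20.exists_mul_mem_map_comap P (x := e.symm x) (by
    show e (e.symm x) ∈ q
    rwa [e.apply_symm_apply])
  rw [hP, h] at hsx
  have h2 := Ideal.mem_map_of_mem e.toAlgHom.toRingHom hsx
  rw [Ideal.map_map, show e.toAlgHom.toRingHom.comp (algebraMap R (Henz21.Henselization R)) =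
    algebraMap R S from e.toAlgHom.comp_algebraMap] at h2
  have h3 : e s * x ∈ q' := by
    simpa using Ideal.map_comap_le h2
  exact ((‹q'.IsPrime›.mem_or_mem h3).resolve_left fun h4 => hs (hle h4))

theorem mem_minimalPrimes_map (q : Ideal S) [q.IsPrime] :
    q ∈ ((q.comap (algebraMap R S)).map (algebraMap R S)).minimalPrimes := by
  refine ⟨⟨inferInstance, Ideal.map_comap_le⟩, fun q' hq' hle => ?_⟩
  haveI := hq'.1
  exact (eq_of_le_of_comap_eq hle
    (le_antisymm (Ideal.map_le_iff_le_comap.mp hq'.2) (Ideal.comap_mono hle))).ge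

variable {C : Type u} [CommRing C] [Algebra S C] [Module.Flat S C]

/-- Colons commute with flat extensions. -/
theorem mem_map_of_mul_mem {I q : Ideal S} {y : S} (hq : ∀ a, a * y ∈ I → a ∈ q) {c : C}
    (hc : c * algebraMap S C y ∈ I.map (algebraMap S C)) : c ∈ q.map (algebraMap S C) := by
  let φ : S →ₗ[S] S ⧸ I := (Submodule.mkQ I).comp (LinearMap.mulRight S y)
  have hex : Function.Exact ((LinearMap.ker φ).subtype) φ := LinearMap.exact_subtype_ker_map φ
  have hkey : ∀ d ∈ I.map (algebraMap S C), d ⊗ₜ[S] (Submodule.mkQ I (1 : S)) = 0 := fun d hd => by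
    induction hd using Submodule.span_induction with
    | mem d hd =>
      obtain ⟨a, ha, rfl⟩ := hd
      rw [Algebra.algebraMap_eq_smul_one, TensorProduct.smul_tmul, ← map_smul, smul_eq_mul, mul_one]
      rw [show Submodule.mkQ I a = 0 from (Submodule.Quotient.mk_eq_zero I).mpr ha,
        TensorProduct.tmul_zero]
    | zero => simp
    | add x y _ _ hx hy => rw [TensorProduct.add_tmul, hx, hy, add_zero]
    | smul r x _ hx =>
      have := congrArg (r • ·) hx
      simpa [TensorProduct.smul_tmul'] using this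
  have h0 : φ.lTensor C (c ⊗ₜ 1) = 0 := by
    have h1 := hkey _ hc
    rw [mul_comm, ← Algebra.smul_def, TensorProduct.smul_tmul, ← map_smul] at h1
    simpa [φ, mul_comm] using h1
  obtain ⟨t, ht⟩ := (Module.Flat.lTensor_exact C hex _).mp h0
  have hr : ∀ t : C ⊗[S] (LinearMap.ker φ),
      TensorProduct.rid S C ((LinearMap.ker φ).subtype.lTensor C t) ∈ q.map (algebraMap S C) := fun t => by
    induction t using TensorProduct.induction_on with
    | zero => simp
    | tmul d a =>
      have ha : (a : S) ∈ q := hq a ((Submodule.Quotient.mk_eq_zero I).mp a.2)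
      rw [LinearMap.lTensor_tmul, TensorProduct.rid_tmul, Algebra.smul_def]
      exact Ideal.mul_mem_right _ _ (Ideal.mem_map_of_mem _ ha)
    | add x y hx hy => rw [map_add, map_add]; exact add_mem hx hy
  have := hr t
  rw [ht, TensorProduct.rid_tmul, one_smul] at this
  exact this

/-- Associated primes of `C ⧸ qC` are associated to `C ⧸ IC` for `q` minimal over `I`. -/
theorem associatedPrimes_subset [IsNoetherianRing S] {I q : Ideal S} (hq : q ∈ I.minimalPrimes) :
    associatedPrimes C (C ⧸ q.map (algebraMap S C)) ⊆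
      associatedPrimes C (C ⧸ I.map (algebraMap S C)) := by
  have hass : IsAssociatedPrime q (S ⧸ I) :=
    Module.associatedPrimes.minimalPrimes_annihilator_subset_associatedPrimes S (S ⧸ I)
      (by rwa [Ideal.annihilator_quotient])
  obtain ⟨-, z, hz⟩ := isAssociatedPrime_iff.mp hass
  obtain ⟨y, rfl⟩ := Submodule.mkQ_surjective I z
  have hcolon : ∀ a, a * y ∈ I ↔ a ∈ q := fun a => by
    rw [hz, Submodule.mem_colon_singleton, Submodule.mem_bot, ← map_smul, smul_eq_mul]
    exact (Submodule.Quotient.mk_eq_zero I).symm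
  let l : (C ⧸ q.map (algebraMap S C)) →ₗ[C] (C ⧸ I.map (algebraMap S C)) :=
    Submodule.mapQ _ _ (LinearMap.mulRight C (algebraMap S C y)) (by
      rw [Ideal.map_le_iff_le_comap]
      intro a ha
      show algebraMap S C a * algebraMap S C y ∈ I.map (algebraMap S C)
      rw [← map_mul]
      exact Ideal.mem_map_of_mem _ ((hcolon a).mpr ha))
  refine associatedPrimes.subset_of_injective (f := l) ?_
  rw [injective_iff_map_eq_zero]
  intro w hw
  obtain ⟨c, rfl⟩ := Submodule.mkQ_surjective (q.map (algebraMap S C)) w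
  refine (Submodule.Quotient.mk_eq_zero _).mpr (mem_map_of_mul_mem (fun a => (hcolon a).mp) ?_)
  exact (Submodule.Quotient.mk_eq_zero _).mp hw

omit [Module.Flat S C] in
/-- An associated prime of a quotient ring, seen in the quotient ring. -/
theorem map_mem_associatedPrimes [IsNoetherianRing C] {J P : Ideal C}
    (hP : P ∈ associatedPrimes C (C ⧸ J)) :
    ∃ Q ∈ associatedPrimes (C ⧸ J) (C ⧸ J), Q.comap (Ideal.Quotient.mk J) = P := by
  obtain ⟨hp, z, hz⟩ := isAssociatedPrime_iff.mp hP
  have hJP : J ≤ P := fun c hc => by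
    rw [hz, Submodule.mem_colon_singleton, Submodule.mem_bot, Algebra.smul_def,
      Ideal.Quotient.algebraMap_eq, Ideal.Quotient.eq_zero_iff_mem.mpr hc, zero_mul]
  haveI := hp
  have hc : (P.map (Ideal.Quotient.mk J)).comap (Ideal.Quotient.mk J) = P := by
    rw [Ideal.comap_map_of_surjective' _ Ideal.Quotient.mk_surjective, Ideal.mk_ker, sup_eq_left.mpr hJP]
  refine ⟨P.map (Ideal.Quotient.mk J), isAssociatedPrime_iff.mpr
    ⟨Ideal.map_isPrime_of_surjective Ideal.Quotient.mk_surjective (by rwa [Ideal.mk_ker]), z, ?_⟩, hc⟩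
  ext r
  obtain ⟨r, rfl⟩ := Ideal.Quotient.mk_surjective r
  rw [← Ideal.mem_comap, hc, hz, Submodule.mem_colon_singleton, Submodule.mem_colon_singleton,
    Submodule.mem_bot, Submodule.mem_bot, Algebra.smul_def, smul_eq_mul, Ideal.Quotient.algebraMap_eq]

section Main

variable (R S) [IsNoetherianRing R]

/-- The comparison of the completions of the quotients. -/
theorem exists_compare (q : Ideal S) [q.IsPrime] :
    ∃ (_ : Algebra S (EGA4.Cpl R)) (_ : IsScalarTower R S (EGA4.Cpl R)),
      Module.FaithfullyFlat S (EGA4.Cpl R) ∧ IsNoetherianRing S ∧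
      Nonempty ((EGA4.Cpl R ⧸ q.map (algebraMap S (EGA4.Cpl R))) ≃+* EGA4.Cpl (S ⧸ q)) ∧
      Nonempty ((EGA4.Cpl R ⧸ ((q.comap (algebraMap R S)).map (algebraMap R S)).map
        (algebraMap S (EGA4.Cpl R))) ≃+* EGA4.Cpl (R ⧸ q.comap (algebraMap R S))) := by
  haveI : IsLocalHom (algebraMap R (EGA4.Cpl R)) := (Hens22.isCompl'_adic R).isLocalHom
  obtain ⟨ψ, hψ, -⟩ := Hensel.IsHenselization.universal (R := R) (S := S) (EGA4.Cpl R)
    (algebraMap R (EGA4.Cpl R)) inferInstance
  letI := ψ.toAlgebra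
  haveI hT : IsScalarTower R S (EGA4.Cpl R) :=
    IsScalarTower.of_algebraMap_eq fun r => (RingHom.congr_fun hψ r).symm
  obtain ⟨hN, hff, hloc, hm, -⟩ := Brnch26.approx_henselization S ψ hψ
  haveI := hN
  haveI := hff
  have hR := Hens22.isCompl'_adic R
  have hS : Hens22.IsCompl' S (EGA4.Cpl R) :=
    { flat := inferInstance
      noetherian := hR.noetherian
      complete := hR.complete
      map_eq := hm
      mem_pow_iff := fun n a => by
        rw [← hm, ← Ideal.map_pow, ← Ideal.mem_comap, Ideal.comap_map_eq_self_of_faithfullyFlat]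
      exists_sub_mem := fun n c => by
        obtain ⟨a, ha⟩ := hR.exists_sub_mem n c
        exact ⟨algebraMap R S a, by rwa [← IsScalarTower.algebraMap_apply]⟩ }
  obtain ⟨e, he⟩ := exists_cplEquiv hS
  refine ⟨ψ.toAlgebra, hT, hff, hN, ⟨?_⟩, ⟨?_⟩⟩
  · refine (Ideal.quotientEquiv (q.map (algebraMap S (EGA4.Cpl S))) _ e ?_).symm.trans
      ((Ideal.quotEquivOfEq ?_).trans (EGA4H10.cplQuotEquiv S (S ⧸ q) Ideal.Quotient.mk_surjective))
    · rw [Ideal.map_map]
      exact congrArg (fun f => Ideal.map f q) (RingHom.ext fun a => (he a).symm)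
    · rw [show RingHom.ker (algebraMap S (S ⧸ q)) = q from Ideal.mk_ker]
  · refine (Ideal.quotEquivOfEq ?_).trans
      (EGA4H10.cplQuotEquiv R (R ⧸ q.comap (algebraMap R S)) Ideal.Quotient.mk_surjective)
    rw [Ideal.map_map, ← IsScalarTower.algebraMap_eq,
      show RingHom.ker (algebraMap R (R ⧸ q.comap (algebraMap R S))) = q.comap (algebraMap R S) from Ideal.mk_ker]

theorem isFormallyStrictlyCatenary (h : EGA4.IsFormallyStrictlyCatenary R) :
    EGA4.IsFormallyStrictlyCatenary S := fun q _ => by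
  obtain ⟨_, _, hff, hN, ⟨E1⟩, ⟨E2⟩⟩ := exists_compare R S q
  haveI : IsNoetherianRing (EGA4.Cpl R) := (Hens22.isCompl'_adic R).noetherian
  set J := ((q.comap (algebraMap R S)).map (algebraMap R S)).map (algebraMap S (EGA4.Cpl R))
  have hJ : EGA4.IsStrictlyEquidim (EGA4.Cpl R ⧸ J) :=
    EGA4H10.isStrictlyEquidim_of_ringEquiv E2.symm (h _)
  refine EGA4H10.isStrictlyEquidim_of_ringEquiv E1
    (EGA4H10.isStrictlyEquidim_quotient _ (fun htop => ?_) (ringKrullDim (EGA4.Cpl R ⧸ J)) fun P hP => ?_)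
  · exact ‹q.IsPrime›.ne_top (by
      rw [← Ideal.comap_map_eq_self_of_faithfullyFlat (B := EGA4.Cpl R) q, htop, Ideal.comap_top])
  · obtain ⟨Q, hQ, rfl⟩ := map_mem_associatedPrimes
      (associatedPrimes_subset (mem_minimalPrimes_map (R := R) q) hP)
    rw [EGA4H10.dim_quotient_comap _ Ideal.Quotient.mk_surjective]
    exact hJ Q hQ

theorem isFormallyCatenary (h : EGA4.IsFormallyCatenary R) :
    EGA4.IsFormallyCatenary S := fun q _ => by
  obtain ⟨_, _, hff, hN, ⟨E1⟩, ⟨E2⟩⟩ := exists_compare R S q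
  haveI : IsNoetherianRing (EGA4.Cpl R) := (Hens22.isCompl'_adic R).noetherian
  set J := ((q.comap (algebraMap R S)).map (algebraMap R S)).map (algebraMap S (EGA4.Cpl R))
  set Jq := q.map (algebraMap S (EGA4.Cpl R))
  have hJ : EGA4.IsEquidim (EGA4.Cpl R ⧸ J) := EGA4H10.isEquidim_of_ringEquiv E2.symm (h _)
  refine EGA4H10.isEquidim_of_ringEquiv E1 ?_
  have key : ∀ p ∈ minimalPrimes (EGA4.Cpl R ⧸ Jq),
      ringKrullDim ((EGA4.Cpl R ⧸ Jq) ⧸ p) = ringKrullDim (EGA4.Cpl R ⧸ J) := fun p hp => by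
    rw [← EGA4H10.dim_quotient_comap (Ideal.Quotient.mk Jq) Ideal.Quotient.mk_surjective p]
    set P := p.comap (Ideal.Quotient.mk Jq)
    have hP : P ∈ Jq.minimalPrimes := by
      simpa using EGA4H10.mem_minimal_of_surjective _ Ideal.Quotient.mk_surjective hp
    obtain ⟨hqP, -⟩ := EGA4H10.comap_minimal_of_flat q hP
    rw [Ideal.minimalPrimes_eq_subsingleton_self] at hqP
    have hPJ : P ∈ J.minimalPrimes := by
      refine ⟨⟨hP.1.1, le_trans (Ideal.map_mono Ideal.map_comap_le) hP.1.2⟩, fun P' hP' hle => ?_⟩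
      haveI := hP'.1
      have h2 := (mem_minimalPrimes_map (R := R) q).2
        ⟨Ideal.comap_isPrime (algebraMap S (EGA4.Cpl R)) P', Ideal.map_le_iff_le_comap.mp hP'.2⟩
        ((Ideal.comap_mono hle).trans (le_of_eq hqP))
      exact hP.2 ⟨hP'.1, Ideal.map_le_iff_le_comap.mpr h2⟩ hle
    obtain ⟨p', hp', hpP⟩ : ∃ p' ∈ minimalPrimes (EGA4.Cpl R ⧸ J), p'.comap (Ideal.Quotient.mk J) = P := by
      rw [Ideal.minimalPrimes_eq_comap] at hPJ
      exact hPJ
    rw [← hpP, EGA4H10.dim_quotient_comap _ Ideal.Quotient.mk_surjective]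
    exact hJ p' hp'
  haveI : Nontrivial (EGA4.Cpl R ⧸ Jq) := E1.toEquiv.nontrivial
  haveI : IsLocalRing (EGA4.Cpl R ⧸ Jq) :=
    IsLocalRing.of_surjective' (Ideal.Quotient.mk Jq) Ideal.Quotient.mk_surjective
  intro p hp
  obtain ⟨p0, hp0, hdim⟩ := EGA4H10.exists_minimal_dim_eq (EGA4.Cpl R ⧸ Jq)
  rw [key p hp, ← hdim, key p0 hp0]

end Main

end Groth.Agent.Henz21.CatHenz
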