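import Mathlib.RingTheory.Etale.Basic
import Mathlib.RingTheory.TensorProduct.Maps
import Mathlib.RingTheory.FinitePresentation
import Mathlib.Algebra.Category.Ring.FilteredColimits
import Mathlib.Algebra.Category.Ring.Colimits
import Mathlib.CategoryTheory.Limits.ConcreteCategory.Basic

/-!
For a ring map `R → K` we consider the colimit `H R K` of all pairs `(S, σ)` of an etale
`R`-algebra `S` and an `R`-algebra map `σ : S → K`.
-/

universe u

open CategoryTheory CategoryTheory.Limits TensorProduct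

noncomputable section

namespace Groth.Agent.Henz21

variable (R K : Type u) [CommRing R] [CommRing K] [Algebra R K]

/-- A small model of a pair: an etale `R`-algebra (presented as a quotient of a polynomial ring)
with a map to `K`. -/
structure Pt : Type u where
  n : ℕ
  I : Ideal (MvPolynomial (Fin n) R)
  etale : Algebra.Etale R (MvPolynomial (Fin n) R ⧸ I)
  ptRaw : (MvPolynomial (Fin n) R ⧸ I) →ₐ[R] K

namespace Pt

variable {R K}

def S (i : Pt R K) : Type u := MvPolynomial (Fin i.n) R ⧸ i.I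

instance (i : Pt R K) : CommRing i.S :=
  inferInstanceAs (CommRing (MvPolynomial (Fin i.n) R ⧸ i.I))

instance (i : Pt R K) : Algebra R i.S :=
  inferInstanceAs (Algebra R (MvPolynomial (Fin i.n) R ⧸ i.I))

instance (i : Pt R K) : Algebra.Etale R i.S := i.etale

/-- The point of a small model. -/
def pt (i : Pt R K) : i.S →ₐ[R] K := i.ptRaw

/-- Every pair is isomorphic to one of the small models. -/
theorem exists_equiv (S : Type u) [CommRing S] [Algebra R S] [Algebra.Etale R S] (σ : S →ₐ[R] K) :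
    ∃ (i : Pt R K) (e : S ≃ₐ[R] i.S), ∀ s, i.pt (e s) = σ s := by
  obtain ⟨n, f, hf, -⟩ := Algebra.FinitePresentation.out (R := R) (A := S)
  let e : (MvPolynomial (Fin n) R ⧸ RingHom.ker f) ≃ₐ[R] S :=
    Ideal.quotientKerAlgEquivOfSurjective hf
  refine ⟨⟨n, RingHom.ker f, Algebra.Etale.of_equiv e.symm, σ.comp e.toAlgHom⟩, e.symm, ?_⟩
  intro s
  show σ (e (e.symm s)) = σ s
  rw [AlgEquiv.apply_symm_apply]

@[ext]
structure Hom (i j : Pt R K) : Type u where
  φ : i.S →ₐ[R] j.S
  comp : j.pt.comp φ = i.pt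

theorem Hom.pt_apply {i j : Pt R K} (f : Hom i j) (s : i.S) : j.pt (f.φ s) = i.pt s :=
  DFunLike.congr_fun f.comp s

instance : SmallCategory (Pt R K) where
  Hom := Hom
  id i := ⟨AlgHom.id R i.S, AlgHom.comp_id _⟩
  comp f g := ⟨g.φ.comp f.φ, by rw [← AlgHom.comp_assoc, g.comp, f.comp]⟩

@[simp] theorem comp_φ {i j k : Pt R K} (f : i ⟶ j) (g : j ⟶ k) : (f ≫ g).φ = g.φ.comp f.φ := rfl

@[simp] theorem id_φ (i : Pt R K) : Hom.φ (𝟙 i) = AlgHom.id R i.S := rfl

theorem hom_ext {i j : Pt R K} {f g : i ⟶ j} (h : f.φ = g.φ) : f = g := Hom.ext h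

/-- A map from a small model into a pair gives a map into its small model. -/
theorem exists_hom (i : Pt R K) (S : Type u) [CommRing S] [Algebra R S] [Algebra.Etale R S]
    (σ : S →ₐ[R] K) (g : i.S →ₐ[R] S) (hg : σ.comp g = i.pt) :
    ∃ (j : Pt R K) (e : S ≃ₐ[R] j.S) (f : i ⟶ j), (∀ s, j.pt (e s) = σ s) ∧
      ∀ s, f.φ s = e (g s) := by
  obtain ⟨j, e, he⟩ := exists_equiv S σ
  refine ⟨j, e, ⟨e.toAlgHom.comp g, ?_⟩, he, fun s => rfl⟩
  ext1 s
  exact (he _).trans (DFunLike.congr_fun hg s)

variable (R K) in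
theorem nonempty : Nonempty (Pt R K) :=
  let ⟨i, _, _⟩ := exists_equiv R (Algebra.ofId R K)
  ⟨i⟩

theorem isFiltered : IsFiltered (Pt R K) := by
  have : Nonempty (Pt R K) := nonempty R K
  have : IsFilteredOrEmpty (Pt R K) := by
    constructor
    · intro i j
      have : Algebra.Etale R (i.S ⊗[R] j.S) := Algebra.Etale.comp R i.S (i.S ⊗[R] j.S)
      obtain ⟨k, e, he⟩ := exists_equiv (i.S ⊗[R] j.S)
        (Algebra.TensorProduct.productMap i.pt j.pt)
      refine ⟨k, ⟨e.toAlgHom.comp Algebra.TensorProduct.includeLeft, ?_⟩,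
        ⟨e.toAlgHom.comp Algebra.TensorProduct.includeRight, ?_⟩, trivial⟩
      · ext1 s
        show k.pt (e (s ⊗ₜ 1)) = _
        rw [he]; simp
      · ext1 s
        show k.pt (e (1 ⊗ₜ s)) = _
        rw [he]; simp
    · intro i j f g
      let m : i.S ⊗[R] i.S →ₐ[R] i.S := Algebra.TensorProduct.lmul' R
      let fg : i.S ⊗[R] i.S →ₐ[R] j.S := Algebra.TensorProduct.productMap f.φ g.φ
      let a1 : Algebra (i.S ⊗[R] i.S) i.S := m.toRingHom.toAlgebra
      let a2 : Algebra (i.S ⊗[R] i.S) j.S := fg.toRingHom.toAlgebra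
      have : IsScalarTower R (i.S ⊗[R] i.S) i.S :=
        IsScalarTower.of_algebraMap_eq (fun r => (m.commutes r).symm)
      have : IsScalarTower R (i.S ⊗[R] i.S) j.S :=
        IsScalarTower.of_algebraMap_eq (fun r => (fg.commutes r).symm)
      have : Algebra.Etale R (i.S ⊗[R] i.S) := Algebra.Etale.comp R i.S (i.S ⊗[R] i.S)
      have : Algebra.Etale (i.S ⊗[R] i.S) i.S :=
        Algebra.Etale.of_restrictScalars R (i.S ⊗[R] i.S) i.S
      let T := j.S ⊗[i.S ⊗[R] i.S] i.S
      have : Algebra.Etale R T := Algebra.Etale.comp R j.S T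
      have hσ : ∀ x : i.S ⊗[R] i.S, j.pt (fg x) = i.pt (m x) := by
        intro x
        have : j.pt.comp fg = i.pt.comp m := by
          apply Algebra.TensorProduct.ext'
          intro a b
          simp [m, fg, f.pt_apply, g.pt_apply]
        exact DFunLike.congr_fun this x
      let a3 : Algebra (i.S ⊗[R] i.S) K := (i.pt.comp m).toRingHom.toAlgebra
      have : IsScalarTower R (i.S ⊗[R] i.S) K :=
        IsScalarTower.of_algebraMap_eq (fun r => ((i.pt.comp m).commutes r).symm)
      let σj : j.S →ₐ[i.S ⊗[R] i.S] K := { j.pt.toRingHom with commutes' := hσ }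
      let σi : i.S →ₐ[i.S ⊗[R] i.S] K := { i.pt.toRingHom with commutes' := fun x => rfl }
      let σT : T →ₐ[R] K := (Algebra.TensorProduct.productMap σj σi).restrictScalars R
      obtain ⟨k, e, h, -, hh⟩ := exists_hom j T σT
        ((Algebra.TensorProduct.includeLeft : j.S →ₐ[i.S ⊗[R] i.S] T).restrictScalars R)
        (by ext1 s; simp [σT, σj, T])
      refine ⟨k, h, hom_ext ?_⟩
      ext1 s
      simp only [comp_φ, AlgHom.comp_apply, hh]
      congr 1
      show (f.φ s ⊗ₜ (1 : i.S) : T) = g.φ s ⊗ₜ 1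
      have e1 : algebraMap (i.S ⊗[R] i.S) T (s ⊗ₜ 1) = f.φ s ⊗ₜ 1 := by
        rw [Algebra.TensorProduct.algebraMap_apply]
        congr 1
        show fg (s ⊗ₜ 1) = _
        simp [fg]
      have e2 : algebraMap (i.S ⊗[R] i.S) T (1 ⊗ₜ s) = g.φ s ⊗ₜ 1 := by
        rw [Algebra.TensorProduct.algebraMap_apply]
        congr 1
        show fg (1 ⊗ₜ s) = _
        simp [fg]
      rw [← e1, ← e2]
      have key : ∀ x : i.S ⊗[R] i.S, algebraMap (i.S ⊗[R] i.S) T x = (1 : j.S) ⊗ₜ m x :=
        fun x => Algebra.TensorProduct.algebraMap_apply' x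
      rw [key, key]
      congr 1
      simp [m]
  constructor

instance : IsFiltered (Pt R K) := isFiltered

variable (R K) in
def diagram : Pt R K ⥤ CommRingCat.{u} where
  obj i := CommRingCat.of i.S
  map f := CommRingCat.ofHom f.φ.toRingHom

end Pt

/-- The colimit of all pairs. -/
def H : Type u := (colimit (Pt.diagram R K) : CommRingCat.{u})

noncomputable instance : CommRing (H R K) :=
  inferInstanceAs (CommRing (colimit (Pt.diagram R K) : CommRingCat.{u}))

namespace H

variable {R K}

noncomputable def inclRing (i : Pt R K) : i.S →+* H R K := (colimit.ι (Pt.diagram R K) i).hom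

theorem inclRing_comp {i j : Pt R K} (f : i ⟶ j) (s : i.S) :
    inclRing j (f.φ s) = inclRing i s := by
  have := colimit.w (Pt.diagram R K) f
  exact ConcreteCategory.congr_hom this s

theorem inclRing_algebraMap (i j : Pt R K) (r : R) :
    inclRing i (algebraMap R i.S r) = inclRing j (algebraMap R j.S r) := by
  rw [← inclRing_comp (IsFiltered.leftToMax i j), ← inclRing_comp (IsFiltered.rightToMax i j),
    AlgHom.commutes, AlgHom.commutes]

variable (R K) in
noncomputable def base : Pt R K := (Pt.nonempty R K).some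

noncomputable instance : Algebra R (H R K) :=
  ((inclRing (base R K)).comp (algebraMap R (base R K).S)).toAlgebra

noncomputable def incl (i : Pt R K) : i.S →ₐ[R] H R K :=
  { inclRing i with commutes' := fun r => inclRing_algebraMap i (base R K) r }

theorem incl_comp {i j : Pt R K} (f : i ⟶ j) : (incl j).comp f.φ = incl i :=
  AlgHom.ext (inclRing_comp f)

@[simp] theorem incl_φ {i j : Pt R K} (f : i ⟶ j) (s : i.S) : incl j (f.φ s) = incl i s :=
  inclRing_comp f s

theorem exists_rep (x : H R K) : ∃ (i : Pt R K) (s : i.S), incl i s = x :=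
  Concrete.colimit_exists_rep (Pt.diagram R K) x

theorem incl_eq_iff {i j : Pt R K} (s : i.S) (t : j.S) :
    incl i s = incl j t ↔ ∃ (k : Pt R K) (f : i ⟶ k) (g : j ⟶ k), f.φ s = g.φ t :=
  Concrete.colimit_rep_eq_iff_exists (Pt.diagram R K) (i := i) (j := j) s t

theorem exists_rep_two (x y : H R K) :
    ∃ (i : Pt R K) (s t : i.S), incl i s = x ∧ incl i t = y := by
  obtain ⟨i, s, rfl⟩ := exists_rep x
  obtain ⟨j, t, rfl⟩ := exists_rep y
  exact ⟨IsFiltered.max i j, (IsFiltered.leftToMax i j).φ s, (IsFiltered.rightToMax i j).φ t,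
    incl_φ _ _, incl_φ _ _⟩

theorem algHom_ext {T : Type*} [CommRing T] [Algebra R T] {f g : H R K →ₐ[R] T}
    (h : ∀ (i : Pt R K) (s : i.S), f (incl i s) = g (incl i s)) : f = g := by
  ext1 x
  obtain ⟨i, s, rfl⟩ := exists_rep x
  exact h i s

theorem ringHom_ext {T : Type*} [CommRing T] {f g : H R K →+* T}
    (h : ∀ (i : Pt R K) (s : i.S), f (incl i s) = g (incl i s)) : f = g := by
  ext1 x
  obtain ⟨i, s, rfl⟩ := exists_rep x
  exact h i s

section lift

variable {T : Type u} [CommRing T] [Algebra R T] (φ : ∀ i : Pt R K, i.S →ₐ[R] T)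
  (h : ∀ (i j : Pt R K) (f : i ⟶ j), (φ j).comp f.φ = φ i)

noncomputable def liftRing : H R K →+* T :=
  (colimit.desc (Pt.diagram R K)
    (⟨CommRingCat.of T,
      { app := fun i => CommRingCat.ofHom (φ i).toRingHom
        naturality := fun i j f => CommRingCat.hom_ext
          (RingHom.ext fun s => DFunLike.congr_fun (h i j f) s) }⟩ :
      Cocone (Pt.diagram R K))).hom

theorem liftRing_incl (i : Pt R K) (s : i.S) : liftRing φ h (incl i s) = φ i s := by
  unfold liftRing
  exact RingHom.congr_fun (congrArg CommRingCat.Hom.hom (colimit.ι_desc (F := Pt.diagram R K) _ i)) s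

/-- Universal property of the colimit. -/
noncomputable def lift : H R K →ₐ[R] T :=
  { liftRing φ h with
    commutes' := fun r => by
      show liftRing φ h (algebraMap R (H R K) r) = _
      rw [← (incl (base R K)).commutes r, liftRing_incl, AlgHom.commutes] }

@[simp] theorem lift_incl (i : Pt R K) (s : i.S) : lift φ h (incl i s) = φ i s :=
  liftRing_incl φ h i s

end lift

variable (R K) in
/-- The canonical map to the target. -/
noncomputable def proj : H R K →ₐ[R] K := lift (fun i => i.pt) (fun _ _ f => f.comp)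

@[simp] theorem proj_incl (i : Pt R K) (s : i.S) : proj R K (incl i s) = i.pt s :=
  lift_incl _ _ i s

/-- An etale algebra with a map to `K` maps to `H R K`. -/
theorem exists_algHom_of_pt (S : Type u) [CommRing S] [Algebra R S] [Algebra.Etale R S]
    (σ : S →ₐ[R] K) : ∃ f : S →ₐ[R] H R K, (proj R K).comp f = σ := by
  obtain ⟨i, e, he⟩ := Pt.exists_equiv S σ
  exact ⟨(incl i).comp e.toAlgHom, AlgHom.ext fun s => (proj_incl i _).trans (he s)⟩

/-- An etale algebra under a stage, compatible with the point, maps to `H R K`. -/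
theorem exists_algHom_of_stage (i : Pt R K) (S : Type u) [CommRing S] [Algebra R S]
    [Algebra.Etale R S] (σ : S →ₐ[R] K) (g : i.S →ₐ[R] S) (hg : σ.comp g = i.pt) :
    ∃ F : S →ₐ[R] H R K, (proj R K).comp F = σ ∧ F.comp g = incl i := by
  obtain ⟨j, e, f, he, hf⟩ := Pt.exists_hom i S σ g hg
  refine ⟨(incl j).comp e.toAlgHom, AlgHom.ext fun s => (proj_incl j _).trans (he s), ?_⟩
  ext1 s
  show incl j (e (g s)) = incl i s
  rw [← hf, incl_φ]

theorem isUnit_of_isUnit_proj {x : H R K} (hx : IsUnit (proj R K x)) : IsUnit x := by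
  obtain ⟨i, s, rfl⟩ := exists_rep x
  rw [proj_incl] at hx
  let S' := Localization.Away s
  have : Algebra.Etale i.S S' := Algebra.Etale.of_isLocalizationAway s
  have : Algebra.Etale R S' := Algebra.Etale.comp R i.S S'
  let σ : S' →ₐ[R] K := IsLocalization.liftAlgHom (M := Submonoid.powers s) (f := i.pt) (by
    rintro ⟨y, n, rfl⟩
    simpa using hx.pow n)
  obtain ⟨F, -, hF⟩ := exists_algHom_of_stage i S' σ (IsScalarTower.toAlgHom R i.S S') (by
    ext1 t; simp [σ])
  rw [← hF]
  exact (IsLocalization.Away.algebraMap_isUnit (S := S') s).map F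

theorem isUnit_iff {x : H R K} : IsUnit x ↔ IsUnit (proj R K x) :=
  ⟨fun h => h.map _, isUnit_of_isUnit_proj⟩

theorem ker_proj_le_jacobson :
    RingHom.ker (proj R K) ≤ Ideal.jacobson (⊥ : Ideal (H R K)) := by
  intro x hx
  rw [Ideal.mem_jacobson_bot]
  intro y
  apply isUnit_of_isUnit_proj
  rw [RingHom.mem_ker] at hx
  simp [hx]

end H

end Groth.Agent.Henz21
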