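import Groth.Agent.Brnch26.Main
import Groth.Agent.Brnch26.DomainLoc
import Groth.Agent.EGA4Alg4.IntegralDim
import Mathlib.RingTheory.Ideal.GoingDown
import Mathlib.RingTheory.Ideal.Height
import Mathlib.RingTheory.Flat.FaithfullyFlat.Algebra

/-!
Dimensions of the components of henselizations and local rings of normalizations.
-/

set_option autoImplicit false
set_option linter.style.haveILetI false

universe u

open IsLocalRing
open scoped TensorProduct

noncomputable section

namespace Groth.Agent.Henz21.ComponentDim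

open Groth.Agent Brnch26

variable {A K : Type u} [CommRing A] [IsLocalRing A] [Field K] [Algebra A K]
  [IsLocalHom (algebraMap A K)] (p : minimalPrimes A)

theorem isMaximal_comap_inr (Q : Ideal (BC p K)) [Q.IsMaximal] : (Q.comap (inr p K)).IsMaximal := by
  haveI : (Q.comap (algebraMap (Henz21.H A K) (BC p K))).IsMaximal :=
    Ideal.isMaximal_comap_of_isIntegral_of_isMaximal Q
  have h2 : ((Q.comap (inr p K)).comap (algebraMap A (Comp A p))).IsMaximal := by
    have e : (Q.comap (inr p K)).comap (algebraMap A (Comp A p)) =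
        (Q.comap (algebraMap (Henz21.H A K) (BC p K))).comap (algebraMap A (Henz21.H A K)) := by
      rw [Ideal.comap_comap, Ideal.comap_comap]
      congr 1
      exact RingHom.ext fun a => (inr_algebraMap p a).trans
        (IsScalarTower.algebraMap_apply A (Henz21.H A K) (BC p K) a)
    rw [e, eq_maximalIdeal ‹(Q.comap (algebraMap (Henz21.H A K) (BC p K))).IsMaximal›,
      maximalIdeal_comap]
    exact maximalIdeal.isMaximal A
  exact Ideal.isMaximal_of_isIntegral_of_isMaximal_comap (R := A) _ h2

omit [IsLocalRing A] [IsLocalHom (algebraMap A K)] in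
theorem flat_inr : (inr p K).Flat := by
  have h : inr p K = (Algebra.TensorProduct.comm A (Comp A p) (Henz21.H A K)).toAlgHom.toRingHom.comp
      (algebraMap (Comp A p) (Comp A p ⊗[A] Henz21.H A K)) := RingHom.ext fun b => rfl
  rw [h]
  exact (RingHom.flat_algebraMap_iff.2 inferInstance).comp
    (RingHom.Flat.of_bijective (Algebra.TensorProduct.comm A (Comp A p) (Henz21.H A K)).bijective)

/-- The height of a point of the base change is the height of its image in the normalization. -/
theorem height_eq (Q : Ideal (BC p K)) [Q.IsPrime] :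
    Order.height (⟨Q, inferInstance⟩ : PrimeSpectrum (BC p K)) =
      Order.height (⟨Q.comap (inr p K), inferInstance⟩ : PrimeSpectrum (Comp A p)) := by
  refine le_antisymm (Order.height_le_height_apply_of_strictMono (PrimeSpectrum.comap (inr p K))
    (fun P P' h => lt_of_le_of_ne (Ideal.comap_mono h.le) fun e => ?_) _) ?_
  · have h1 := Ideal.IsIntegral.comap_lt_comap (R := Henz21.H A K) (I := P.asIdeal) (J := P'.asIdeal) h
    refine h1.ne (eq_of_le_of_comap_eq h1.le ?_)
    have e' : P.asIdeal.comap (inr p K) = P'.asIdeal.comap (inr p K) := congrArg PrimeSpectrum.asIdeal e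
    have e2 := congrArg (Ideal.comap (algebraMap A (Comp A p))) e'
    rw [Ideal.comap_comap, Ideal.comap_comap] at e2
    rw [Ideal.comap_comap, Ideal.comap_comap]
    have hc : (inr p K).comp (algebraMap A (Comp A p)) =
        (algebraMap (Henz21.H A K) (BC p K)).comp (algebraMap A (Henz21.H A K)) :=
      RingHom.ext fun a => (inr_algebraMap p a).trans
        (IsScalarTower.algebraMap_apply A (Henz21.H A K) (BC p K) a)
    rw [hc] at e2
    exact e2
  · let : Algebra (Comp A p) (BC p K) := (inr p K).toAlgebra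
    haveI : Module.Flat (Comp A p) (BC p K) := flat_inr p
    refine Order.height_le fun l hl => ?_
    haveI : Q.LiesOver l.last.asIdeal := ⟨by rw [hl]; rfl⟩
    obtain ⟨L, hL, hlast, -⟩ := Ideal.exists_ltSeries_of_hasGoingDown l Q
    rw [← hL]
    exact Order.length_le_height hlast.le

/-- A point of the base change gives a component of the henselization of the same dimension. -/
theorem exists_component (Q : Ideal (BC p K)) [Q.IsMaximal] :
    ∃ low : Ideal (BC p K), low.IsPrime ∧ low ≤ Q ∧ (∀ P' : Ideal (BC p K), P'.IsPrime → P' ≤ Q → low ≤ P') ∧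
      low.comap (inl p K) ∈ minimalPrimes (Henz21.H A K) ∧
      ringKrullDim (Henz21.H A K ⧸ low.comap (inl p K)) =
        Order.height (⟨Q, inferInstance⟩ : PrimeSpectrum (BC p K)) := by
  obtain ⟨low, hlow, hlowQ, hleast⟩ :=
    exists_isPrime_le_forall_le (A := A) (K := K) (D := Comp A p) Q
  have hbot : low.comap (inr p K) = ⊥ := comap_inr_eq_bot_of_min p ⟨⟨hlow, bot_le⟩, fun P' hP' hle =>
    hleast P' hP'.1 (hle.trans hlowQ)⟩
  refine ⟨low, hlow, hlowQ, hleast, ⟨⟨Ideal.comap_isPrime _ _, bot_le⟩, fun P' hP' hle => ?_⟩, ?_⟩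
  · haveI := hP'.1
    refine (eq_of_le_of_comap_eq hle (le_antisymm (Ideal.comap_mono hle) ?_)).ge
    rw [comap_algebraMap_eq p hbot]
    exact p.2.2 ⟨Ideal.comap_isPrime _ _, bot_le⟩
      ((Ideal.comap_mono hle).trans (comap_algebraMap_eq p hbot).le)
  · haveI : low.LiesOver (low.comap (inl p K)) := ⟨rfl⟩
    haveI : Algebra.IsIntegral (Henz21.H A K ⧸ low.comap (inl p K)) (BC p K ⧸ low) :=
      Algebra.IsIntegral.tower_top (R := Henz21.H A K)
    rw [← EGA4Alg4.ringKrullDim_eq_of_integral (Henz21.H A K ⧸ low.comap (inl p K)) (BC p K ⧸ low)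
      Ideal.algebraMap_quotient_injective, ringKrullDim_quotient, Order.height_eq_krullDim_Iic]
    refine Order.krullDim_eq_of_orderIso (OrderIso.setCongr _ _ (Set.ext fun P' => ?_))
    show low ≤ P'.asIdeal ↔ P'.asIdeal ≤ Q
    refine ⟨fun h => ?_, fun h => hleast _ P'.isPrime h⟩
    obtain ⟨Q', hQ', hle⟩ := Ideal.exists_le_maximal P'.asIdeal P'.isPrime.ne_top
    obtain ⟨Q₀, -, -, hu⟩ := exists_isMaximal_unique_ge p low
    exact hle.trans ((hu _ hQ' (h.trans hle)).trans (hu _ ‹_› hlowQ).symm).le

/-- Every component of the henselization over `p` comes from a point of the base change. -/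
theorem exists_over (P : Ideal (Henz21.H A K)) [hP : P.IsPrime]
    (hPA : P.comap (algebraMap A (Henz21.H A K)) = p.1) :
    ∃ Q : Ideal (BC p K), Q.IsMaximal ∧ ∀ low : Ideal (BC p K), low.IsPrime →
      (∀ P' : Ideal (BC p K), P'.IsPrime → P' ≤ Q → low ≤ P') → low.comap (inl p K) ≤ P := by
  let L := FractionRing (Henz21.H A K ⧸ P)
  have hAL : ∀ a : A, algebraMap A L a = 0 ↔ a ∈ p.1 := fun a => by
    rw [← hPA, Ideal.mem_comap, IsScalarTower.algebraMap_apply A (Henz21.H A K ⧸ P) L,
      IsFractionRing.to_map_eq_zero_iff]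
    exact Ideal.Quotient.eq_zero_iff_mem
  let μ : A ⧸ p.1 →+* L := Ideal.Quotient.lift p.1 (algebraMap A L) fun a ha => (hAL a).2 ha
  have hu : ∀ s : nonZeroDivisors (A ⧸ p.1), IsUnit (μ s) := by
    rintro ⟨s, hs⟩
    obtain ⟨s, rfl⟩ := Ideal.Quotient.mk_surjective s
    exact IsUnit.mk0 _ fun h0 => nonZeroDivisors.ne_zero hs
      (Ideal.Quotient.eq_zero_iff_mem.2 ((hAL s).1 h0))
  let θ : p.1.ResidueField →+* L := IsLocalization.lift hu
  have hθ : ∀ a, θ (algebraMap A p.1.ResidueField a) = algebraMap A L a := fun a => by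
    rw [IsScalarTower.algebraMap_apply A (A ⧸ p.1) p.1.ResidueField, IsLocalization.lift_eq]
    rfl
  let g : Comp A p →ₐ[A] L :=
    { θ.comp (algebraMap (Comp A p) p.1.ResidueField) with commutes' := hθ }
  let f : BC p K →ₐ[A] L :=
    Algebra.TensorProduct.productMap (IsScalarTower.toAlgHom A (Henz21.H A K) L) g
  let P' : Ideal (BC p K) := RingHom.ker f
  have : P'.IsPrime := RingHom.ker_isPrime _
  have hP'H : P'.comap (inl p K) = P := by
    ext h
    show f (h ⊗ₜ 1) = 0 ↔ _
    rw [Algebra.TensorProduct.productMap_apply_tmul, map_one, mul_one]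
    show algebraMap (Henz21.H A K) L h = 0 ↔ _
    rw [IsScalarTower.algebraMap_apply (Henz21.H A K) (Henz21.H A K ⧸ P) L,
      IsFractionRing.to_map_eq_zero_iff, Ideal.Quotient.algebraMap_eq,
      Ideal.Quotient.eq_zero_iff_mem]
  obtain ⟨Q, hQ, hP'Q⟩ := Ideal.exists_le_maximal P' ‹P'.IsPrime›.ne_top
  exact ⟨Q, hQ, fun low _ hleast => hP'H ▸ Ideal.comap_mono (hleast P' inferInstance hP'Q)⟩

theorem ringKrullDim_atPrime {D : Type u} [CommRing D] (m : Ideal D) [m.IsPrime] :
    ringKrullDim (Localization.AtPrime m) = Order.height (⟨m, inferInstance⟩ : PrimeSpectrum D) := by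
  rw [IsLocalization.AtPrime.ringKrullDim_eq_height m,
    ← PrimeSpectrum.height_eq_orderHeight ⟨m, inferInstance⟩]

variable (A K) in
/-- The dimensions of the components of the henselization are the dimensions of the local rings of
the normalizations of the components. -/
theorem forall_component_iff (Φ : WithBot ℕ∞ → Prop) :
    (∀ P ∈ minimalPrimes (Henz21.H A K), Φ (ringKrullDim (Henz21.H A K ⧸ P))) ↔
      ∀ (p : minimalPrimes A) (m : MaximalSpectrum (Comp A p)),
        Φ (ringKrullDim (Localization.AtPrime m.asIdeal)) := by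
  constructor
  · intro h p m
    haveI : Module.FaithfullyFlat A (Henz21.H A K) := Module.FaithfullyFlat.of_flat_of_isLocalHom
    let e := Algebra.TensorProduct.comm A (Comp A p) (Henz21.H A K)
    obtain ⟨z, hz⟩ := PrimeSpectrum.comap_surjective_of_faithfullyFlat (A := Comp A p)
      (B := Comp A p ⊗[A] Henz21.H A K) ⟨m.asIdeal, m.isMaximal.isPrime⟩
    obtain ⟨Q, hQ, hle⟩ := Ideal.exists_le_maximal (z.asIdeal.comap e.symm.toAlgHom.toRingHom)
      (Ideal.IsPrime.ne_top inferInstance)
    have hQm : Q.comap (inr p K) = m.asIdeal := by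
      refine (m.isMaximal.eq_of_le (Ideal.comap_ne_top _ hQ.ne_top) ?_).symm
      refine le_trans (fun x hx => ?_) (Ideal.comap_mono hle)
      show e.symm (inr p K x) ∈ z.asIdeal
      have h1 : x ∈ (PrimeSpectrum.comap (algebraMap (Comp A p) (Comp A p ⊗[A] Henz21.H A K)) z).asIdeal := by
        rw [hz]; exact hx
      exact h1
    obtain ⟨low, -, -, -, hmin, hdim⟩ := exists_component p Q
    have h2 := h _ hmin
    rw [hdim, height_eq p Q] at h2
    rw [ringKrullDim_atPrime]
    simp only [hQm] at h2
    exact h2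
  · intro h P hP
    haveI := hP.1.1
    let p : minimalPrimes A := ⟨_, minimalPrimes_comap_mem ⟨P, hP⟩⟩
    obtain ⟨Q, hQ, hover⟩ := exists_over p P rfl
    obtain ⟨low, hlow, -, hleast, hmin, hdim⟩ := exists_component p Q
    have hP' : low.comap (inl p K) = P :=
      le_antisymm (hover low hlow hleast) (hP.2 ⟨hmin.1.1, bot_le⟩ (hover low hlow hleast))
    have h2 := h p ⟨_, isMaximal_comap_inr p Q⟩
    rw [ringKrullDim_atPrime, ← height_eq p Q, ← hdim, hP'] at h2
    exact h2

end Groth.Agent.Henz21.ComponentDim
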