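import Groth.Agent.Henz21.LocalProps
import Groth.Agent.Henz21.Flat
import Mathlib.RingTheory.DiscreteValuationRing.TFAE
import Mathlib.RingTheory.Filtration
import Mathlib.RingTheory.Flat.TorsionFree
import Mathlib.RingTheory.Flat.FaithfullyFlat.Algebra

/-! Discrete valuation rings and henselization. -/

universe u

open IsLocalRing

namespace Groth.Agent.Henz21

variable {R : Type u} [CommRing R] [IsLocalRing R]

/-- If a Noetherian local ring has a faithfully flat DVR over it in which its maximal ideal
generates the maximal ideal, it is a DVR. -/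
theorem isDiscreteValuationRing_of_faithfullyFlat [IsNoetherianRing R] (S : Type u) [CommRing S]
    [IsDomain S] [IsDiscreteValuationRing S] [Algebra R S] [Module.FaithfullyFlat R S]
    (hm : (maximalIdeal R).map (algebraMap R S) = maximalIdeal S) :
    ∃ _ : IsDomain R, IsDiscreteValuationRing R := by
  have hinj : Function.Injective (algebraMap R S) := FaithfulSMul.algebraMap_injective R S
  have : IsDomain R := hinj.isDomain
  refine ⟨this, ?_⟩
  have hnf : ¬IsField R := by
    intro hf
    rw [isField_iff_maximalIdeal_eq.mp hf, Ideal.map_bot] at hm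
    exact IsDiscreteValuationRing.not_a_field S hm.symm
  obtain ⟨ϖ, hϖ⟩ := IsDiscreteValuationRing.exists_irreducible S
  have hmax : maximalIdeal S = Ideal.span {ϖ} := hϖ.maximalIdeal_eq
  have hex : ∃ a ∈ maximalIdeal R, algebraMap R S a ∉ Ideal.span {ϖ ^ 2} := by
    by_contra h
    push Not at h
    have h1 : maximalIdeal S ≤ Ideal.span {ϖ ^ 2} := hm ▸ Ideal.map_le_iff_le_comap.mpr h
    rw [hmax, Ideal.span_singleton_le_span_singleton] at h1
    obtain ⟨c, hc⟩ := h1
    exact hϖ.not_isUnit (IsUnit.of_mul_eq_one c (mul_left_cancel₀ hϖ.ne_zero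
      (by rw [mul_one, ← mul_assoc, ← sq]; exact hc.symm)))
  obtain ⟨a, ham, ha⟩ := hex
  have hspan : maximalIdeal S = Ideal.span {algebraMap R S a} := by
    have h1 : algebraMap R S a ∈ maximalIdeal S := hm ▸ Ideal.mem_map_of_mem _ ham
    rw [hmax, Ideal.mem_span_singleton] at h1
    obtain ⟨c, hc⟩ := h1
    have hcu : IsUnit c := by
      by_contra hcn
      have : c ∈ maximalIdeal S := hcn
      rw [hmax, Ideal.mem_span_singleton] at this
      obtain ⟨d, rfl⟩ := this
      exact ha (Ideal.mem_span_singleton.mpr ⟨d, by rw [hc]; ring⟩)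
    rw [hmax, hc, Ideal.span_singleton_mul_right_unit hcu]
  have hR : maximalIdeal R = Ideal.span {a} := by
    refine le_antisymm ?_ ((Ideal.span_singleton_le_iff_mem _).mpr ham)
    rw [← Ideal.comap_map_eq_self_of_faithfullyFlat (B := S) (Ideal.span {a}), Ideal.map_span,
      Set.image_singleton, ← hspan]
    exact fun r hr => hm ▸ Ideal.mem_map_of_mem _ hr
  exact ((IsDiscreteValuationRing.TFAE R hnf).out 0 4).mpr (show (maximalIdeal R).IsPrincipal from ⟨⟨a, hR⟩⟩)

variable {K : Type u} [Field K] [Algebra R K] [IsLocalHom (algebraMap R K)]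

theorem isDiscreteValuationRing_H [IsDomain R] [IsDiscreteValuationRing R] :
    ∃ _ : IsDomain (H R K), IsDiscreteValuationRing (H R K) := by
  obtain ⟨ϖ, hϖ⟩ := IsDiscreteValuationRing.exists_irreducible R
  set π := algebraMap R (H R K) ϖ
  have hπm : maximalIdeal (H R K) = Ideal.span {π} := by
    rw [← H.map_maximalIdeal (R := R) (K := K), hϖ.maximalIdeal_eq, Ideal.map_span,
      Set.image_singleton]
  have hfac : ∀ x : H R K, x = 0 ∨ ∃ (n : ℕ) (u : (H R K)ˣ), x = π ^ n * u := by
    intro x
    obtain ⟨i, s, rfl⟩ := H.exists_rep x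
    let q : Ideal i.S := RingHom.ker i.pt
    haveI : q.IsPrime := RingHom.ker_isPrime _
    haveI : IsNoetherianRing i.S := Algebra.FiniteType.isNoetherianRing R i.S
    haveI : IsNoetherianRing (Localization.AtPrime q) :=
      IsLocalization.isNoetherianRing q.primeCompl _ inferInstance
    let A := Localization.AtPrime q
    have hunit : ∀ t : i.S, t ∉ q → IsUnit (H.incl i t) := fun t ht =>
      H.isUnit_of_isUnit_proj (IsUnit.mk0 _ (by rwa [H.proj_incl]))
    have hq : q.comap (algebraMap R i.S) = maximalIdeal R := by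
      ext r
      rw [Ideal.mem_comap, RingHom.mem_ker, AlgHom.commutes, mem_maximalIdeal, mem_nonunits_iff,
        ← isUnit_map_iff (algebraMap R K), isUnit_iff_ne_zero, not_not]
    haveI : q.LiesOver (maximalIdeal R) := ⟨hq.symm⟩
    haveI : Algebra.IsUnramifiedAt R q :=
      Algebra.FormallyUnramified.comp R i.S (Localization.AtPrime q)
    let _ := Localization.AtPrime.algebraOfLiesOver (maximalIdeal R) q
    have hA : maximalIdeal A = Ideal.span {algebraMap R A ϖ} := by
      rw [← ((Algebra.isUnramifiedAt_iff_map_eq R (maximalIdeal R) q).mp inferInstance).2,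
        hϖ.maximalIdeal_eq, Ideal.map_span, Set.image_singleton]
    by_cases h : ∀ n : ℕ, algebraMap i.S A s ∈ maximalIdeal A ^ n
    · left
      have h0 : algebraMap i.S A s ∈ (⨅ n : ℕ, maximalIdeal A ^ n) := Submodule.mem_iInf _ |>.mpr h
      rw [Ideal.iInf_pow_eq_bot_of_isLocalRing _ (maximalIdeal.isMaximal A).ne_top,
        Ideal.mem_bot] at h0
      obtain ⟨m, hm⟩ := (IsLocalization.map_eq_zero_iff q.primeCompl A s).mp h0
      have := congrArg (H.incl i) hm
      rw [map_mul, map_zero] at this
      exact (hunit m m.2).mul_right_eq_zero.mp this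
    · right
      push Not at h
      classical
      have hn0 : Nat.find h ≠ 0 := fun h0 => by
        have := Nat.find_spec h
        rw [h0, pow_zero, Ideal.one_eq_top] at this
        exact this Submodule.mem_top
      obtain ⟨n, hn⟩ := Nat.exists_eq_succ_of_ne_zero hn0
      have hin : algebraMap i.S A s ∈ maximalIdeal A ^ n :=
        not_not.mp (Nat.find_min h (m := n) (by omega))
      have hout : algebraMap i.S A s ∉ maximalIdeal A ^ (n + 1) := by
        have := Nat.find_spec h
        rwa [hn] at this
      rw [hA, Ideal.span_singleton_pow, Ideal.mem_span_singleton] at hin hout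
      obtain ⟨c, hc⟩ := hin
      have hcu : c ∉ maximalIdeal A := fun hcm => hout (by
        rw [hA, Ideal.mem_span_singleton] at hcm
        rw [hc, pow_succ]
        exact mul_dvd_mul_left _ hcm)
      obtain ⟨a, b, rfl⟩ := IsLocalization.exists_mk'_eq q.primeCompl c
      have ha : a ∉ q := fun ha => hcu ((IsLocalization.AtPrime.mk'_mem_maximal_iff A q a b).mpr ha)
      have h2 : algebraMap i.S A (s * (b : i.S)) = algebraMap i.S A (algebraMap R i.S (ϖ ^ n) * a) := by
        rw [map_mul, map_mul, hc, mul_assoc, IsLocalization.mk'_spec,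
          ← IsScalarTower.algebraMap_apply, map_pow]
      obtain ⟨m, hm⟩ := IsLocalization.exists_of_eq (M := q.primeCompl) h2
      have h3 := congrArg (H.incl i) hm
      simp only [map_mul, AlgHom.commutes, map_pow] at h3
      have h4 := (hunit m m.2).mul_left_cancel h3
      refine ⟨n, (hunit a ha).unit * (hunit b b.2).unit⁻¹, ?_⟩
      rw [Units.val_mul, IsUnit.unit_spec, ← mul_assoc, Units.eq_mul_inv_iff_mul_eq]
      exact h4
  have hreg : ∀ (n : ℕ) (x : H R K), π ^ n * x = 0 → x = 0 := by
    intro n x hx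
    have := Module.Flat.isSMulRegular_of_nonZeroDivisors (M := H R K)
      (mem_nonZeroDivisors_of_ne_zero (pow_ne_zero n hϖ.ne_zero))
    exact this (by simp only [smul_zero, Algebra.smul_def, map_pow]; rw [mul_zero]; exact hx)
  have : Nontrivial (H R K) := inferInstance
  haveI : NoZeroDivisors (H R K) := ⟨fun {x y} hxy => by
    rcases hfac x with hx | ⟨n, u, rfl⟩
    · exact Or.inl hx
    · rw [mul_assoc] at hxy
      exact Or.inr (u.mul_right_eq_zero.mp (hreg n _ hxy))⟩
  haveI : IsDomain (H R K) := NoZeroDivisors.to_isDomain _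
  refine ⟨inferInstance, IsDiscreteValuationRing.ofHasUnitMulPowIrreducibleFactorization
    ⟨π, ?_, fun {x} hx => ?_⟩⟩
  · have hπ0 : π ≠ 0 := fun h0 => one_ne_zero (hreg 1 (1 : H R K) (by rw [pow_one, h0, zero_mul]))
    refine ⟨fun hu => ?_, fun a b hab => ?_⟩
    · exact (mem_maximalIdeal π).mp (hπm ▸ Ideal.mem_span_singleton_self π) hu
    · by_contra hc
      push Not at hc
      have ha : a ∈ maximalIdeal (H R K) := hc.1
      have hb : b ∈ maximalIdeal (H R K) := hc.2
      rw [hπm, Ideal.mem_span_singleton] at ha hb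
      obtain ⟨a, rfl⟩ := ha
      obtain ⟨b, rfl⟩ := hb
      exact (mem_maximalIdeal π).mp (hπm ▸ Ideal.mem_span_singleton_self π)
        (IsUnit.of_mul_eq_one (a * b) (mul_left_cancel₀ hπ0 (by linear_combination -hab)))
  · rcases hfac x with hx' | ⟨n, u, rfl⟩
    · exact absurd hx' hx
    · exact ⟨n, u, rfl⟩

end Groth.Agent.Henz21
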