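import Groth.Agent.Hensel20.SerreEquiv
import Groth.Agent.Henz21.Unique
import Mathlib.RingTheory.Ideal.AssociatedPrime.Localization

/-! Depth and associated primes of henselizations. -/

set_option autoImplicit false
set_option linter.style.haveILetI false

universe u

open IsLocalRing

namespace Groth.Agent.Henz21

/-- Being an associated prime is having depth zero at the prime. -/
theorem mem_associatedPrimes_iff_depth {A : Type u} [CommRing A] [IsNoetherianRing A] (P : Ideal A)
    [P.IsPrime] : P ∈ associatedPrimes A A ↔
      LocCoh.depth (Localization.AtPrime P) (Localization.AtPrime P) = 0 := by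
  have h := Module.associatedPrimes.preimage_comap_associatedPrimes_eq_associatedPrimes_of_isLocalizedModule
    P.primeCompl (Localization.AtPrime P) (Algebra.linearMap A (Localization.AtPrime P))
  rw [EGA4Alg4.depth_eq_zero_iff, ← h, Set.mem_preimage, ← Ideal.under_def,
    Localization.AtPrime.under_maximalIdeal]

variable {R K : Type u} [CommRing R] [IsLocalRing R] [Field K] [Algebra R K]
  [IsLocalHom (algebraMap R K)] [IsNoetherianRing R] {S : Type u} [CommRing S] [IsLocalRing S]
  [Algebra R S] (e : H R K ≃ₐ[R] S)

include e in
theorem depth_eq_of_equiv [IsLocalHom (algebraMap R S)] :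
    LocCoh.depth S S = LocCoh.depth R R := by
  haveI := (Hensel20.isNoetherianRing_iff_of_equiv e).mp inferInstance
  haveI : Module.Flat R S := Module.Flat.of_linearEquiv e.symm.toLinearEquiv
  have hm : (maximalIdeal R).map (algebraMap R S) = maximalIdeal S := by
    rw [← e.toAlgHom.comp_algebraMap, ← Ideal.map_map, H.map_maximalIdeal]
    exact map_ringEquiv_maximalIdeal e.toRingEquiv
  rw [CAlg1.depth_of_flat_local R S, hm, Hensel20.depth_quotient_maximalIdeal, add_zero]

theorem mem_associatedPrimes_H_iff (P : Ideal (H R K)) [P.IsPrime] :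
    P ∈ associatedPrimes (H R K) (H R K) ↔ P.under R ∈ associatedPrimes R R := by
  haveI := Hensel20.isNoetherianRing_H (R := R) (K := K)
  rw [mem_associatedPrimes_iff_depth, mem_associatedPrimes_iff_depth,
    (Hensel20.localization_invariants P (P.under R)).1]

include e in
theorem mem_associatedPrimes_iff_of_equiv (P : Ideal S) [P.IsPrime] :
    P ∈ associatedPrimes S S ↔ P.comap (algebraMap R S) ∈ associatedPrimes R R := by
  let Q := P.comap e.toAlgHom.toRingHom
  have hQ : Q.under R = P.comap (algebraMap R S) := by
    rw [Ideal.under_def, Ideal.comap_comap]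
    exact congrArg (fun g => P.comap g) e.toAlgHom.comp_algebraMap
  rw [← hQ, ← mem_associatedPrimes_H_iff]
  haveI := (Hensel20.isNoetherianRing_iff_of_equiv e).mp inferInstance
  haveI := Hensel20.isNoetherianRing_H (R := R) (K := K)
  rw [mem_associatedPrimes_iff_depth, mem_associatedPrimes_iff_depth]
  obtain ⟨-, ⟨f⟩⟩ := Hensel20.localization_equiv e.toRingEquiv P
  rw [← CAlg1.depth_eq_of_ringEquiv f]
  rfl

end Groth.Agent.Henz21
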