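import Groth.Agent.Henz21.Unique
import Groth.Agent.Hensel20.Stages
import Groth.Agent.Hensel20.HenzTensor
import Groth.Agent.Hensel20.StageNoeth
import Groth.Agent.Hensel20.LocalFinite
import Groth.Agent.Hensel20.PairApi
import Mathlib.RingTheory.EssentialFiniteness

/-!
Henselizations of local algebras essentially of finite type, and finite local homomorphisms.
-/

set_option autoImplicit false

universe u

open IsLocalRing TensorProduct

noncomputable section

namespace Groth.Agent.Henz21

/-- `M` is a henselization of a local `A`-algebra essentially of finite type. -/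
def IsHenzEssFt (A M : Type u) [CommRing A] [CommRing M] [IsLocalRing M] [Algebra A M] : Prop :=
  ∃ (L : Type u) (_ : CommRing L) (_ : IsLocalRing L) (_ : Algebra A L)
    (_ : Algebra.EssFiniteType A L) (_ : Algebra L M) (_ : IsScalarTower A L M)
    (_ : IsLocalHom (algebraMap L M)), Hensel.IsHenselization L M

/-- `M` is a henselization of a local ring of an `A`-algebra of finite type. -/
def IsHenzFt (A M : Type u) [CommRing A] [CommRing M] [IsLocalRing M] [Algebra A M] : Prop :=
  ∃ (B : Type u) (_ : CommRing B) (_ : Algebra A B) (_ : Algebra.FiniteType A B) (p : Ideal B)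
    (_ : p.IsPrime) (_ : Algebra (Localization.AtPrime p) M)
    (_ : IsScalarTower A (Localization.AtPrime p) M)
    (_ : IsLocalHom (algebraMap (Localization.AtPrime p) M)),
      Hensel.IsHenselization (Localization.AtPrime p) M

/-- Henselizations are preserved by isomorphisms of the base. -/
theorem isHenselization_of_ringEquiv {L L' M : Type u} [CommRing L] [IsLocalRing L] [CommRing L']
    [IsLocalRing L'] [CommRing M] [IsLocalRing M] [Algebra L M] [IsLocalHom (algebraMap L M)]
    [hM : Hensel.IsHenselization L M] [Algebra L' M] (e : L' ≃+* L)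
    (he : algebraMap L' M = (algebraMap L M).comp e.toRingHom) :
    ∃ _ : IsLocalHom (algebraMap L' M), Hensel.IsHenselization L' M := by
  have hl : IsLocalHom e.toRingHom := ⟨fun x hx => by simpa using hx.map e.symm.toRingHom⟩
  have hl' : IsLocalHom e.symm.toRingHom := ⟨fun x hx => by simpa using hx.map e.toRingHom⟩
  have hloc : IsLocalHom (algebraMap L' M) := he ▸ RingHom.isLocalHom_comp _ _
  refine ⟨hloc, hM.henselian, fun T _ _ f hf => ?_⟩
  obtain ⟨g, hg, hu⟩ := hM.universal T (f.comp e.symm.toRingHom) (RingHom.isLocalHom_comp _ _)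
  refine ⟨g, ?_, fun g' hg' => hu g' ?_⟩
  · dsimp only
    rw [he, ← RingHom.comp_assoc, hg, RingHom.comp_assoc]
    exact RingHom.ext fun x => by simp
  · dsimp only at hg' ⊢
    rw [← hg', he]
    exact RingHom.ext fun x => by simp

/-- Henselizations are preserved by isomorphisms of the henselization. -/
theorem isHenselization_of_algEquiv {L S M : Type u} [CommRing L] [IsLocalRing L] [CommRing S]
    [IsLocalRing S] [Algebra L S] [IsLocalHom (algebraMap L S)]
    [hS : Hensel.IsHenselization L S] [CommRing M] [HenselianLocalRing M] [Algebra L M]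
    (e : S ≃ₐ[L] M) : ∃ _ : IsLocalHom (algebraMap L M), Hensel.IsHenselization L M := by
  have hloc : IsLocalHom (algebraMap L M) := ⟨fun x hx => isUnit_of_map_unit (algebraMap L S) x
    (by simpa using hx.map e.symm.toRingEquiv.toRingHom)⟩
  refine ⟨hloc, inferInstance, fun T _ _ f hf => ?_⟩
  obtain ⟨g, hg, hu⟩ := hS.universal T f hf
  refine ⟨g.comp e.symm.toRingEquiv.toRingHom, RingHom.ext fun x => ?_, fun g' hg' => ?_⟩
  · simpa using RingHom.congr_fun hg x
  · rw [← hu (g'.comp e.toRingEquiv.toRingHom) (RingHom.ext fun x => by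
      simpa using RingHom.congr_fun hg' x)]
    exact RingHom.ext fun x => by simp

theorem isHenzEssFt_of_isHenzFt {A M : Type u} [CommRing A] [CommRing M] [IsLocalRing M]
    [Algebra A M] (h : IsHenzFt A M) : IsHenzEssFt A M := by
  obtain ⟨B, _, _, _, p, _, _, _, _, h⟩ := h
  exact ⟨Localization.AtPrime p, inferInstance, inferInstance, inferInstance,
    Algebra.EssFiniteType.comp A B _, inferInstance, inferInstance, inferInstance, h⟩

theorem isHenzFt_of_isHenzEssFt {A M : Type u} [CommRing A] [CommRing M] [IsLocalRing M]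
    [Algebra A M] (h : IsHenzEssFt A M) : IsHenzFt A M := by
  obtain ⟨L, _, _, _, _, _, _, _, h⟩ := h
  let C := Algebra.EssFiniteType.subalgebra A L
  let q : Ideal C := (maximalIdeal L).comap (algebraMap C L)
  have hq : Algebra.EssFiniteType.submonoid A L = q.primeCompl := by
    ext c
    simp only [Algebra.EssFiniteType.submonoid, Submonoid.mem_comap, IsUnit.mem_submonoid_iff,
      Ideal.mem_primeCompl_iff, q, Ideal.mem_comap, mem_maximalIdeal, mem_nonunits_iff, not_not]
    rfl
  have : IsLocalization q.primeCompl L :=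
    hq ▸ (inferInstance : IsLocalization (Algebra.EssFiniteType.submonoid A L) L)
  let e : Localization.AtPrime q ≃ₐ[C] L := IsLocalization.algEquiv q.primeCompl _ _
  let _ : Algebra (Localization.AtPrime q) M := ((algebraMap L M).comp e.toRingEquiv.toRingHom).toAlgebra
  have : IsScalarTower A (Localization.AtPrime q) M := IsScalarTower.of_algebraMap_eq fun a => by
    show _ = algebraMap L M (e (algebraMap A _ a))
    rw [IsScalarTower.algebraMap_apply A C (Localization.AtPrime q), AlgEquiv.commutes,
      ← IsScalarTower.algebraMap_apply A C L, ← IsScalarTower.algebraMap_apply A L M]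
  obtain ⟨hl, hh⟩ := isHenselization_of_ringEquiv (L := L) (L' := Localization.AtPrime q) (M := M)
    e.toRingEquiv rfl
  exact ⟨C, inferInstance, inferInstance, inferInstance, q, inferInstance, inferInstance,
    inferInstance, hl, hh⟩

set_option maxHeartbeats 800000 in
/-- A finite presentation of a finite algebra whose data are defined over a subring descends. -/
theorem exists_finite_descent {E H M : Type u} [CommRing E] [CommRing H] [CommRing M] [Algebra E H]
    [Algebra H M] [Algebra E M] [IsScalarTower E H M] (n : ℕ) (x : Fin n → M)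
    (hπ : Function.Surjective (MvPolynomial.aeval (R := H) x))
    (G : Finset (MvPolynomial (Fin n) H))
    (hG : Ideal.span (G : Set (MvPolynomial (Fin n) H)) =
      RingHom.ker (MvPolynomial.aeval (R := H) x).toRingHom)
    (G' : ∀ g ∈ G, MvPolynomial (Fin n) E)
    (hG' : ∀ g hg, MvPolynomial.map (algebraMap E H) (G' g hg) = g)
    (P' : Fin n → Polynomial E) (hP'm : ∀ j, (P' j).Monic)
    (hP'0 : ∀ j, Polynomial.aeval (x j) (P' j) = 0) :
    ∃ (C₀ : Type u) (_ : CommRing C₀) (_ : Algebra E C₀) (_ : Module.Finite E C₀),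
      Nonempty (C₀ ⊗[E] H ≃ₐ[E] M) := by
  classical
  let π : MvPolynomial (Fin n) H →ₐ[H] M := MvPolynomial.aeval x
  let J : Ideal (MvPolynomial (Fin n) E) := Ideal.span
    (Set.range (fun g : G => G' g.1 g.2) ∪
      Set.range fun j => Polynomial.aeval (MvPolynomial.X j) (P' j))
  let C₀ := MvPolynomial (Fin n) E ⧸ J
  let _ : CommRing C₀ := Ideal.Quotient.commRing J
  let _ : Algebra E C₀ := Ideal.instAlgebraQuotient E J
  let mk : MvPolynomial (Fin n) E →ₐ[E] C₀ := Ideal.Quotient.mkₐ E J
  have : Algebra.IsIntegral E C₀ := by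
    constructor
    intro z
    obtain ⟨z, rfl⟩ := Ideal.Quotient.mkₐ_surjective E J z
    induction z using MvPolynomial.induction_on with
    | C a => exact (isIntegral_algebraMap (x := a) : IsIntegral E (algebraMap E C₀ a))
    | add a b ha hb => rw [map_add]; exact RingHom.IsIntegralElem.add (algebraMap E C₀) ha hb
    | mul_X a j ha =>
      rw [map_mul]
      refine RingHom.IsIntegralElem.mul (algebraMap E C₀) ha ⟨P' j, hP'm j, ?_⟩
      rw [← Polynomial.aeval_def, Polynomial.aeval_algHom_apply]
      exact Ideal.Quotient.eq_zero_iff_mem.mpr (Ideal.subset_span (Or.inr ⟨j, rfl⟩))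
  have : Module.Finite E C₀ := Algebra.IsIntegral.finite (R := E) (A := C₀)
  have hevJ : J ≤ RingHom.ker (MvPolynomial.aeval (R := E) x).toRingHom := by
    refine Ideal.span_le.mpr ?_
    rintro _ (⟨⟨g, hg⟩, rfl⟩ | ⟨j, rfl⟩)
    · show MvPolynomial.aeval x (G' g hg) = 0
      rw [← MvPolynomial.aeval_map_algebraMap H, hG']
      exact (hG ▸ Ideal.subset_span hg : g ∈ RingHom.ker π.toRingHom)
    · show MvPolynomial.aeval x (Polynomial.aeval (MvPolynomial.X j) (P' j)) = 0
      rw [← Polynomial.aeval_algHom_apply, MvPolynomial.aeval_X]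
      exact hP'0 j
  let θ : C₀ →ₐ[E] M := Ideal.Quotient.liftₐ J (MvPolynomial.aeval x) fun z hz => hevJ hz
  let Θ : C₀ ⊗[E] H →ₐ[E] M :=
    Algebra.TensorProduct.lift θ (IsScalarTower.toAlgHom E H M) fun _ _ => .all _ _
  let Ξ : MvPolynomial (Fin n) H →+* C₀ ⊗[E] H := MvPolynomial.eval₂Hom
    (Algebra.TensorProduct.includeRight : H →ₐ[E] C₀ ⊗[E] H).toRingHom
    fun j => mk (MvPolynomial.X j) ⊗ₜ[E] (1 : H)
  have hΘΞ : Θ.toRingHom.comp Ξ = π.toRingHom := by
    refine MvPolynomial.ringHom_ext (fun r => ?_) fun j => ?_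
    · simp [Θ, Ξ, π]
    · simp [Θ, Ξ, π, θ, mk]
      exact MvPolynomial.aeval_X x j
  have hΞmap : ∀ z, Ξ (MvPolynomial.map (algebraMap E H) z) = mk z ⊗ₜ 1 := fun z => by
    suffices h : Ξ.comp (MvPolynomial.map (algebraMap E H)) =
        (Algebra.TensorProduct.includeLeftRingHom (R := E) (A := C₀) (B := H)).comp mk.toRingHom from
      RingHom.congr_fun h z
    apply MvPolynomial.ringHom_ext
    pick_goal 2
    rotate_left
    on_goal 1 => intro r
    on_goal 2 => intro j
    · show Ξ (MvPolynomial.map _ (MvPolynomial.C r)) = mk (MvPolynomial.C r) ⊗ₜ[E] (1 : H)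
      rw [MvPolynomial.map_C, MvPolynomial.eval₂Hom_C, ← MvPolynomial.algebraMap_eq, mk.commutes]
      exact ((Algebra.TensorProduct.includeRight : H →ₐ[E] C₀ ⊗[E] H).commutes r).trans
        (Algebra.TensorProduct.algebraMap_apply r)
    · simp [Ξ, mk]
  have hker : RingHom.ker π.toRingHom ≤ RingHom.ker Ξ := by
    rw [← hG]
    refine Ideal.span_le.mpr fun g hg => ?_
    show Ξ g = 0
    rw [← hG' g hg, hΞmap, show mk (G' g hg) = 0 from
      Ideal.Quotient.eq_zero_iff_mem.mpr (Ideal.subset_span (Or.inl ⟨⟨g, hg⟩, rfl⟩)), zero_tmul]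
  have hΞ : Function.Surjective Ξ := by
    intro z
    induction z with
    | zero => exact ⟨0, map_zero _⟩
    | tmul c a =>
      obtain ⟨c, rfl⟩ := Ideal.Quotient.mkₐ_surjective E J c
      refine ⟨MvPolynomial.map (algebraMap E H) c * MvPolynomial.C a, ?_⟩
      rw [map_mul, hΞmap]
      simp [Ξ, mk]
      rfl
    | add z w hz hw =>
      obtain ⟨p, rfl⟩ := hz
      obtain ⟨q, rfl⟩ := hw
      exact ⟨p + q, map_add _ _ _⟩
  have hΘ : Function.Bijective Θ := by
    refine ⟨(injective_iff_map_eq_zero Θ).mpr fun z hz => ?_, fun m => ?_⟩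
    · obtain ⟨y, rfl⟩ := hΞ z
      exact hker ((RingHom.congr_fun hΘΞ y).symm.trans hz)
    · obtain ⟨y, rfl⟩ := hπ m
      exact ⟨Ξ y, RingHom.congr_fun hΘΞ y⟩
  exact ⟨C₀, inferInstance, inferInstance, inferInstance, ⟨AlgEquiv.ofBijective Θ hΘ⟩⟩

set_option maxHeartbeats 1000000 in
/-- A finite local algebra over a henselization of a local algebra essentially of finite type is
of the same kind. -/
theorem isHenzEssFt_of_finite {A H M : Type u} [CommRing A] [CommRing H] [HenselianLocalRing H]
    [IsNoetherianRing H] [Algebra A H] [CommRing M] [HenselianLocalRing M] [Algebra A M]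
    [Algebra H M] [IsScalarTower A H M] [Module.Finite H M] (h : IsHenzEssFt A H) :
    IsHenzEssFt A M := by
  classical
  obtain ⟨L, _, _, _, _, _, _, _, hLH⟩ := h
  let e := henselizationEquiv (R := L) H
  obtain ⟨n, x, hx⟩ := Module.Finite.exists_fin (R := H) (M := M)
  let π : MvPolynomial (Fin n) H →ₐ[H] M := MvPolynomial.aeval x
  have hπ : Function.Surjective π := by
    intro m
    obtain ⟨c, hc⟩ := (Submodule.mem_span_range_iff_exists_fun H).mp
      (hx ▸ Submodule.mem_top : m ∈ Submodule.span H (Set.range x))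
    exact ⟨∑ j, MvPolynomial.C (c j) * MvPolynomial.X j, by simp [π, ← hc, Algebra.smul_def]⟩
  choose P hPm hP0 using fun j => Algebra.IsIntegral.isIntegral (R := H) (x j)
  obtain ⟨G, hG⟩ : (RingHom.ker π.toRingHom).FG := IsNoetherian.noetherian _
  let s : Finset H := (G.biUnion fun g => g.support.image g.coeff) ∪
    (Finset.univ.biUnion fun j => (P j).coeffs)
  obtain ⟨i, hi⟩ := Hensel20.exists_stage s fun a => e.symm a
  let E := Hensel20.Stage i
  let ψ : E →ₐ[L] H := e.toAlgHom.comp (Hensel20.stageHom i)
  have hmem : ∀ a ∈ s, a ∈ Set.range ψ.toRingHom := fun a ha => by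
    obtain ⟨y, hy⟩ := hi a ha
    exact ⟨y, (congrArg e hy).trans (e.apply_symm_apply a)⟩
  let _ : Algebra A E := ((algebraMap L E).comp (algebraMap A L)).toAlgebra
  have : IsScalarTower A L E := IsScalarTower.of_algebraMap_eq fun _ => rfl
  let _ : Algebra E H := ψ.toRingHom.toAlgebra
  have : IsScalarTower L E H := IsScalarTower.of_algebraMap_eq fun r => (ψ.commutes r).symm
  have hψl : IsLocalHom (algebraMap E H) := ⟨fun y hy => isUnit_of_map_unit
    (algebraMap E (Henselization L)) y ((e.symm_apply_apply (Hensel20.stageHom i y)) ▸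
      (IsUnit.map e.symm (hy : IsUnit (e (Hensel20.stageHom i y)))) :
      IsUnit (Hensel20.stageHom i y))⟩
  -- the henselization of a stage
  have hEH : Hensel.IsHenselization E H := by
    refine ⟨inferInstance, fun T _ _ f hf => ?_⟩
    have hfl : IsLocalHom (f.comp (algebraMap L E)) := RingHom.isLocalHom_comp _ _
    obtain ⟨g, hg, hu⟩ := Hensel.IsHenselization.universal (R := L) (S := H) T _ hfl
    refine ⟨g, ?_, fun g' hg' => hu g' ?_⟩
    · let _ : Algebra L T := (f.comp (algebraMap L E)).toAlgebra
      let f' : E →ₐ[L] T := { f with commutes' := fun _ => rfl }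
      let g₁ : H →ₐ[L] T := { g with commutes' := RingHom.congr_fun hg }
      have hmT : ∀ y ∈ maximalIdeal H, g y ∈ maximalIdeal T := fun y hy => by
        rw [← henselization_map_maximalIdeal (R := L) (S := H)] at hy
        have h2 := Ideal.mem_map_of_mem g hy
        rw [Ideal.map_map, hg, ← Ideal.map_map, Hensel20.stage_map_maximalIdeal i] at h2
        have h7 : (maximalIdeal E).map f ≤ maximalIdeal T :=
          ((local_hom_TFAE f).out 0 2).mp hf
        exact h7 h2
      have hfg : g₁.comp ψ = f' := by
        refine Hensel20.algHom_eq_of_unramified _ _ (J := maximalIdeal T)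
          (jacobson_eq_maximalIdeal ⊥ bot_ne_top).ge fun y => ?_
        obtain ⟨l, hl⟩ := Hensel20.henselization_exists_sub_mem (R := L) H 1 (ψ y)
        rw [pow_one, henselization_map_maximalIdeal] at hl
        have h3 : f (y - algebraMap L E l) ∈ maximalIdeal T := map_nonunit f _ fun hu' => hl (by
          have h4 : IsUnit (ψ (y - algebraMap L E l)) := hu'.map ψ
          rwa [map_sub, ψ.commutes] at h4)
        have h5 := sub_mem (hmT _ hl) h3
        have h6 : g (algebraMap L H l) = f (algebraMap L E l) := RingHom.congr_fun hg l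
        show g (ψ y) - f y ∈ maximalIdeal T
        rw [map_sub, map_sub, h6] at h5
        simpa using h5
      exact congrArg AlgHom.toRingHom hfg
    · dsimp only at hg' ⊢
      rw [IsScalarTower.algebraMap_eq L E H, ← RingHom.comp_assoc, hg']
  let _ : Algebra E M := ((algebraMap H M).comp (algebraMap E H)).toAlgebra
  have : IsScalarTower E H M := IsScalarTower.of_algebraMap_eq fun _ => rfl
  -- descent of the presentation
  have hlift : ∀ g ∈ G, ∃ g', MvPolynomial.map (algebraMap E H) g' = g := fun g hg =>
    (RingHom.mem_range.mp (MvPolynomial.mem_range_map_iff_coeffs_subset.mpr fun c hc => by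
      obtain ⟨m, hm, rfl⟩ := MvPolynomial.mem_coeffs_iff.mp hc
      exact hmem _ (Finset.mem_union_left _ (Finset.mem_biUnion.mpr
        ⟨g, hg, Finset.mem_image.mpr ⟨m, hm, rfl⟩⟩))))
  choose G' hG' using hlift
  have hliftP : ∀ j, ∃ p : Polynomial E, p.map (algebraMap E H) = P j ∧ p.Monic := fun j => by
    obtain ⟨p, hp, -, hpm⟩ := Polynomial.lifts_and_degree_eq_and_monic
      ((Polynomial.lifts_iff_coeff_lifts (f := algebraMap E H) (P j)).mpr fun k => by
        by_cases hk : (P j).coeff k = 0
        · exact ⟨0, by rw [map_zero, hk]⟩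
        · exact hmem _ (Finset.mem_union_right _ (Finset.mem_biUnion.mpr
            ⟨j, Finset.mem_univ j, Polynomial.coeff_mem_coeffs hk⟩))) (hPm j)
    exact ⟨p, hp, hpm⟩
  choose P' hP' hP'm using hliftP
  obtain ⟨C₀, _, _, _, ⟨Φ⟩⟩ := exists_finite_descent n x hπ G hG G' hG' P' hP'm fun j => by
    rw [← Polynomial.aeval_map_algebraMap H, hP']
    exact hP0 j
  let _ : Algebra A C₀ := ((algebraMap E C₀).comp (algebraMap A E)).toAlgebra
  have : IsScalarTower A E C₀ := IsScalarTower.of_algebraMap_eq fun _ => rfl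
  let θ : C₀ →ₐ[E] M := Φ.toAlgHom.comp Algebra.TensorProduct.includeLeft
  -- the stage of `M`
  have : Module.FaithfullyFlat E H := henselization_faithfullyFlat H
  have : IsLocalRing (C₀ ⊗[E] H) := Φ.toRingEquiv.symm.isLocalRing
  have : IsLocalRing C₀ := Module.FaithfullyFlat.isLocalRing (A := C₀) (B := C₀ ⊗[E] H)
  have : IsLocalHom (algebraMap E C₀) := ((local_hom_TFAE _).out 0 4).mpr
    (eq_maximalIdeal (Ideal.isMaximal_comap_of_isIntegral_of_isMaximal (maximalIdeal C₀)))
  obtain ⟨_, _, hCH⟩ := Hensel20.isHenselization_tensor E C₀ H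
  let _ : Algebra C₀ M := θ.toRingHom.toAlgebra
  have hcomm : ∀ c : C₀, Φ (c ⊗ₜ 1) = θ c := fun c => rfl
  let Φ' : C₀ ⊗[E] H ≃ₐ[C₀] M := { Φ with commutes' := hcomm }
  obtain ⟨hl, hh⟩ := isHenselization_of_algEquiv Φ'
  have : IsScalarTower A C₀ M := IsScalarTower.of_algebraMap_eq fun a => by
    show _ = θ (algebraMap A C₀ a)
    rw [IsScalarTower.algebraMap_apply A E C₀, θ.commutes]
    show _ = algebraMap H M (algebraMap E H (algebraMap L E (algebraMap A L a)))
    rw [← IsScalarTower.algebraMap_apply L E H, ← IsScalarTower.algebraMap_apply A L H,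
      ← IsScalarTower.algebraMap_apply A H M]
  have : Algebra.EssFiniteType A E := Algebra.EssFiniteType.comp A L E
  exact ⟨C₀, inferInstance, inferInstance, inferInstance, Algebra.EssFiniteType.comp A E C₀,
    inferInstance, inferInstance, hl, hh⟩

/-- A finite algebra over a henselian local ring without nontrivial idempotents is local. -/
theorem isLocalRing_of_finite_of_injective {R S T : Type u} [CommRing R] [HenselianLocalRing R]
    [CommRing S] [Algebra R S] [Module.Finite R S] [CommRing T] [IsLocalRing T] (f : S →+* T)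
    (hf : Function.Injective f) : IsLocalRing S := by
  classical
  obtain ⟨ι, _, e, hloc, ⟨E⟩⟩ := Hensel20.exists_algEquiv_pi_local (R := R) S
  have := f.domain_nontrivial
  have hne : Nonempty ι := by
    by_contra h
    rw [not_nonempty_iff] at h
    exact not_subsingleton S (E.toEquiv.subsingleton)
  have hsub : Subsingleton ι := by
    refine ⟨fun a b => ?_⟩
    by_contra hab
    have := hloc a
    have := hloc b
    let s : S := E.symm (Pi.single a 1)
    have hidem : IsIdempotentElem (f s) := by
      show f s * f s = f s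
      rw [← map_mul, ← map_mul, ← Pi.single_mul, one_mul]
    have h01 : f s = 0 ∨ f s = 1 := by
      rcases IsLocalRing.isUnit_or_isUnit_one_sub_self (f s) with hu | hu
      · exact Or.inr (hu.mul_left_cancel (hidem.eq.trans (mul_one _).symm))
      · refine Or.inl (hu.mul_left_cancel ?_)
        rw [sub_mul, one_mul, hidem.eq, sub_self, mul_zero]
    rcases h01 with h0 | h1
    · have h2 : E s = 0 := by rw [(map_eq_zero_iff f hf).mp h0, map_zero]
      rw [E.apply_symm_apply] at h2
      exact one_ne_zero (α := S ⧸ Ideal.span {1 - e a}) (by simpa using congrFun h2 a)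
    · have h2 : E s = 1 := by rw [(map_eq_one_iff f hf).mp h1, map_one]
      rw [E.apply_symm_apply] at h2
      have h3 := congrFun h2 b
      rw [Pi.single_eq_of_ne (Ne.symm hab)] at h3
      exact zero_ne_one h3
  obtain ⟨a⟩ := hne
  let _ := uniqueOfSubsingleton a
  have := hloc (default : ι)
  exact ((E.toRingEquiv.trans
    (RingEquiv.piUnique fun i => S ⧸ Ideal.span {1 - e i})).symm).isLocalRing

set_option maxHeartbeats 1000000 in
/-- The converse for injective finite local homomorphisms. -/
theorem isHenzEssFt_of_finite_injective {A H M : Type u} [CommRing A] [IsNoetherianRing A]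
    [CommRing H] [HenselianLocalRing H] [Algebra A H] [CommRing M] [HenselianLocalRing M]
    [Algebra A M] [Algebra H M] [IsScalarTower A H M] [Module.Finite H M]
    [IsLocalHom (algebraMap H M)] (hinj : Function.Injective (algebraMap H M))
    (h : IsHenzEssFt A M) : IsHenzEssFt A H := by
  classical
  obtain ⟨L, _, _, _, _, _, _, _, hLM⟩ := h
  let σ := Algebra.EssFiniteType.finset A L
  choose P hPm hP0 using fun c : σ => Algebra.IsIntegral.isIntegral (R := H) (algebraMap L M c)
  let B : Subalgebra A H :=
    Algebra.adjoin A ((Finset.univ.biUnion fun c => (P c).coeffs : Finset H) : Set H)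
  have : Algebra.FiniteType A B :=
    (B.fg_iff_finiteType).mp (Subalgebra.fg_adjoin_finset _)
  have : IsNoetherianRing B := Algebra.FiniteType.isNoetherianRing A B
  let q : Ideal B := (maximalIdeal H).comap B.val.toRingHom
  have : q.IsPrime := Ideal.comap_isPrime _ _
  let L₀ := Localization.AtPrime q
  let f₀ : L₀ →+* H := IsLocalization.lift (M := q.primeCompl) (g := B.val.toRingHom)
    fun y => notMem_maximalIdeal.mp y.2
  have hf₀ : ∀ b : B, f₀ (algebraMap B L₀ b) = b := fun b => IsLocalization.lift_eq _ b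
  have hf₀l : IsLocalHom f₀ := ⟨fun z hz => by
    obtain ⟨b, s, rfl⟩ := IsLocalization.exists_mk'_eq q.primeCompl z
    rw [IsLocalization.AtPrime.isUnit_mk'_iff]
    intro hb
    have h2 := (IsLocalization.lift_mk'_spec (g := B.val.toRingHom)
      (fun y : q.primeCompl => notMem_maximalIdeal.mp y.2) b
      (f₀ (IsLocalization.mk' L₀ b s)) s).mp rfl
    exact hb (by
      show IsUnit (B.val.toRingHom b)
      rw [h2]
      exact (notMem_maximalIdeal.mp s.2).mul hz)⟩
  have : Algebra.EssFiniteType A L₀ := Algebra.EssFiniteType.comp A B _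
  have : IsNoetherianRing L₀ := IsLocalization.isNoetherianRing q.primeCompl _ inferInstance
  let H₀ := Henselization L₀
  have : IsNoetherianRing H₀ := Hensel20.isNoetherianRing_H (R := L₀) (K := ResidueField L₀)
  let _ : Algebra A H₀ := ((algebraMap L₀ H₀).comp (algebraMap A L₀)).toAlgebra
  have : IsScalarTower A L₀ H₀ := IsScalarTower.of_algebraMap_eq fun _ => rfl
  obtain ⟨g₀, hg₀, -⟩ := Hensel.IsHenselization.universal (R := L₀) (S := H₀) H f₀ hf₀l
  let _ : Algebra H₀ H := g₀.toAlgebra
  let _ : Algebra H₀ M := ((algebraMap H M).comp g₀).toAlgebra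
  have : IsScalarTower H₀ H M := IsScalarTower.of_algebraMap_eq fun _ => rfl
  have : IsScalarTower A H₀ H := IsScalarTower.of_algebraMap_eq fun a => by
    show _ = g₀ (algebraMap L₀ H₀ (algebraMap A L₀ a))
    rw [← RingHom.comp_apply g₀, hg₀, IsScalarTower.algebraMap_apply A B L₀, hf₀]
    rfl
  have : IsScalarTower A H₀ M := IsScalarTower.of_algebraMap_eq fun a => by
    show _ = algebraMap H M (algebraMap H₀ H (algebraMap A H₀ a))
    rw [← IsScalarTower.algebraMap_apply A H₀ H, ← IsScalarTower.algebraMap_apply A H M]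
  have hlocal : IsLocalHom (algebraMap H₀ M) := by
    refine ((local_hom_TFAE _).out 0 2).mpr ?_
    rw [← henselization_map_maximalIdeal (R := L₀) (S := H₀), Ideal.map_map, RingHom.algebraMap_toAlgebra,
      RingHom.comp_assoc, hg₀, ← Ideal.map_map]
    exact (Ideal.map_mono (((local_hom_TFAE f₀).out 0 2).mp hf₀l)).trans
      (((local_hom_TFAE (algebraMap H M)).out 0 2).mp ‹_›)
  have hint : ∀ c : σ, IsIntegral H₀ (algebraMap L M c) := fun c => by
    obtain ⟨p, hp, -, hpm⟩ := Polynomial.lifts_and_degree_eq_and_monic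
      ((Polynomial.lifts_iff_coeff_lifts (f := g₀) (P c)).mpr fun k => by
        by_cases hk : (P c).coeff k = 0
        · exact ⟨0, by rw [map_zero, hk]⟩
        · refine ⟨algebraMap L₀ H₀ (algebraMap B L₀ ⟨(P c).coeff k, Algebra.subset_adjoin
            (Finset.mem_biUnion.mpr ⟨c, Finset.mem_univ c, Polynomial.coeff_mem_coeffs hk⟩)⟩), ?_⟩
          rw [← RingHom.comp_apply g₀, hg₀, hf₀]) (hPm c)
    refine ⟨p, hpm, ?_⟩
    have h2 := hP0 c
    rw [← hp, Polynomial.eval₂_map] at h2
    exact h2
  let S : Set M := Set.range fun c : σ => algebraMap L M c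
  let N : Subalgebra H₀ M := Algebra.adjoin H₀ S
  have hNfin : Module.Finite H₀ N := Module.Finite.iff_fg.mpr
    (fg_adjoin_of_finite (Set.finite_range _) (by rintro _ ⟨c, rfl⟩; exact hint c))
  have : IsLocalRing N :=
    isLocalRing_of_finite_of_injective (R := H₀) N.val.toRingHom Subtype.val_injective
  have : HenselianLocalRing N := henselianLocalRing_of_isIntegral (A := H₀)
  have hNl : IsLocalHom N.val.toRingHom := by
    refine ((local_hom_TFAE _).out 0 4).mpr (eq_maximalIdeal ?_)
    refine Ideal.isMaximal_of_isIntegral_of_isMaximal_comap (R := H₀) _ ?_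
    have hc : (maximalIdeal M).comap (algebraMap H₀ M) = maximalIdeal H₀ :=
      ((local_hom_TFAE (algebraMap H₀ M)).out 0 4).mp hlocal
    rw [Ideal.comap_comap, show N.val.toRingHom.comp (algebraMap H₀ N) = algebraMap H₀ M from rfl, hc]
    exact maximalIdeal.isMaximal _
  -- `L` maps to `N`
  let C := Algebra.EssFiniteType.subalgebra A L
  have hCN : ∀ c : C, algebraMap L M c ∈ N := by
    rintro ⟨c, hc⟩
    have : C ≤ (N.restrictScalars A).comap (IsScalarTower.toAlgHom A L M) :=
      Algebra.adjoin_le fun y hy => Algebra.subset_adjoin ⟨⟨y, hy⟩, rfl⟩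
    exact this hc
  let w : C →+* N := ((algebraMap L M).comp C.val.toRingHom).codRestrict N hCN
  have hw : ∀ y : Algebra.EssFiniteType.submonoid A L, IsUnit (w y) := fun y =>
    isUnit_of_map_unit N.val.toRingHom _
      ((IsLocalization.map_units L y).map (algebraMap L M))
  let v : L →+* N := IsLocalization.lift hw
  have hv : N.val.toRingHom.comp v = algebraMap L M := by
    refine IsLocalization.ringHom_ext (Algebra.EssFiniteType.submonoid A L) (RingHom.ext fun c => ?_)
    exact congrArg Subtype.val (IsLocalization.lift_eq hw c)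
  have hvl : IsLocalHom v := ⟨fun z hz => isUnit_of_map_unit (algebraMap L M) z
    (hv ▸ hz.map N.val.toRingHom)⟩
  obtain ⟨g, hg, -⟩ := hLM.universal N v hvl
  obtain ⟨u₁, -, hu₁⟩ := hLM.universal M (algebraMap L M) inferInstance
  have hgid : N.val.toRingHom.comp g = RingHom.id M :=
    (hu₁ _ (by dsimp only; rw [RingHom.comp_assoc, hg, hv])).trans (hu₁ _ (RingHom.id_comp _)).symm
  have : Module.Finite H₀ M := Module.Finite.of_surjective N.val.toLinearMap fun m =>
    ⟨g m, RingHom.congr_fun hgid m⟩
  have : Module.Finite H₀ H :=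
    Module.Finite.of_injective (IsScalarTower.toAlgHom H₀ H M).toLinearMap hinj
  exact isHenzEssFt_of_finite (H := H₀)
    ⟨L₀, inferInstance, inferInstance, inferInstance, inferInstance, inferInstance, inferInstance,
      inferInstance, inferInstance⟩

end Groth.Agent.Henz21
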