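import Mathlib
import Groth.Agent.Henz21.ShBranch
import Groth.Agent.SubSh14.Basic
import Groth.Agent.SubSh14.Unram

/-!
Unramifiedness of the intersection of a subfield with a branch of the strict henselization.
-/

universe u

open IsLocalRing Polynomial

namespace Groth.Agent.Henz21

/-- A domain integral over a henselian local ring is local. -/
theorem isLocalRing_of_integral_henselian' {R : Type u} [CommRing R] [HenselianLocalRing R] (B : Type u) [CommRing B]
    [IsDomain B] [Algebra R B] [Algebra.IsIntegral R B] : IsLocalRing B := by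
  haveI : HenselianRing R (maximalIdeal R) := inferInstance
  obtain ⟨M, hM⟩ := Ideal.exists_maximal B
  refine IsLocalRing.of_unique_max_ideal ⟨M, hM, fun M' hM' => ?_⟩
  by_contra hne
  obtain ⟨x, hxM, hxM'⟩ := SetLike.not_le_iff_exists.mp fun hle => hne (hM'.eq_of_le hM.ne_top hle)
  let D := Algebra.adjoin R ({x} : Set B)
  haveI : Module.Finite R D :=
    ⟨(Submodule.fg_top _).mpr (Algebra.IsIntegral.isIntegral (R := R) x).fg_adjoin_singleton⟩
  haveI : IsLocalRing D := E4O.isLocalRing_of_finite_henselian (A := R)
  haveI : Algebra.IsIntegral D B := Algebra.IsIntegral.tower_top R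
  have h1 : (M.comap (algebraMap D B)).IsMaximal := Ideal.isMaximal_comap_of_isIntegral_of_isMaximal M
  have h2 : (M'.comap (algebraMap D B)).IsMaximal := Ideal.isMaximal_comap_of_isIntegral_of_isMaximal M'
  have h3 := (eq_maximalIdeal h1).trans (eq_maximalIdeal h2).symm
  exact hxM' (show (⟨x, Algebra.self_mem_adjoin_singleton R x⟩ : D) ∈ M.comap (algebraMap D B) from
    h3.symm ▸ hxM)

/-- Splitting off a root over a strictly henselian ring. -/
theorem exists_factor_of_separable {S : Type u} [CommRing S] [HenselianLocalRing S]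
    [IsSepClosed (ResidueField S)] {f : S[X]} (hf : f.Monic)
    (hsep : (f.map (residue S)).Separable) (h0 : f.natDegree ≠ 0) :
    ∃ (a : S) (g : S[X]), g.Monic ∧ (g.map (residue S)).Separable ∧ f = (X - C a) * g ∧
      g.natDegree < f.natDegree := by
  obtain ⟨r, hr⟩ := IsSepClosed.exists_root (f.map (residue S))
    (by rw [hf.degree_map, degree_eq_natDegree hf.ne_zero]; exact_mod_cast h0) hsep
  obtain ⟨r₀, rfl⟩ := residue_surjective r
  rw [IsRoot.def, eval_map, eval₂_hom, residue_eq_zero_iff] at hr
  have hder : IsUnit (f.derivative.eval r₀) := by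
    rw [← residue_ne_zero_iff_isUnit]
    intro h
    have h1 : (f.map (residue S)).derivative.eval (residue S r₀) = 0 := by
      rw [derivative_map, eval_map, eval₂_hom, h]
    have h2 : (f.map (residue S)).eval (residue S r₀) = 0 := by
      rw [eval_map, eval₂_hom, (residue_eq_zero_iff _).2 hr]
    exact hsep.eval₂_derivative_ne_zero (RingHom.id _) h2 h1
  obtain ⟨a, ha, -⟩ := HenselianLocalRing.is_henselian f hf r₀ hr hder
  obtain ⟨g, hg⟩ := (dvd_iff_isRoot (a := a)).2 ha
  have hgm : g.Monic := (monic_X_sub_C a).of_mul_monic_left (hg ▸ hf)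
  refine ⟨a, g, hgm, ?_, hg, ?_⟩
  · rw [hg, Polynomial.map_mul] at hsep
    exact hsep.of_mul_right
  · rw [hg, (monic_X_sub_C a).natDegree_mul hgm, natDegree_X_sub_C]
    omega

/-- A monic polynomial with separable reduction splits over a strictly henselian ring. -/
theorem splits_of_separable {S : Type u} [CommRing S] [HenselianLocalRing S]
    [IsSepClosed (ResidueField S)] {f : S[X]} (hf : f.Monic)
    (hsep : (f.map (residue S)).Separable) : f.Splits := by
  induction hn : f.natDegree using Nat.strong_induction_on generalizing f with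
  | _ n ih =>
    by_cases h0 : f.natDegree = 0
    · rw [hf.natDegree_eq_zero.mp h0]; exact Splits.one
    obtain ⟨a, g, hgm, hgs, rfl, hlt⟩ := exists_factor_of_separable hf hsep h0
    exact (Splits.X_sub_C a).mul (ih g.natDegree (hn ▸ hlt) hgm hgs rfl)

/-- A monic polynomial over a strictly henselian ring with separable reduction: every root in a
domain to which the ring maps comes from the ring. -/
theorem root_mem_range {S K : Type u} [CommRing S] [HenselianLocalRing S] [IsSepClosed (ResidueField S)]
    [CommRing K] [IsDomain K] (j : S →+* K) {f : S[X]} (hf : f.Monic)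
    (hsep : (f.map (residue S)).Separable) {z : K} (hz : (f.map j).IsRoot z) : z ∈ j.range := by
  induction hn : f.natDegree using Nat.strong_induction_on generalizing f with
  | _ n ih =>
    by_cases h0 : f.natDegree = 0
    · rw [hf.natDegree_eq_zero.mp h0, Polynomial.map_one, Polynomial.IsRoot.def, eval_one] at hz
      exact absurd hz one_ne_zero
    obtain ⟨a, g, hgm, hgs, rfl, hlt⟩ := exists_factor_of_separable hf hsep h0
    rw [Polynomial.map_mul, Polynomial.map_sub, map_X, map_C, IsRoot.def, eval_mul, mul_eq_zero,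
      eval_sub, eval_X, eval_C, sub_eq_zero] at hz
    rcases hz with hz | hz
    · exact ⟨a, hz.symm⟩
    exact ih g.natDegree (hn ▸ hlt) hgm hgs hz rfl

variable {A S : Type u} [CommRing A] [HenselianLocalRing A] [IsNoetherianRing A] [CommRing S]
  [IsLocalRing S] [Algebra A S] [IsLocalHom (algebraMap A S)] [Hensel.IsStrictHenselization A S]
  (Q : Ideal S) [Q.IsPrime] (t : Finset (FractionRing (S ⧸ Q)))

/-- The intersection is local, dominated by the branch. -/
theorem isLocalRing_branchInter : IsLocalRing (branchInter (A := A) Q t) :=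
  have := isIntegral_strictHenselization (A := A) (S := S)
  have : Algebra.IsIntegral A (branchInter (A := A) Q t) := ⟨fun x =>
    (isIntegral_algHom_iff (branchInter (A := A) Q t).val Subtype.val_injective).1
      (Algebra.IsIntegral.isIntegral (x : S ⧸ Q))⟩
  isLocalRing_of_integral_henselian' (R := A) (branchInter (A := A) Q t)

set_option maxHeartbeats 1000000 in
/-- The intersection is formally unramified over the base. -/
theorem formallyUnramified_branchInter (hG : CAlg.IsGRing A) :
    Algebra.FormallyUnramified A (branchInter (A := A) Q t) := by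
  classical
  have hint := isIntegral_strictHenselization (A := A) (S := S)
  have hfinD := finite_branchInter Q t hG
  have := isLocalRing_branchInter (A := A) Q t
  obtain ⟨E, -, hEloc, hEhom, hEt, hEfin, hgal, hlift⟩ := exists_stage_branchInter Q t hG ∅
  have hSloc := SubSh14.isLocalHom E hEt
  have := EssEt14.formallyEtale hEt
  have := EssEt14.essFiniteType hEt
  have hmE : (maximalIdeal A).map (algebraMap A E) = maximalIdeal E :=
    Algebra.FormallyUnramified.map_maximalIdeal
  have hfield : Module.Finite (ResidueField A) (ResidueField E) :=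
    Algebra.FormallyUnramified.finite_of_free _ _
  obtain ⟨ab, hab⟩ := Field.exists_primitive_element (ResidueField A) (ResidueField E)
  obtain ⟨a, rfl⟩ := residue_surjective ab
  have habint : IsIntegral (ResidueField A) (residue E a) := Algebra.IsIntegral.isIntegral _
  let pb := IntermediateField.adjoin.powerBasis habint
  have hspanres : Submodule.span (ResidueField A)
      (Set.range fun i : ULift.{u} (Fin pb.dim) => residue E (a ^ (i.down : ℕ))) = ⊤ := by
    refine eq_top_iff.2 fun x _ => ?_
    have hx : x ∈ IntermediateField.adjoin (ResidueField A) {residue E a} := hab ▸ IntermediateField.mem_top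
    have h1 := pb.basis.mem_span (⟨x, hx⟩ : IntermediateField.adjoin (ResidueField A) {residue E a})
    have h2 := Submodule.mem_map_of_mem
      (f := (IntermediateField.adjoin (ResidueField A) {residue E a}).val.toLinearMap) h1
    rw [Submodule.map_span, ← Set.range_comp] at h2
    refine Submodule.span_mono ?_ h2
    rintro _ ⟨i, rfl⟩
    refine ⟨⟨i⟩, ?_⟩
    simp only [Function.comp_apply, PowerBasis.coe_basis, map_pow]
    rfl
  have hspan : Submodule.span A (Set.range fun i : ULift.{u} (Fin pb.dim) => a ^ (i.down : ℕ)) = ⊤ :=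
    SubSh14.span_lift _ hmE hspanres
  obtain ⟨c, hc⟩ := (Submodule.mem_span_range_iff_exists_fun A).1
    (show a ^ pb.dim ∈ Submodule.span A (Set.range fun i : ULift.{u} (Fin pb.dim) => a ^ (i.down : ℕ))
      from hspan ▸ trivial)
  -- the polynomial
  let low : A[X] := ∑ i, C (c i) * X ^ (i.down : ℕ)
  have hlow : low.degree < (pb.dim : ℕ) := by
    refine (degree_sum_le _ _).trans_lt ((Finset.sup_lt_iff (by exact WithBot.bot_lt_coe _)).2 fun i _ => ?_)
    exact (degree_C_mul_X_pow_le _ _).trans_lt (by exact_mod_cast i.down.2)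
  let f₀ : A[X] := X ^ pb.dim - low
  have hf₀ : f₀.Monic := monic_X_pow_sub hlow
  have hf₀deg : f₀.natDegree = pb.dim := by
    refine natDegree_eq_of_degree_eq_some ?_
    rw [degree_sub_eq_left_of_degree_lt (by rwa [degree_X_pow]), degree_X_pow]
  have hf₀a : aeval a f₀ = 0 := by
    simp only [f₀, low, map_sub, map_pow, aeval_X, map_sum, map_mul, aeval_C]
    rw [sub_eq_zero, ← hc]
    simp only [Algebra.smul_def]
  have hmin : f₀.map (residue A) = minpoly (ResidueField A) (residue E a) := by
    refine minpoly.eq_of_irreducible_of_monic ?_ ?_ (hf₀.map _) |>.symm.symm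
    · have hroot : aeval (residue E a) (f₀.map (residue A)) = 0 := by
        rw [aeval_def, eval₂_map]
        have h := congrArg (residue E) hf₀a
        rw [aeval_def, hom_eval₂, map_zero] at h
        exact h
      have hdvd := minpoly.dvd (ResidueField A) (residue E a) hroot
      have heq : minpoly (ResidueField A) (residue E a) = f₀.map (residue A) :=
        eq_of_monic_of_dvd_of_natDegree_le (minpoly.monic habint) (hf₀.map _) hdvd (by
          rw [hf₀.natDegree_map, hf₀deg, IntermediateField.adjoin.powerBasis_dim]) |>.symm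
      rw [← heq]
      exact minpoly.irreducible habint
    · rw [aeval_def, eval₂_map]
      have h := congrArg (residue E) hf₀a
      rw [aeval_def, hom_eval₂, map_zero] at h
      exact h
  have hsepA : (f₀.map (residue A)).Separable := hmin ▸ Algebra.IsSeparable.isSeparable _ _
  have : HenselianLocalRing S := Hensel.IsStrictHenselization.henselian (R := A)
  have hsc : IsSepClosure (ResidueField A) (ResidueField S) := Hensel.IsStrictHenselization.isSepClosure
  have := hsc.sep_closed
  let K := FractionRing (S ⧸ Q)
  let jK : S →+* K := (algebraMap (S ⧸ Q) K).comp (Ideal.Quotient.mk Q)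
  have hjA : jK.comp (algebraMap A S) = algebraMap A K := RingHom.ext fun x => rfl
  have hfS : ((f₀.map (algebraMap A S)).map (residue S)).Separable := by
    rw [Polynomial.map_map,
      show (residue S).comp (algebraMap A S) = (ResidueField.map (algebraMap A S)).comp (residue A) from
        RingHom.ext fun x => rfl, ← Polynomial.map_map]
    exact hsepA.map
  set α : S ⧸ Q := Ideal.Quotient.mk Q (a : S) with hα
  -- the subfield and minimal polynomial
  let L := Subfield.closure (Set.range (algebraMap A K) ∪ (t : Set K))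
  let D := branchInter (A := A) Q t
  have hαint : IsIntegral A (algebraMap (S ⧸ Q) K α) :=
    (Algebra.IsIntegral.isIntegral α).map (IsScalarTower.toAlgHom A (S ⧸ Q) K)
  letI : Algebra A L :=
    ((algebraMap A K).codRestrict L fun x => Subfield.subset_closure (Or.inl ⟨x, rfl⟩)).toAlgebra
  have : IsScalarTower A L K := IsScalarTower.of_algebraMap_eq fun _ => rfl
  have hαL : IsIntegral L (algebraMap (S ⧸ Q) K α) := hαint.tower_top
  set g := minpoly L (algebraMap (S ⧸ Q) K α) with hg
  have hαroot : aeval (algebraMap (S ⧸ Q) K α) f₀ = 0 := by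
    have h := congrArg (fun e : E => jK (e : S)) hf₀a
    rw [show algebraMap (S ⧸ Q) K α = ((IsScalarTower.toAlgHom A (S ⧸ Q) K).comp
        ((Ideal.Quotient.mkₐ A Q).comp E.val)) a from rfl, aeval_algHom_apply, hf₀a, map_zero]
  have hgdvd : g.map (algebraMap L K) ∣ f₀.map (algebraMap A K) := by
    rw [IsScalarTower.algebraMap_eq A L K, ← Polynomial.map_map]
    refine Polynomial.map_dvd _ (minpoly.dvd L _ ?_)
    rw [aeval_map_algebraMap, hαroot]
  have hcoeff : ∀ i, ∃ d : D, algebraMap (S ⧸ Q) K d = algebraMap L K (g.coeff i) := by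
    intro i
    have hlifts : g.map (algebraMap L K) ∈ Polynomial.lifts (algebraMap (S ⧸ Q) K) := by
      have hsp : ∀ z ∈ (f₀.map (algebraMap A K)).roots, z ∈ (algebraMap (S ⧸ Q) K).range := by
        intro z hz
        simp only [mem_roots', ne_eq] at hz
        have h := root_mem_range jK (hf₀.map (algebraMap A S)) hfS (z := z)
          (by rw [Polynomial.map_map, hjA]; exact hz.2)
        obtain ⟨s, rfl⟩ := h
        exact ⟨_, rfl⟩
      have hsplit : (f₀.map (algebraMap A K)).Splits := by
        have hS : (f₀.map (algebraMap A S)).Splits := by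
          clear hsp hgdvd
          exact splits_of_separable (hf₀.map _) hfS
        rw [← hjA, ← Polynomial.map_map]
        exact hS.map jK
      have hgs : (g.map (algebraMap L K)).Splits :=
        hsplit.of_dvd ((hf₀.map _).ne_zero) hgdvd
      rw [hgs.eq_prod_roots_of_monic ((minpoly.monic hαL).map _)]
      refine Subsemiring.multiset_prod_mem _ _ fun p hp => ?_
      obtain ⟨z, hz, rfl⟩ := Multiset.mem_map.1 hp
      obtain ⟨w, rfl⟩ := hsp z (Multiset.mem_of_le (roots.le_of_dvd (hf₀.map _).ne_zero hgdvd) hz)
      rw [show X - C (algebraMap (S ⧸ Q) K w) = (X - C w).map (algebraMap (S ⧸ Q) K) by simp]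
      exact ⟨X - C w, rfl⟩
    rw [Polynomial.lifts_iff_coeff_lifts] at hlifts
    obtain ⟨s, hs⟩ := hlifts i
    rw [coeff_map] at hs
    exact ⟨⟨s, (mem_branchInter Q t).2 (hs ▸ (g.coeff i).2)⟩, hs⟩
  let val' : D →+* L := ((algebraMap (S ⧸ Q) K).comp D.val.toRingHom).codRestrict L fun x => x.2
  have hval' : Function.Injective val' := fun x y h =>
    Subtype.ext (IsFractionRing.injective (S ⧸ Q) K (congrArg Subtype.val h))
  have hgl : g ∈ Polynomial.lifts val' := by
    rw [Polynomial.lifts_iff_coeff_lifts]
    intro i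
    obtain ⟨d, hd⟩ := hcoeff i
    exact ⟨d, Subtype.ext hd⟩
  obtain ⟨gD, hgD, hgDdeg, hgDm⟩ := lifts_and_degree_eq_and_monic hgl (minpoly.monic hαL)
  let κ : D →+* S ⧸ Q := D.val.toRingHom
  have hgDα : eval₂ κ α gD = 0 := by
    apply IsFractionRing.injective (S ⧸ Q) K
    rw [hom_eval₂, map_zero, show (algebraMap (S ⧸ Q) K).comp κ = (algebraMap L K).comp val' from
      RingHom.ext fun x => rfl, ← eval₂_map, hgD]
    exact minpoly.aeval L _
  have hzero : ∀ P : D[X], P.degree < gD.degree → eval₂ κ α P = 0 → P = 0 := by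
    intro P hP h
    have h1 := congrArg (algebraMap (S ⧸ Q) K) h
    rw [hom_eval₂, map_zero, show (algebraMap (S ⧸ Q) K).comp κ = (algebraMap L K).comp val' from
      RingHom.ext fun x => rfl, ← eval₂_map] at h1
    have h2 : P.map val' = 0 := by
      by_contra hne
      have h3 := minpoly.degree_le_of_ne_zero L _ hne h1
      rw [degree_map_eq_of_injective hval', ← hg, ← hgDdeg] at h3
      exact absurd h3 (not_le.2 hP)
    exact (Polynomial.map_eq_zero_iff hval').1 h2
  have hgD1 : 0 < gD.degree := by
    rw [hgDdeg]
    exact minpoly.degree_pos hαL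
  -- fibre
  have hEspan : ∀ e : E, ∃ P : D[X], eval₂ κ α P = Ideal.Quotient.mk Q (e : S) ∧ P.degree < gD.degree := by
    intro e
    obtain ⟨ce, hce⟩ := (Submodule.mem_span_range_iff_exists_fun A).1
      (show e ∈ Submodule.span A (Set.range fun i : ULift.{u} (Fin pb.dim) => a ^ (i.down : ℕ))
        from hspan ▸ trivial)
    refine ⟨(∑ i, C (algebraMap A D (ce i)) * X ^ (i.down : ℕ)) %ₘ gD, ?_, degree_modByMonic_lt _ hgDm⟩
    rw [eval₂_modByMonic_eq_self_of_root hgDα, eval₂_finsetSum, ← hce]
    simp only [AddSubmonoidClass.coe_finsetSum, map_sum, eval₂_mul, eval₂_C, eval₂_X_pow,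
      Algebra.smul_def, MulMemClass.coe_mul, SubmonoidClass.coe_pow, map_mul, map_pow]
    rfl
  have hretract : ∀ d : D, (∃ e ∈ maximalIdeal E, Ideal.Quotient.mk Q (e : S) = d) →
      d ∈ (maximalIdeal A).map (algebraMap A D) := by
    rintro d ⟨e, he, hed⟩
    have key : ∃ P : D[X], P.degree < gD.degree ∧ eval₂ κ α P = Ideal.Quotient.mk Q (e : S) ∧
        ∀ i, P.coeff i ∈ (maximalIdeal A).map (algebraMap A D) := by
      rw [← hmE] at he
      clear hed
      refine Submodule.span_induction (p := fun e _ => ∃ P : D[X], P.degree < gD.degree ∧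
        eval₂ κ α P = Ideal.Quotient.mk Q ((e : E) : S) ∧
        ∀ i, P.coeff i ∈ (maximalIdeal A).map (algebraMap A D)) ?_ ?_ ?_ ?_ he
      · rintro _ ⟨m, hm, rfl⟩
        refine ⟨C (algebraMap A D m), degree_C_le.trans_lt hgD1,
          by rw [eval₂_C]; rfl, fun i => ?_⟩
        rw [coeff_C]
        split
        · exact Ideal.mem_map_of_mem _ hm
        · exact Submodule.zero_mem _
      · exact ⟨0, by rw [degree_zero]; exact (WithBot.bot_lt_coe _).trans hgD1, by simp,
          fun i => by simp⟩
      · rintro x y - - ⟨P, hP, hPx, hPc⟩ ⟨P', hP', hPy, hPc'⟩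
        refine ⟨P + P', (degree_add_le _ _).trans_lt (max_lt hP hP'), ?_, fun i => ?_⟩
        · rw [eval₂_add, hPx, hPy]
          exact (map_add (Ideal.Quotient.mk Q) (x : S) (y : S)).symm
        · rw [coeff_add]; exact Ideal.add_mem _ (hPc i) (hPc' i)
      · rintro r x - ⟨P, hP, hPx, hPc⟩
        obtain ⟨R, hR, hRdeg⟩ := hEspan r
        refine ⟨(R * P) %ₘ gD, degree_modByMonic_lt _ hgDm, ?_, fun i => ?_⟩
        · rw [eval₂_modByMonic_eq_self_of_root hgDα, eval₂_mul, hR, hPx]
          exact (map_mul (Ideal.Quotient.mk Q) (r : S) (x : S)).symm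
        · have h0 : (R * P).map (Ideal.Quotient.mk ((maximalIdeal A).map (algebraMap A D))) = 0 := by
            rw [Polynomial.map_mul, show P.map (Ideal.Quotient.mk _) = 0 from Polynomial.ext fun j => by
              rw [coeff_map, coeff_zero, Ideal.Quotient.eq_zero_iff_mem]; exact hPc j, mul_zero]
          have h1 := map_modByMonic (Ideal.Quotient.mk ((maximalIdeal A).map (algebraMap A D)))
            hgDm (p := R * P)
          rw [h0, zero_modByMonic] at h1
          have h2 := congrArg (fun F => Polynomial.coeff F i) h1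
          simp only [coeff_map, coeff_zero] at h2
          exact Ideal.Quotient.eq_zero_iff_mem.1 h2
    obtain ⟨P, hP, hPe, hPc⟩ := key
    have h1 : P - C d = 0 := hzero _
      ((degree_sub_le _ _).trans_lt (max_lt hP (degree_C_le.trans_lt hgD1)))
      (by rw [eval₂_sub, eval₂_C, hPe, hed]; exact sub_self _)
    rw [← coeff_C_zero (a := d), ← sub_eq_zero.1 h1]
    exact hPc 0
  -- residue rings
  have : IsLocalHom (Ideal.Quotient.mk Q) := IsLocalHom.of_surjective _ Ideal.Quotient.mk_surjective
  have hDA : IsLocalHom (algebraMap A D) := by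
    refine ⟨fun x hx => isUnit_of_map_unit (algebraMap A S) x ?_⟩
    have h1 : IsUnit (Ideal.Quotient.mk Q (algebraMap A S x)) := hx.map κ
    exact isUnit_of_map_unit (Ideal.Quotient.mk Q) _ h1
  have : IsLocalHom (Ideal.Quotient.mk Q) := IsLocalHom.of_surjective _ Ideal.Quotient.mk_surjective
  have : Algebra.IsIntegral D (S ⧸ Q) := ⟨fun x => (Algebra.IsIntegral.isIntegral (R := A) x).tower_top⟩
  have hDS : IsLocalHom κ := by
    have h : RingHom.IsIntegral κ := fun x => Algebra.IsIntegral.isIntegral (R := D) x
    exact h.isLocalHom Subtype.val_injective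
  have hmax : (maximalIdeal A).map (algebraMap A D) = maximalIdeal D := by
    refine le_antisymm ((local_hom_TFAE (algebraMap A D)).out 0 2 |>.1 hDA) fun d hd => hretract d ?_
    obtain ⟨e, he, hed⟩ := hlift (d : S ⧸ Q) d.2
    refine ⟨⟨e, he⟩, fun hu => hd (isUnit_of_map_unit κ d ?_), hed⟩
    show IsUnit (d : S ⧸ Q)
    rw [← hed]
    exact (hu.map E.val).map (Ideal.Quotient.mk Q)
  have : IsLocalHom (algebraMap D (S ⧸ Q)) := hDS
  have : IsLocalRing (S ⧸ Q) := IsLocalRing.of_surjective' _ Ideal.Quotient.mk_surjective
  have : Algebra.IsSeparable (ResidueField A) (ResidueField D) := by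
    have : IsLocalHom (algebraMap A (S ⧸ Q)) := by
      refine ⟨fun x hx => isUnit_of_map_unit (algebraMap A S) x ?_⟩
      exact isUnit_of_map_unit (Ideal.Quotient.mk Q) _ hx
    let φ : ResidueField D →ₐ[ResidueField A] ResidueField (S ⧸ Q) :=
      { ResidueField.map (algebraMap D (S ⧸ Q)) with
        commutes' := fun x => by obtain ⟨r, rfl⟩ := residue_surjective x; rfl }
    have : Algebra.IsSeparable (ResidueField A) (ResidueField (S ⧸ Q)) := by
      let ψ : ResidueField S →ₐ[ResidueField A] ResidueField (S ⧸ Q) :=
        { ResidueField.map (Ideal.Quotient.mk Q) with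
          commutes' := fun x => by obtain ⟨r, rfl⟩ := residue_surjective x; rfl }
      have : Algebra.IsSeparable (ResidueField A) (ResidueField S) := hsc.separable
      refine AlgEquiv.Algebra.isSeparable (AlgEquiv.ofBijective ψ ⟨ψ.toRingHom.injective, ?_⟩)
      intro y
      obtain ⟨y, rfl⟩ := residue_surjective y
      obtain ⟨y, rfl⟩ := Ideal.Quotient.mk_surjective y
      exact ⟨residue S y, rfl⟩
    exact Algebra.IsSeparable.of_algHom _ _ φ
  exact Algebra.FormallyUnramified.of_map_maximalIdeal hmax

end Groth.Agent.Henz21
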