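import Mathlib
import Groth.Agent.Henz21.ShBranchUnram
import Groth.Agent.Henz21.FiniteLocal
import Groth.Agent.SubSh14.Frac
import Groth.Agent.SubSh14.Semilocal
import Groth.Agent.Hensel20.HenzProps

/-!
Finite subalgebras of the strict henselization and separable closedness of the residue fields of
their normalizations.
-/

universe u

open IsLocalRing Polynomial

namespace Groth.Agent.Henz21

section Stage

variable {A S : Type u} [CommRing A] [HenselianLocalRing A] [IsNoetherianRing A] [CommRing S]
  [IsLocalRing S] [Algebra A S] [IsLocalHom (algebraMap A S)] [Hensel.IsStrictHenselization A S]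

/-- Finitely many elements lie in a finite étale stage generated by one element with separable
equation. -/
theorem exists_monogenic_stage (s : Finset S) :
    ∃ (E : Subalgebra A S) (a : S) (f₀ : A[X]), (s : Set S) ⊆ (E : Set S) ∧
      ∃ (_ : IsLocalRing E) (_ : IsLocalHom (algebraMap A E)),
      EGA4loc.IsEssentiallyEtale A E ∧ Module.Finite A E ∧
      E = Algebra.adjoin A {a} ∧ f₀.Monic ∧ aeval a f₀ = 0 ∧ (f₀.map (residue A)).Separable := by
  classical
  obtain ⟨E, hsE, hEloc, hEhom, hEt, hEfin, -⟩ := SubSh14.exists_galois_stage (A := A) s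
  have := EssEt14.formallyEtale hEt
  have := EssEt14.essFiniteType hEt
  have hmE : (maximalIdeal A).map (algebraMap A E) = maximalIdeal E :=
    Algebra.FormallyUnramified.map_maximalIdeal
  have hfield : Module.Finite (ResidueField A) (ResidueField E) :=
    Algebra.FormallyUnramified.finite_of_free _ _
  obtain ⟨ab, hab⟩ := Field.exists_primitive_element (ResidueField A) (ResidueField E)
  obtain ⟨a, rfl⟩ := residue_surjective ab
  have habint : IsIntegral (ResidueField A) (residue E a) := Algebra.IsIntegral.isIntegral _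
  let pb := IntermediateField.adjoin.powerBasis habint
  have hspanres : Submodule.span (ResidueField A)
      (Set.range fun i : ULift.{u} (Fin pb.dim) => residue E (a ^ (i.down : ℕ))) = ⊤ := by
    refine eq_top_iff.2 fun x _ => ?_
    have hx : x ∈ IntermediateField.adjoin (ResidueField A) {residue E a} := hab ▸ IntermediateField.mem_top
    have h1 := pb.basis.mem_span (⟨x, hx⟩ : IntermediateField.adjoin (ResidueField A) {residue E a})
    have h2 := Submodule.mem_map_of_mem
      (f := (IntermediateField.adjoin (ResidueField A) {residue E a}).val.toLinearMap) h1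
    rw [Submodule.map_span, ← Set.range_comp] at h2
    refine Submodule.span_mono ?_ h2
    rintro _ ⟨i, rfl⟩
    refine ⟨⟨i⟩, ?_⟩
    simp only [Function.comp_apply, PowerBasis.coe_basis, map_pow]
    rfl
  have hspan : Submodule.span A (Set.range fun i : ULift.{u} (Fin pb.dim) => a ^ (i.down : ℕ)) = ⊤ :=
    SubSh14.span_lift _ hmE hspanres
  obtain ⟨c, hc⟩ := (Submodule.mem_span_range_iff_exists_fun A).1
    (show a ^ pb.dim ∈ Submodule.span A (Set.range fun i : ULift.{u} (Fin pb.dim) => a ^ (i.down : ℕ))
      from hspan ▸ trivial)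
  let low : A[X] := ∑ i, C (c i) * X ^ (i.down : ℕ)
  have hlow : low.degree < (pb.dim : ℕ) := by
    refine (degree_sum_le _ _).trans_lt ((Finset.sup_lt_iff (by exact WithBot.bot_lt_coe _)).2 fun i _ => ?_)
    exact (degree_C_mul_X_pow_le _ _).trans_lt (by exact_mod_cast i.down.2)
  let f₀ : A[X] := X ^ pb.dim - low
  have hf₀ : f₀.Monic := monic_X_pow_sub hlow
  have hf₀deg : f₀.natDegree = pb.dim := by
    refine natDegree_eq_of_degree_eq_some ?_
    rw [degree_sub_eq_left_of_degree_lt (by rwa [degree_X_pow]), degree_X_pow]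
  have hf₀a : aeval a f₀ = 0 := by
    simp only [f₀, low, map_sub, map_pow, aeval_X, map_sum, map_mul, aeval_C]
    rw [sub_eq_zero, ← hc]
    simp only [Algebra.smul_def]
  have hroot : aeval (residue E a) (f₀.map (residue A)) = 0 := by
    rw [aeval_def, eval₂_map]
    have h := congrArg (residue E) hf₀a
    rw [aeval_def, hom_eval₂, map_zero] at h
    exact h
  have hmin : minpoly (ResidueField A) (residue E a) = f₀.map (residue A) :=
    eq_of_monic_of_dvd_of_natDegree_le (minpoly.monic habint) (hf₀.map _)
      (minpoly.dvd (ResidueField A) (residue E a) hroot)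
      (by rw [hf₀.natDegree_map, hf₀deg, IntermediateField.adjoin.powerBasis_dim]) |>.symm
  refine ⟨E, (a : S), f₀, hsE, hEloc, hEhom, hEt, hEfin, ?_, hf₀, ?_,
    hmin ▸ Algebra.IsSeparable.isSeparable _ _⟩
  · refine le_antisymm (fun x hx => ?_) (Algebra.adjoin_le (Set.singleton_subset_iff.2 a.2))
    obtain ⟨ce, hce⟩ := (Submodule.mem_span_range_iff_exists_fun A).1
      (show (⟨x, hx⟩ : E) ∈ Submodule.span A (Set.range fun i : ULift.{u} (Fin pb.dim) => a ^ (i.down : ℕ))
        from hspan ▸ trivial)
    have hx' : x = ∑ i, ce i • (a : S) ^ (i.down : ℕ) := by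
      have h := congrArg Subtype.val hce
      simp only [AddSubmonoidClass.coe_finsetSum] at h
      exact h.symm
    rw [hx']
    exact sum_mem fun i _ => Subalgebra.smul_mem _ (pow_mem (Algebra.self_mem_adjoin_singleton A _) _) _
  · rw [show (a : S) = E.val a from rfl, aeval_algHom_apply, hf₀a, map_zero]

end Stage

section Sub

variable {A S : Type u} [CommRing A] [HenselianLocalRing A] [IsNoetherianRing A] [CommRing S]
  [IsLocalRing S] [Algebra A S] [IsLocalHom (algebraMap A S)] [Hensel.IsStrictHenselization A S]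
  (D : Type u) [CommRing D] [Algebra A D] [Algebra D S] [IsScalarTower A D S] [FaithfulSMul D S]

/-- A subalgebra is local and dominated by the strict henselization. -/
theorem isLocal_subalgebra :
    ∃ _ : IsLocalRing D, IsLocalHom (algebraMap D S) ∧ IsLocalHom (algebraMap A D) ∧
      Algebra.IsIntegral D S := by
  have hint := isIntegral_strictHenselization (A := A) (S := S)
  have hDS : Algebra.IsIntegral D S :=
    ⟨fun x => (Algebra.IsIntegral.isIntegral (R := A) x).tower_top⟩
  have h : (algebraMap D S).IsIntegral := fun x => Algebra.IsIntegral.isIntegral (R := D) x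
  have hl : IsLocalHom (algebraMap D S) := h.isLocalHom (FaithfulSMul.algebraMap_injective D S)
  exact ⟨RingHom.domain_isLocalRing (algebraMap D S), hl,
    ⟨fun x hx => isUnit_of_map_unit (algebraMap A S) x (by
      rw [IsScalarTower.algebraMap_apply A D S]; exact hx.map (algebraMap D S))⟩, hDS⟩

include A in
/-- Minimal primes of the strict henselization contract to minimal primes. -/
theorem comap_mem_minimalPrimes {Q : Ideal S} (hQ : Q ∈ minimalPrimes S) :
    Q.comap (algebraMap D S) ∈ minimalPrimes D := by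
  have := isIntegral_strictHenselization (A := A) (S := S)
  have : Q.IsPrime := hQ.1.1
  have : Algebra.IsIntegral A D := ⟨fun x =>
    (isIntegral_algHom_iff (IsScalarTower.toAlgHom A D S) (FaithfulSMul.algebraMap_injective D S)).1
      (Algebra.IsIntegral.isIntegral _)⟩
  refine ⟨⟨Ideal.IsPrime.comap _, bot_le⟩, fun P' hP' hle => ?_⟩
  have : P'.IsPrime := hP'.1
  have hu : Q.under A = (Q.comap (algebraMap D S)).comap (algebraMap A D) := by
    rw [Ideal.comap_comap, ← IsScalarTower.algebraMap_eq]
  have hq : (Q.under A) ≤ P'.under A := by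
    have : Module.Flat A S := (strictHenselization_faithfullyFlat S).toFlat
    have : Q.LiesOver (Q.under A) := ⟨rfl⟩
    obtain ⟨Q', hQ'le, hQ'p, hQ'o⟩ := Ideal.exists_ideal_le_liesOver_of_le (p := P'.under A) (q := Q.under A) Q
      ((Ideal.comap_mono hle).trans_eq hu.symm)
    rw [← le_antisymm hQ'le (hQ.2 ⟨hQ'p, bot_le⟩ hQ'le), ← Ideal.over_def Q' (P'.under A)]
  by_contra hne
  have hlt : P' < Q.comap (algebraMap D S) := lt_of_le_of_ne hle fun e => hne e.ge
  exact (Ideal.IsIntegral.comap_lt_comap (R := A) hlt).not_ge (hu ▸ hq)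

variable [IsReduced D]

/-- Integral elements of the residue rings of the total fraction ring lift to the normalization. -/
theorem exists_integral_lift [IsArtinianRing (FractionRing D)] (𝔭 : Ideal (FractionRing D)) [𝔭.IsPrime]
    {x : FractionRing D ⧸ 𝔭} (hx : IsIntegral D x) :
    ∃ y : integralClosure D (FractionRing D), Ideal.Quotient.mk 𝔭 (y : FractionRing D) = x := by
  have : IsReduced (FractionRing D) :=
    isReduced_localizationPreserves (nonZeroDivisors D) _ inferInstance
  obtain ⟨ε, hε1, hεP⟩ := SubSh14.exists_idempotent 𝔭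
  obtain ⟨z, rfl⟩ := Ideal.Quotient.mk_surjective x
  obtain ⟨f, hf, hfz⟩ := hx
  have hfz' : aeval z f ∈ 𝔭 := by
    rw [← Ideal.Quotient.eq_zero_iff_mem, ← Ideal.Quotient.mkₐ_eq_mk D, ← aeval_algHom_apply]
    exact hfz
  have hεε : ε * ε = ε := by
    have h := hεP _ hε1
    rw [mul_sub, mul_one, sub_eq_zero] at h
    exact h
  refine ⟨⟨ε * z, f * X, hf.mul monic_X, ?_⟩, ?_⟩
  · have h1 : ε * aeval (ε * z) f = 0 := by rw [SubSh14.mul_aeval_idempotent hεε, hεP _ hfz']
    have h2 : aeval (ε * z) f * (ε * z) = 0 := by rw [← mul_assoc, mul_comm _ ε, h1, zero_mul]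
    rw [← aeval_def, map_mul, aeval_X, h2]
  · rw [Ideal.Quotient.eq]
    have : ε * z - z = (ε - 1) * z := by ring
    rw [this]
    exact Ideal.mul_mem_right _ _ hε1

end Sub

/-- The subfield generated by the range of a ring map onto a field is the range. -/
theorem coe_closure_range_of_isField {R F : Type u} [CommRing R] [IsLocalRing R] [Field F]
    (f : R →+* F) (hf : RingHom.ker f = maximalIdeal R) :
    (Subfield.closure (Set.range f) : Set F) = Set.range f := by
  let g : ResidueField R →+* F := Ideal.Quotient.lift (maximalIdeal R) f fun a ha => by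
    rwa [← RingHom.mem_ker, hf]
  have e : Set.range f = Set.range g := by
    ext y
    exact ⟨fun ⟨r, hr⟩ => ⟨residue R r, hr⟩, fun ⟨z, hz⟩ => by
      obtain ⟨r, rfl⟩ := residue_surjective z; exact ⟨r, hz⟩⟩
  rw [e]
  refine subset_antisymm ?_ Subfield.subset_closure
  intro y hy
  exact (Subfield.closure_le (t := g.fieldRange)).2 (by rintro _ ⟨z, rfl⟩; exact ⟨z, rfl⟩) hy

section Main

variable {A S : Type u} [CommRing A] [HenselianLocalRing A] [IsNoetherianRing A] [CommRing S]
  [IsLocalRing S] [Algebra A S] [IsLocalHom (algebraMap A S)] [Hensel.IsStrictHenselization A S]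
  (D : Type u) [CommRing D] [Algebra A D] [Algebra D S] [IsScalarTower A D S] [FaithfulSMul D S]

set_option maxHeartbeats 1000000 in
set_option synthInstance.maxHeartbeats 80000 in
/-- The key step: the powers of a primitive element are independent over each branch. -/
theorem coeff_mem_of_aeval_mem [IsReduced D] [IsLocalRing D] [IsLocalHom (algebraMap D S)]
    [IsArtinianRing (FractionRing D)]
    (hsep : ∀ (M : Ideal (integralClosure D (FractionRing D))) [M.IsMaximal],
      separableClosure (Subfield.closure (Set.range ((algebraMap (integralClosure D (FractionRing D))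
        M.ResidueField).comp (algebraMap D (integralClosure D (FractionRing D)))))) M.ResidueField = ⊥)
    {a : S} {f₀ : A[X]} (hf₀ : f₀.Monic) (hfa : aeval a f₀ = 0)
    (hfsep : (f₀.map (residue A)).Separable)
    {Q : Ideal S} (hQ : Q ∈ minimalPrimes S) {P₀ : D[X]}
    (hdeg : P₀.degree < (minpoly (ResidueField D) (residue S a)).degree) (hP₀ : aeval a P₀ ∈ Q) :
    ∀ i, algebraMap D S (P₀.coeff i) ∈ Q := by
  classical
  have : Q.IsPrime := hQ.1.1
  have hint := isIntegral_strictHenselization (A := A) (S := S)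
  have hDint : Algebra.IsIntegral D S :=
    ⟨fun x => (Algebra.IsIntegral.isIntegral (R := A) x).tower_top⟩
  have : HenselianLocalRing S := Hensel.IsStrictHenselization.henselian (R := A)
  have hsc : IsSepClosure (ResidueField A) (ResidueField S) := Hensel.IsStrictHenselization.isSepClosure
  have := hsc.sep_closed
  have : IsReduced (FractionRing D) :=
    isReduced_localizationPreserves (nonZeroDivisors D) _ inferInstance
  set P := Q.comap (algebraMap D S) with hP
  have hPmin : P ∈ minimalPrimes D := comap_mem_minimalPrimes (A := A) D hQ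
  have : P.IsPrime := hPmin.1.1
  have hdisj : Disjoint (nonZeroDivisors D : Set D) (P : Set D) :=
    Set.disjoint_left.2 fun x hx hxP =>
      (Set.disjoint_left.1 (Ideal.disjoint_nonZeroDivisors_of_mem_minimalPrimes hPmin) hxP) hx
  set 𝔭 := P.map (algebraMap D (FractionRing D)) with h𝔭
  have : 𝔭.IsPrime := IsLocalization.isPrime_of_isPrime_disjoint (nonZeroDivisors D) _ P inferInstance hdisj
  have h𝔭c : 𝔭.comap (algebraMap D (FractionRing D)) = P :=
    IsLocalization.comap_map_of_isPrime_disjoint (nonZeroDivisors D) _ inferInstance hdisj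
  have : 𝔭.IsMaximal := IsArtinianRing.isMaximal_of_isPrime 𝔭
  let := Ideal.Quotient.field 𝔭
  let K := FractionRing (S ⧸ Q)
  let iS : (S ⧸ Q) →ₐ[D] K := IsScalarTower.toAlgHom D (S ⧸ Q) K
  have hiS : Function.Injective iS := IsFractionRing.injective (S ⧸ Q) K
  have hunit : ∀ d : nonZeroDivisors D, IsUnit (algebraMap D K d) := fun d => isUnit_iff_ne_zero.2 fun h => by
    rw [IsScalarTower.algebraMap_apply D (S ⧸ Q) K] at h
    have := (map_eq_zero_iff _ hiS).1 h
    exact Set.disjoint_left.1 hdisj d.2
      (show algebraMap D S d ∈ Q from Ideal.Quotient.eq_zero_iff_mem.1 this)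
  let F : FractionRing D →+* K := IsLocalization.lift hunit
  have hF : ∀ z ∈ 𝔭, F z = 0 := by
    intro z hz
    rw [← RingHom.mem_ker]
    refine (Ideal.map_le_iff_le_comap.2 fun d hd => ?_) hz
    rw [Ideal.mem_comap, RingHom.mem_ker, IsLocalization.lift_eq,
      IsScalarTower.algebraMap_apply D (S ⧸ Q) K,
      show algebraMap D (S ⧸ Q) d = 0 from Ideal.Quotient.eq_zero_iff_mem.2 hd, map_zero]
  let jL : (FractionRing D ⧸ 𝔭) →ₐ[D] K :=
    { Ideal.Quotient.lift 𝔭 F hF with
      commutes' := fun d => IsLocalization.lift_eq hunit d }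
  have hjL : Function.Injective jL := jL.toRingHom.injective
  have hLint : ∀ z : FractionRing D ⧸ 𝔭, jL z ∈ iS.range → IsIntegral D z := by
    rintro z ⟨w, hw⟩
    have hSQ : Algebra.IsIntegral D (S ⧸ Q) := inferInstance
    refine (isIntegral_algHom_iff jL hjL).1 ?_
    rw [← show iS w = jL z from hw]
    exact (Algebra.IsIntegral.isIntegral w).map iS
  let C₀ : Subalgebra D (FractionRing D ⧸ 𝔭) := iS.range.comap jL
  let σ : C₀ →ₐ[D] (S ⧸ Q) := (AlgEquiv.ofInjective iS hiS).symm.toAlgHom.comp
    ((jL.comp C₀.val).codRestrict iS.range fun z => z.2)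
  have hσ : ∀ z : C₀, iS (σ z) = jL z := fun z =>
    congrArg Subtype.val ((AlgEquiv.ofInjective iS hiS).apply_symm_apply ⟨jL z, z.2⟩)
  -- the polynomial over the fraction field
  let gP : (FractionRing D ⧸ 𝔭)[X] := P₀.map (algebraMap D _)
  suffices hgP : gP = 0 by
    intro i
    have h := congrArg (fun p => coeff p i) hgP
    simp only [gP, coeff_map, coeff_zero] at h
    show P₀.coeff i ∈ P
    rw [← h𝔭c, Ideal.mem_comap, ← Ideal.Quotient.eq_zero_iff_mem]
    exact h
  letI : Algebra (FractionRing D ⧸ 𝔭) K := jL.toRingHom.toAlgebra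
  have : IsScalarTower D (FractionRing D ⧸ 𝔭) K := IsScalarTower.of_algebraMap_eq fun d => (jL.commutes d).symm
  set α : K := iS (Ideal.Quotient.mk Q a) with hα
  have hαS : ∀ p : D[X], aeval α p = iS (Ideal.Quotient.mk Q (aeval a p)) := fun p => by
    rw [hα, aeval_algHom_apply, ← Ideal.Quotient.mkₐ_eq_mk D, aeval_algHom_apply]
  have hgα : aeval α gP = 0 := by
    rw [aeval_map_algebraMap, hαS, Ideal.Quotient.eq_zero_iff_mem.2 hP₀, map_zero]
  by_contra hgP
  set fK := f₀.map (algebraMap A K) with hfK
  let f₀D : D[X] := f₀.map (algebraMap A D)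
  have hf₀Dα : aeval α f₀D = 0 := by
    rw [hαS, aeval_map_algebraMap, hfa, map_zero, map_zero]
  have hαint : IsIntegral (FractionRing D ⧸ 𝔭) α :=
    ⟨f₀D.map (algebraMap D _), (hf₀.map _).map _, by rw [← aeval_def, aeval_map_algebraMap, hf₀Dα]⟩
  set g := minpoly (FractionRing D ⧸ 𝔭) α with hg
  have hgdeg : g.degree < (minpoly (ResidueField D) (residue S a)).degree :=
    ((minpoly.degree_le_of_ne_zero _ α hgP hgα).trans (degree_map_le)).trans_lt hdeg
  let jS : S →+* K := iS.toRingHom.comp (Ideal.Quotient.mk Q)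
  have hjA : jS.comp (algebraMap A S) = algebraMap A K := RingHom.ext fun x => rfl
  have hfS : ((f₀.map (algebraMap A S)).map (residue S)).Separable := by
    rw [Polynomial.map_map,
      show (residue S).comp (algebraMap A S) = (ResidueField.map (algebraMap A S)).comp (residue A) from
        RingHom.ext fun x => rfl, ← Polynomial.map_map]
    exact hfsep.map
  have hgdvd : g.map jL.toRingHom ∣ fK := by
    have h1 : g ∣ f₀D.map (algebraMap D _) := minpoly.dvd _ _ (by rw [aeval_map_algebraMap, hf₀Dα])
    have h2 := Polynomial.map_dvd jL.toRingHom h1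
    rwa [Polynomial.map_map, Polynomial.map_map,
      show (jL.toRingHom.comp (algebraMap D _)).comp (algebraMap A D) = algebraMap A K from
        RingHom.ext fun x => (jL.commutes _).trans (IsScalarTower.algebraMap_apply A D K x).symm] at h2
  have hsplit : fK.Splits := by
    rw [hfK, ← hjA, ← Polynomial.map_map]
    exact (splits_of_separable (hf₀.map _) hfS).map jS
  have hcoeff : ∀ i, g.coeff i ∈ C₀ := by
    have hgm : (g.map jL.toRingHom).Monic := (minpoly.monic hαint).map _
    have hlifts : g.map jL.toRingHom ∈ Polynomial.lifts iS.toRingHom := by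
      rw [(hsplit.of_dvd (hf₀.map _).ne_zero hgdvd).eq_prod_roots_of_monic hgm]
      refine Subsemiring.multiset_prod_mem _ _ fun p hp => ?_
      obtain ⟨z, hz, rfl⟩ := Multiset.mem_map.1 hp
      have hzf : z ∈ fK.roots := Multiset.mem_of_le (roots.le_of_dvd (hf₀.map _).ne_zero hgdvd) hz
      obtain ⟨w, rfl⟩ := root_mem_range jS (hf₀.map (algebraMap A S)) hfS (z := z)
        (by rw [Polynomial.map_map, hjA]; exact (mem_roots'.1 hzf).2)
      refine ⟨X - C (Ideal.Quotient.mk Q w), ?_⟩
      simp [jS]
    intro i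
    obtain ⟨w, hw⟩ := (Polynomial.lifts_iff_coeff_lifts _).1 hlifts i
    rw [coeff_map] at hw
    exact ⟨w, hw⟩
  -- the residue map on the subring
  have : IsLocalHom (algebraMap A D) := by
    obtain ⟨_, -, h, -⟩ := isLocal_subalgebra (A := A) (S := S) D
    exact h
  have : IsLocalHom (Ideal.Quotient.mk Q) := IsLocalHom.of_surjective _ Ideal.Quotient.mk_surjective
  let resQ : (S ⧸ Q) →+* ResidueField S := Ideal.Quotient.lift Q (residue S)
    (fun x hx => (residue_eq_zero_iff x).2 (le_maximalIdeal ‹Q.IsPrime›.ne_top hx))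
  let ρ : C₀ →+* ResidueField S := resQ.comp σ.toRingHom
  have hρD : ∀ d : D, ρ (algebraMap D C₀ d) = residue S (algebraMap D S d) := fun d => by
    show resQ (σ (algebraMap D C₀ d)) = _
    rw [AlgHom.commutes]
    rfl
  set m₀ := RingHom.ker ρ with hm₀
  have : m₀.IsPrime := RingHom.ker_isPrime ρ
  let Cb := integralClosure D (FractionRing D ⧸ 𝔭)
  let inc : C₀ →ₐ[D] Cb := C₀.val.codRestrict _ fun z => hLint _ z.2
  letI : Algebra C₀ Cb := inc.toRingHom.toAlgebra
  have : IsScalarTower D C₀ Cb := IsScalarTower.of_algebraMap_eq fun d => (inc.commutes d).symm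
  have : Algebra.IsIntegral C₀ Cb := Algebra.IsIntegral.tower_top D
  have hincinj : Function.Injective (algebraMap C₀ Cb) := fun x y h =>
    Subtype.ext (congrArg (fun z : Cb => (z : FractionRing D ⧸ 𝔭)) h)
  obtain ⟨N, -, hNp, hN⟩ := Ideal.exists_ideal_over_prime_of_isIntegral (S := Cb) m₀ ⊥
    (by rw [← RingHom.ker_eq_comap_bot, (RingHom.injective_iff_ker_eq_bot _).1 hincinj]; exact bot_le)
  have hDalg : Algebra.IsIntegral A D := ⟨fun x =>
    (isIntegral_algHom_iff (IsScalarTower.toAlgHom A D S) (FaithfulSMul.algebraMap_injective D S)).1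
      (Algebra.IsIntegral.isIntegral _)⟩
  have hND : N.comap (algebraMap D Cb) = maximalIdeal D := by
    rw [IsScalarTower.algebraMap_eq D C₀ Cb, ← Ideal.comap_comap, hN]
    ext d
    rw [Ideal.mem_comap, hm₀, RingHom.mem_ker, hρD, residue_eq_zero_iff]
    exact (IsLocalRing.mem_maximalIdeal _).trans ((not_congr (isUnit_map_iff (algebraMap D S) d)).trans
      (IsLocalRing.mem_maximalIdeal d).symm)
  have : N.IsMaximal := Ideal.isMaximal_of_isIntegral_of_isMaximal_comap (R := D) N
    (hND ▸ maximalIdeal.isMaximal D)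
  let π : integralClosure D (FractionRing D) →+* Cb :=
    ((Ideal.Quotient.mkₐ D 𝔭).comp (integralClosure D (FractionRing D)).val).toRingHom.codRestrict Cb
      fun y => IsIntegral.map (Ideal.Quotient.mkₐ D 𝔭) y.2
  have hπsurj : Function.Surjective π := fun z => by
    obtain ⟨y, hy⟩ := exists_integral_lift D 𝔭 z.2
    exact ⟨y, Subtype.ext hy⟩
  set M := N.comap π with hM
  have : M.IsMaximal := Ideal.comap_isMaximal_of_surjective π hπsurj
  have hπD : ∀ d : D, π (algebraMap D _ d) = algebraMap D Cb d := fun d => Subtype.ext rfl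
  have hkey : ∀ c : C₀, ρ c ∈ Set.range (ResidueField.map (algebraMap D S)) := by
    intro c
    have hsepρ : IsSeparable (ResidueField D) (ρ c) := by
      have : IsScalarTower (ResidueField A) (ResidueField D) (ResidueField S) := by
        refine IsScalarTower.of_algebraMap_eq fun x => ?_
        obtain ⟨r, rfl⟩ := residue_surjective x
        exact congrArg (residue S) (IsScalarTower.algebraMap_apply A D S r)
      have := hsc.separable
      exact IsSeparable.tower_top (ResidueField D)
        (Algebra.IsSeparable.isSeparable (ResidueField A) (ρ c))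
    obtain ⟨hD, hhD, -, hhDm⟩ := Polynomial.lifts_and_degree_eq_and_monic
      (f := residue D) (p := minpoly (ResidueField D) (ρ c))
      ((Polynomial.lifts_iff_coeff_lifts _).2 fun n => residue_surjective _)
      (minpoly.monic hsepρ.isIntegral)
    have h0 : aeval c hD ∈ m₀ := by
      rw [hm₀, RingHom.mem_ker, aeval_def, hom_eval₂,
        show ρ.comp (algebraMap D C₀) = (ResidueField.map (algebraMap D S)).comp (residue D) from
          RingHom.ext fun d => hρD d, ← eval₂_map, hhD]
      exact minpoly.aeval _ _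
    obtain ⟨y, hy⟩ := hπsurj (algebraMap C₀ Cb c)
    let θ := algebraMap (integralClosure D (FractionRing D)) M.ResidueField
    have hθ : RingHom.ker θ = M := by
      ext x; exact Ideal.algebraMap_residueField_eq_zero
    have h1 : eval₂ (algebraMap D _) y hD ∈ M := by
      rw [hM, Ideal.mem_comap, hom_eval₂, hy,
        show π.comp (algebraMap D _) = (algebraMap C₀ Cb).comp (algebraMap D C₀) from
          RingHom.ext fun d => (hπD d).trans (IsScalarTower.algebraMap_apply D C₀ Cb d),
        ← hom_eval₂, ← Ideal.mem_comap, hN]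
      exact h0
    have hkerD : RingHom.ker (θ.comp (algebraMap D _)) = maximalIdeal D := by
      rw [← RingHom.comap_ker, hθ, hM, Ideal.comap_comap,
        show π.comp (algebraMap D _) = algebraMap D Cb from RingHom.ext hπD, hND]
    set k₀ := Subfield.closure (Set.range (θ.comp (algebraMap D _))) with hk₀
    let g₀ : ResidueField D →+* k₀ := Ideal.Quotient.lift (maximalIdeal D)
      ((θ.comp (algebraMap D _)).codRestrict k₀ fun d => Subfield.subset_closure ⟨d, rfl⟩)
      (fun d hd => Subtype.ext (by rw [← hkerD] at hd; exact hd))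
    have hsep' : IsSeparable k₀ (θ y) := by
      have hp : ((minpoly (ResidueField D) (ρ c)).map g₀).Separable :=
        Polynomial.Separable.map (hsepρ : (minpoly (ResidueField D) (ρ c)).Separable)
      refine Polynomial.Separable.of_dvd hp (minpoly.dvd k₀ _ ?_)
      have h2 : θ (eval₂ (algebraMap D _) y hD) = 0 := by rwa [← RingHom.mem_ker, hθ]
      rw [hom_eval₂] at h2
      rw [aeval_def, eval₂_map, ← hhD, eval₂_map]
      exact h2
    have h3 : θ y ∈ (⊥ : IntermediateField k₀ M.ResidueField) := hsep M ▸ hsep'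
    obtain ⟨z, hz⟩ := IntermediateField.mem_bot.1 h3
    have hk : (z : M.ResidueField) ∈ k₀ := z.2
    rw [SetLike.mem_coe.symm, coe_closure_range_of_isField _ hkerD] at hk
    obtain ⟨d, hd⟩ := hk
    refine ⟨residue D d, ?_⟩
    have h4 : algebraMap D _ d - y ∈ M := by
      rw [← hθ, RingHom.mem_ker, map_sub, sub_eq_zero]
      exact hd.trans hz
    rw [hM, Ideal.mem_comap, map_sub, hπD, hy, IsScalarTower.algebraMap_apply D C₀ Cb, ← map_sub,
      ← Ideal.mem_comap, hN, hm₀, RingHom.mem_ker, map_sub, hρD, sub_eq_zero] at h4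
    exact h4
  -- conclusion
  have hglift : g ∈ Polynomial.lifts C₀.val.toRingHom :=
    (Polynomial.lifts_iff_coeff_lifts _).2 fun i => ⟨⟨_, hcoeff i⟩, rfl⟩
  obtain ⟨g₁, hg₁, hg₁deg, hg₁m⟩ := Polynomial.lifts_and_degree_eq_and_monic hglift (minpoly.monic hαint)
  have hg₁a : eval₂ σ.toRingHom (Ideal.Quotient.mk Q a) g₁ = 0 := by
    apply hiS
    show iS.toRingHom (eval₂ σ.toRingHom (Ideal.Quotient.mk Q a) g₁) = iS 0
    rw [hom_eval₂, map_zero, show iS.toRingHom.comp σ.toRingHom = jL.toRingHom.comp C₀.val.toRingHom from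
      RingHom.ext hσ, ← eval₂_map, hg₁]
    exact minpoly.aeval _ α
  have hres : eval₂ ρ (residue S a) g₁ = 0 := by
    have h := congrArg resQ hg₁a
    rw [hom_eval₂, map_zero] at h
    exact h
  have hlow : g₁.map ρ ∈ Polynomial.lifts (ResidueField.map (algebraMap D S)) :=
    (Polynomial.lifts_iff_coeff_lifts _).2 fun i => by rw [coeff_map]; exact hkey _
  obtain ⟨g₂, hg₂, hg₂deg, hg₂m⟩ := Polynomial.lifts_and_degree_eq_and_monic hlow (hg₁m.map ρ)
  have h5 : aeval (residue S a) g₂ = 0 := by
    rw [aeval_def, ← eval_map,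
      show (algebraMap (ResidueField D) (ResidueField S)) = ResidueField.map (algebraMap D S) from rfl,
      hg₂, eval_map]
    exact hres
  have h6 := minpoly.degree_le_of_ne_zero (ResidueField D) _ hg₂m.ne_zero h5
  rw [hg₂deg, hg₁m.degree_map, hg₁deg] at h6
  exact absurd h6 (not_le.2 hgdeg)

end Main

end Groth.Agent.Henz21
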