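import Mathlib
import Groth.Agent.Henz21.SepClosedBranch
import Groth.Agent.SubSh14.Unram

/-!
The largest ind-étale part of an intermediate ring of the strict henselization.
-/

universe u

open IsLocalRing Polynomial

namespace Groth.Agent.Henz21

/-- Every element of a generated subalgebra lies in one with finitely many of the generators. -/
theorem exists_finset_of_mem_adjoin {R B : Type u} [CommRing R] [CommRing B] [Algebra R B] {U : Set B} {x : B}
    (hx : x ∈ Algebra.adjoin R U) :
    ∃ t : Finset B, (t : Set B) ⊆ U ∧ x ∈ Algebra.adjoin R (t : Set B) := by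
  classical
  have hmono : ∀ {s t : Finset B}, s ⊆ t → Algebra.adjoin R (s : Set B) ≤ Algebra.adjoin R (t : Set B) :=
    fun h => Algebra.adjoin_mono (Finset.coe_subset.2 h)
  induction hx using Algebra.adjoin_induction with
  | mem y hy => exact ⟨{y}, by simpa using hy, Algebra.subset_adjoin (by simp)⟩
  | algebraMap r => exact ⟨∅, by simp, Subalgebra.algebraMap_mem _ r⟩
  | add y z _ _ hy hz =>
    obtain ⟨s, hs, hys⟩ := hy
    obtain ⟨t, ht, hzt⟩ := hz
    exact ⟨s ∪ t, by simp [hs, ht],
      add_mem (hmono Finset.subset_union_left hys) (hmono Finset.subset_union_right hzt)⟩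
  | mul y z _ _ hy hz =>
    obtain ⟨s, hs, hys⟩ := hy
    obtain ⟨t, ht, hzt⟩ := hz
    exact ⟨s ∪ t, by simp [hs, ht],
      mul_mem (hmono Finset.subset_union_left hys) (hmono Finset.subset_union_right hzt)⟩

variable {A S : Type u} [CommRing A] [HenselianLocalRing A] [IsNoetherianRing A] [CommRing S]
  [IsLocalRing S] [Algebra A S] [IsLocalHom (algebraMap A S)] [Hensel.IsStrictHenselization A S]

variable (A) in
/-- The elements with an equation whose derivative is invertible. -/
def etaleRoots (D : Set S) : Set S :=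
  {r | r ∈ D ∧ ∃ f : A[X], f.Monic ∧ aeval r f = 0 ∧ IsUnit (aeval r f.derivative)}

/-- The ind-étale part. -/
def etalePart (D : Subalgebra A S) : Subalgebra A S := Algebra.adjoin A (etaleRoots A (D : Set S))

omit [IsNoetherianRing A] [IsLocalHom (algebraMap A S)] [Hensel.IsStrictHenselization A S] in
theorem etalePart_le (D : Subalgebra A S) : etalePart D ≤ D :=
  Algebra.adjoin_le fun _ hr => hr.1

/-- Finitely many étale roots generate an étale stage. -/
theorem essEtale_adjoin_roots (t : Finset S)
    (ht : ∀ r ∈ t, ∃ f : A[X], f.Monic ∧ aeval r f = 0 ∧ IsUnit (aeval r f.derivative)) :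
    ∃ _ : IsLocalRing (Algebra.adjoin A (t : Set S)),
      EGA4loc.IsEssentiallyEtale A (Algebra.adjoin A (t : Set S)) := by
  classical
  let E := Algebra.adjoin A (t : Set S)
  obtain ⟨hEloc, hES, hAE, -⟩ := isLocal_subalgebra (A := A) (S := S) E
  refine ⟨hEloc, ?_⟩
  have : Module.Finite A E := ⟨(Submodule.fg_top _).mpr (fg_adjoin_of_finite t.finite_toSet fun r hr => by
    obtain ⟨f, hf, hr0, -⟩ := ht r hr
    exact ⟨f, hf, hr0⟩)⟩
  have : Algebra.FormallyUnramified A E := by
    refine Algebra.FormallyUnramified.iff_comp_injective.2 fun B _ _ I hI g₁ g₂ h => ?_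
    suffices hall : ∀ x (hx : x ∈ E), g₁ ⟨x, hx⟩ = g₂ ⟨x, hx⟩ from AlgHom.ext fun x => hall x.1 x.2
    intro x hx
    induction hx using Algebra.adjoin_induction with
    | mem r hr =>
      obtain ⟨f, -, hr0, hru⟩ := ht r hr
      let r' : E := ⟨r, Algebra.subset_adjoin hr⟩
      have h0 : aeval r' f = 0 := Subtype.ext ((aeval_algHom_apply E.val r' f).symm.trans hr0)
      have hu : IsUnit (aeval r' f.derivative) := isUnit_of_map_unit (algebraMap E S) _ (by
        rw [show algebraMap E S (aeval r' f.derivative) = aeval r f.derivative from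
          (aeval_algHom_apply E.val r' f.derivative).symm]
        exact hru)
      set ε := g₁ r' - g₂ r' with hε
      have hεI : ε ∈ I := Ideal.Quotient.eq.1 (DFunLike.congr_fun h r')
      have hε2 : ε ^ 2 = 0 := by
        have := Ideal.pow_mem_pow hεI 2
        rwa [hI, Ideal.mem_bot] at this
      obtain ⟨k, key⟩ := binomExpansion (f.map (algebraMap A B)) (g₂ r') ε
      rw [show g₂ r' + ε = g₁ r' by rw [hε]; ring, hε2, mul_zero, add_zero, derivative_map,
        eval_map, eval_map, eval_map, ← aeval_def, ← aeval_def, ← aeval_def, aeval_algHom_apply,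
        aeval_algHom_apply, aeval_algHom_apply, h0, map_zero, map_zero, zero_add] at key
      exact sub_eq_zero.1 ((hu.map g₂).mul_right_eq_zero.1 key.symm)
    | algebraMap a => exact (g₁.commutes a).trans (g₂.commutes a).symm
    | add y z hy hz h1 h2 =>
      rw [show (⟨y + z, _⟩ : E) = ⟨y, hy⟩ + ⟨z, hz⟩ from rfl, map_add, map_add, h1, h2]
    | mul y z hy hz h1 h2 =>
      rw [show (⟨y * z, _⟩ : E) = ⟨y, hy⟩ * ⟨z, hz⟩ from rfl, map_mul, map_mul, h1, h2]
  exact SubSh14.essEtale_of_formallyUnramified (A := A) (S := S) E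

/-- The ind-étale part is Noetherian. -/
theorem isNoetherianRing_etalePart (D : Subalgebra A S) : IsNoetherianRing (etalePart D) := by
  classical
  have : IsNoetherianRing S := isNoetherianRing_strictHenselization A S
  let D₀ := etalePart D
  have hcon : ∀ I : Ideal D₀, (I.map (algebraMap D₀ S)).comap (algebraMap D₀ S) = I := by
    refine fun I => le_antisymm (fun x hx => ?_) Ideal.le_comap_map
    obtain ⟨s, hs, hxs⟩ := Submodule.mem_span_finite_of_mem_span
      (show algebraMap D₀ S x ∈ Submodule.span S (algebraMap D₀ S '' (I : Set D₀)) from hx)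
    obtain ⟨t, ht, hst⟩ : ∃ t : Finset S, (t : Set S) ⊆ etaleRoots A (D : Set S) ∧
        ∀ y ∈ insert (x : S) s, y ∈ Algebra.adjoin A (t : Set S) := by
      have h : ∀ y ∈ insert (x : S) s, ∃ t : Finset S, (t : Set S) ⊆ etaleRoots A (D : Set S) ∧
          y ∈ Algebra.adjoin A (t : Set S) := fun y hy => by
        refine exists_finset_of_mem_adjoin ?_
        rcases Finset.mem_insert.1 hy with rfl | hy
        · exact x.2
        · obtain ⟨a, -, rfl⟩ := hs hy
          exact a.2
      choose f hf hyf using h
      refine ⟨(insert (x : S) s).attach.biUnion fun y => f y.1 y.2, ?_, fun y hy => ?_⟩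
      · intro z hz
        obtain ⟨y, -, hzy⟩ := Finset.mem_biUnion.1 (Finset.mem_coe.1 hz)
        exact hf _ _ hzy
      · refine Algebra.adjoin_mono ?_ (hyf y hy)
        exact Finset.coe_subset.2
          (Finset.subset_biUnion_of_mem (fun z : {z // z ∈ insert (x : S) s} => f z.1 z.2)
            (Finset.mem_attach _ ⟨y, hy⟩))
    obtain ⟨_, hE⟩ := essEtale_adjoin_roots (A := A) t fun r hr => (ht hr).2
    let E := Algebra.adjoin A (t : Set S)
    have : Module.FaithfullyFlat E S := SubSh14.faithfullyFlat E hE
    have hle : E ≤ D₀ := Algebra.adjoin_mono ht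
    let J : Ideal E := I.comap (Subalgebra.inclusion hle)
    have hxJ : (⟨(x : S), hst _ (Finset.mem_insert_self _ _)⟩ : E) ∈ J := by
      rw [← Ideal.comap_map_eq_self_of_faithfullyFlat (B := S) J, Ideal.mem_comap]
      refine Submodule.span_le.2 ?_ hxs
      intro y hy
      obtain ⟨a, ha, hay⟩ := hs hy
      exact Ideal.mem_map_of_mem (algebraMap E S)
        (show (⟨y, hst _ (Finset.mem_insert_of_mem hy)⟩ : E) ∈ J by
          show Subalgebra.inclusion hle _ ∈ I
          exact (show Subalgebra.inclusion hle ⟨y, hst _ (Finset.mem_insert_of_mem hy)⟩ = a from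
            Subtype.ext hay.symm) ▸ ha)
    exact hxJ
  have hmono : StrictMono (Ideal.map (algebraMap D₀ S)) :=
    Monotone.strictMono_of_injective (fun _ _ h => Ideal.map_mono h)
      (fun I J h => by rw [← hcon I, h, hcon J])
  exact isNoetherianRing_iff.2 (isNoetherian_iff'.2 hmono.wellFoundedGT)

/-- The ind-étale part has the same residue field. -/
theorem exists_mem_etalePart_residue_eq (D : Subalgebra A S) {d : S} (hd : d ∈ D) :
    ∃ e ∈ etalePart D, residue S e = residue S d := by
  have hint := isIntegral_strictHenselization (A := A) (S := S)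
  obtain ⟨_, hDS, hAD, -⟩ := isLocal_subalgebra (A := A) (S := S) D
  have : Algebra.IsIntegral A D := ⟨fun x =>
    (isIntegral_algHom_iff D.val Subtype.val_injective).1 (Algebra.IsIntegral.isIntegral _)⟩
  have : HenselianLocalRing D := henselianLocalRing_of_isIntegral (A := A)
  have hsc : IsSepClosure (ResidueField A) (ResidueField S) := Hensel.IsStrictHenselization.isSepClosure
  have := hsc.separable
  have hsep : IsSeparable (ResidueField A) (residue S d) := Algebra.IsSeparable.isSeparable _ _
  obtain ⟨f, hf, -, hfm⟩ := Polynomial.lifts_and_degree_eq_and_monic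
    (f := residue A) (p := minpoly (ResidueField A) (residue S d))
    ((Polynomial.lifts_iff_coeff_lifts _).2 fun n => residue_surjective _)
    (minpoly.monic hsep.isIntegral)
  have hres : ∀ (g : A[X]) (z : D),
      residue S (algebraMap D S (eval z (g.map (algebraMap A D)))) =
        eval₂ (algebraMap (ResidueField A) (ResidueField S)) (residue S (z : S)) (g.map (residue A)) := by
    intro g z
    rw [eval_map, eval₂_map, hom_eval₂, hom_eval₂]
    rfl
  have h0 : eval (⟨d, hd⟩ : D) (f.map (algebraMap A D)) ∈ maximalIdeal D := by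
    rw [mem_maximalIdeal, mem_nonunits_iff]
    intro hu
    have h := residue_ne_zero_iff_isUnit _ |>.2 (hu.map (algebraMap D S))
    rw [hres, hf] at h
    exact h (minpoly.aeval _ _)
  have h1 : IsUnit (eval (⟨d, hd⟩ : D) (f.map (algebraMap A D)).derivative) := by
    refine isUnit_of_map_unit (algebraMap D S) _ ?_
    rw [← residue_ne_zero_iff_isUnit, derivative_map, hres, ← derivative_map, hf]
    exact hsep.eval₂_derivative_ne_zero _ (minpoly.aeval _ _)
  obtain ⟨a, ha, had⟩ := HenselianLocalRing.is_henselian _ (hfm.map (algebraMap A D)) ⟨d, hd⟩ h0 h1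
  have hae : residue S (a : S) = residue S d := by
    rw [← sub_eq_zero, ← map_sub, residue_eq_zero_iff]
    exact map_nonunit (algebraMap D S) _ had
  refine ⟨a, Algebra.subset_adjoin ⟨a.2, f, hfm, ?_, ?_⟩, hae⟩
  · rw [IsRoot.def, eval_map] at ha
    show aeval (D.val a) f = 0
    rw [aeval_algHom_apply, aeval_def, ha, map_zero]
  · rw [← residue_ne_zero_iff_isUnit, show aeval (a : S) f.derivative =
      algebraMap D S (eval a (f.derivative.map (algebraMap A D))) from by
        rw [eval_map, ← aeval_def]; exact aeval_algHom_apply D.val a _, hres, hae, ← derivative_map, hf]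
    exact hsep.eval₂_derivative_ne_zero _ (minpoly.aeval _ _)

end Groth.Agent.Henz21
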