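import Mathlib
import Groth.Prelude.Def_EGA4b
import Groth.Prelude.Def_Found
import Groth.Agent.EGA4Alg4.FinFormal
import Groth.Agent.CAlg5.RegularHom
import Groth.Agent.CAlg4.RegHomLoc
import Groth.Agent.CAlg4.CatQuot
import Groth.Agent.Ega11.FibreBaseChange
import Groth.Agent.EGA4H10.GRingLoc

/-!
Finite algebras over excellent rings are excellent.
-/

universe u

open IsLocalRing TensorProduct

namespace Groth.Agent.Henz21

/-- Fibres of a Noetherian algebra are Noetherian. -/
theorem isNoetherianRing_fiber {A C : Type u} [CommRing A] [CommRing C] [Algebra A C]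
    [IsNoetherianRing C] (q : Ideal A) [q.IsPrime] : IsNoetherianRing (q.Fiber C) := by
  have : IsNoetherianRing (C ⊗[A] q.ResidueField) :=
    Algebra.EssFiniteType.isNoetherianRing C (C ⊗[A] q.ResidueField)
  exact isNoetherianRing_of_ringEquiv (C ⊗[A] q.ResidueField)
    (Algebra.TensorProduct.comm A C q.ResidueField).toRingEquiv

/-- A finite algebra over a G-ring is a G-ring. -/
theorem isGRing_of_finite {A D : Type u} [CommRing A] [CommRing D] [Algebra A D] [Module.Finite A D]
    (hA : CAlg.IsGRing A) : CAlg.IsGRing D := by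
  obtain ⟨hN, hreg⟩ := hA
  refine ⟨Algebra.FiniteType.isNoetherianRing A D, fun n _ => ?_⟩
  let p := n.comap (algebraMap A D)
  let Ap := Localization.AtPrime p
  let T := AdicCompletion (maximalIdeal Ap) Ap
  let Dn := Localization.AtPrime n
  let V := AdicCompletion (maximalIdeal Dn) Dn
  have : IsNoetherianRing T :=
    CAlg1.isNoetherianRing_adicCompletion _ (IsNoetherian.noetherian _)
  have : IsNoetherianRing D := Algebra.FiniteType.isNoetherianRing A D
  have : IsNoetherianRing V :=
    CAlg1.isNoetherianRing_adicCompletion _ (IsNoetherian.noetherian _)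
  have hAT : CAlg.IsRegularHom A T :=
    CAlg5.isRegularHom_comp A Ap T (CAlg4.RegHomLoc.isRegularHom_of_isLocalization A Ap p.primeCompl) (hreg p)
      fun q _ => isNoetherianRing_fiber q
  have h1 : CAlg.IsRegularHom D (D ⊗[A] T) := CAlg5.isRegularHom_baseChange A T D hAT
  obtain ⟨N, hN', e, he⟩ := EGA4Alg4.FinFormal13.exists_equiv_completion (A := A) n
  let W := Localization.AtPrime N
  have hDV : CAlg.IsRegularHom D V := by
    have : IsNoetherianRing W := isNoetherianRing_of_ringEquiv V e.symm
    have h2 : CAlg.IsRegularHom D W :=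
      CAlg5.isRegularHom_comp D (D ⊗[A] T) W h1
        (CAlg4.RegHomLoc.isRegularHom_of_isLocalization (D ⊗[A] T) W N.primeCompl)
        fun q _ => isNoetherianRing_fiber q
    exact EGA4H10.isRegularHom_of_algEquiv { e with commutes' := fun b => he b } h2
  have hs : (algebraMap D Dn).SurjectiveOnStalks :=
    RingHom.surjectiveOnStalks_of_isLocalization n.primeCompl _
  exact Ega11.FibreBaseChange.isRegularHom hs
    (IsLocalization.algebraLid n.primeCompl Dn V) hDV

/-- A finite algebra over an excellent ring is excellent. -/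
theorem isExcellent_of_finite {A D : Type u} [CommRing A] [CommRing D] [Algebra A D]
    [Module.Finite A D] (hA : EGA4.IsExcellent A) : EGA4.IsExcellent D := by
  obtain ⟨hN, hUC, hG, hJ⟩ := hA
  refine ⟨Algebra.FiniteType.isNoetherianRing A D,
    CAlg4.CatQuot.isUniversallyCatenary_of_essFiniteType D hUC, isGRing_of_finite hG, fun S _ _ hS => ?_⟩
  let : Algebra A S := Algebra.compHom S (algebraMap A D)
  have : IsScalarTower A D S := IsScalarTower.of_algebraMap_eq fun _ => rfl
  exact hJ S (Algebra.FiniteType.trans inferInstance hS)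

end Groth.Agent.Henz21
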