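import Groth.Agent.Hensel20.StageLocal
import Groth.Agent.Henz21.Unique
import Groth.Agent.Henz21.FaithfullyFlat
import Mathlib.RingTheory.Ideal.GoingDown

/-! The fibres of henselizations are zero-dimensional. -/

set_option autoImplicit false
set_option linter.style.haveILetI false

universe u

open IsLocalRing

namespace Groth.Agent.Henz21

variable {R K : Type u} [CommRing R] [Field K] [Algebra R K]

/-- Primes of the colimit with the same contraction are incomparable. -/
theorem eq_of_le_of_comap_eq (Q P : Ideal (H R K)) [Q.IsPrime] [P.IsPrime] (h : Q ≤ P)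
    (hc : Q.comap (algebraMap R (H R K)) = P.comap (algebraMap R (H R K))) : Q = P := by
  refine le_antisymm h fun x hx => ?_
  obtain ⟨m, hm, hmx⟩ := Hensel20.exists_mul_mem_map_comap P hx
  rw [← hc] at hmx
  exact (‹Q.IsPrime›.mem_or_mem (Ideal.map_comap_le hmx)).resolve_left fun hq => hm (h hq)

variable {S : Type u} [CommRing S] [Algebra R S] (e : H R K ≃ₐ[R] S)

include e in
/-- The minimal primes over an extended prime are the primes lying over it. -/
theorem mem_minimalPrimes_map_iff_of_equiv (p : Ideal R) [p.IsPrime] (P : Ideal S) :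
    P ∈ (p.map (algebraMap R S)).minimalPrimes ↔ P.IsPrime ∧ P.comap (algebraMap R S) = p := by
  haveI : Module.Flat R S := Module.Flat.of_linearEquiv e.symm.toLinearEquiv
  have hinc : ∀ Q P : Ideal S, Q.IsPrime → P.IsPrime → Q ≤ P →
      Q.comap (algebraMap R S) = P.comap (algebraMap R S) → Q = P := by
    intro Q P _ _ hle hc
    have h1 := eq_of_le_of_comap_eq (Q.comap e.toAlgHom.toRingHom) (P.comap e.toAlgHom.toRingHom)
      (Ideal.comap_mono hle) (by
        rw [Ideal.comap_comap, Ideal.comap_comap]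
        simp only [AlgHom.toRingHom_eq_coe, AlgHom.comp_algebraMap]
        exact hc)
    exact Ideal.comap_injective_of_surjective _ e.surjective h1
  constructor
  · rintro ⟨⟨hP, hle⟩, hmin⟩
    refine ⟨hP, ?_⟩
    haveI := hP
    have hp : p ≤ P.comap (algebraMap R S) := Ideal.map_le_iff_le_comap.mp hle
    haveI : P.LiesOver (P.comap (algebraMap R S)) := ⟨rfl⟩
    obtain ⟨Q, hQP, hQ, hQp⟩ :=
      Ideal.exists_ideal_le_liesOver_of_le (p := p) (q := P.comap (algebraMap R S)) P hp
    have := hmin ⟨hQ, Ideal.map_le_iff_le_comap.mpr hQp.over.le⟩ hQP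
    rw [le_antisymm this hQP]
    exact hQp.over.symm
  · rintro ⟨hP, hc⟩
    refine ⟨⟨hP, Ideal.map_le_iff_le_comap.mpr hc.ge⟩, fun Q ⟨hQ, hpQ⟩ hQP => (hinc Q P hQ hP hQP ?_).ge⟩
    exact le_antisymm (Ideal.comap_mono hQP) (hc.le.trans (Ideal.map_le_iff_le_comap.mp hpQ))

end Groth.Agent.Henz21
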