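import Groth.Agent.Hens22.PairOps
import Mathlib.RingTheory.ZariskisMainTheorem

/-!
Henselian finitely presented maps which are finite modulo the henselian ideal are finite.
(Generalizes the argument of `Hens22.SurjOfMod`.)
-/

set_option autoImplicit false
set_option linter.style.haveILetI false
universe u

open TensorProduct

namespace Groth.Agent.Henz21

open Hens22 (exists_idempotent_lift map_le_jacobson_of_isIntegral)

variable {A : Type u} [CommRing A]

/-- A finite type algebra generated modulo `I` by the base is quasi-finite at the primes over `I`. -/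
theorem weaklyQuasiFiniteAt_of_finite (I : Ideal A) {A' : Type u} [CommRing A'] [Algebra A A']
    [Module.Finite A (A' ⧸ I.map (algebraMap A A'))]
    (P : Ideal A') [P.IsPrime] (hP : I.map (algebraMap A A') ≤ P) :
    Algebra.WeaklyQuasiFiniteAt A P := by
  rw [Algebra.weaklyQuasiFiniteAt_iff]
  let S₀ := A' ⧸ I.map (algebraMap A A')
  let T := Localization.AtPrime P ⧸ (P.under A).map (algebraMap A (Localization.AtPrime P))
  have : Algebra.QuasiFinite A' T :=
    have : Algebra.QuasiFinite A' (Localization.AtPrime P) :=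
      Algebra.QuasiFinite.of_isLocalization (R := A') (S := A') P.primeCompl
    inferInstance
  have hle : I.map (algebraMap A A') ≤ RingHom.ker (algebraMap A' T) := by
    rw [Ideal.map_le_iff_le_comap]
    intro a ha
    show algebraMap A' T (algebraMap A A' a) = 0
    rw [← IsScalarTower.algebraMap_apply A A' T,
      IsScalarTower.algebraMap_apply A (Localization.AtPrime P) T, Ideal.Quotient.algebraMap_eq,
      Ideal.Quotient.eq_zero_iff_mem]
    exact Ideal.mem_map_of_mem _ (hP (Ideal.mem_map_of_mem _ ha))
  let _ : Algebra S₀ T := (Ideal.Quotient.lift _ (algebraMap A' T) hle).toAlgebra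
  have : IsScalarTower A' S₀ T := IsScalarTower.of_algebraMap_eq fun _ => rfl
  have : IsScalarTower A S₀ T := IsScalarTower.of_algebraMap_eq fun a => by
    rw [IsScalarTower.algebraMap_apply A A' T a, IsScalarTower.algebraMap_apply A A' S₀ a,
      ← IsScalarTower.algebraMap_apply A' S₀ T]
  have : Algebra.QuasiFinite S₀ T := Algebra.QuasiFinite.of_restrictScalars A' S₀ T
  exact Algebra.QuasiFinite.trans A S₀ T

/-- Along the zero locus of `I` a finite type quasi-finite algebra, trivial modulo `I`, splits off
a factor on which it is finite. -/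
theorem exists_finite_away_of_finite (I : Ideal A) [HenselianRing A I] (A' : Type u) [CommRing A']
    [Algebra A A'] [Algebra.FiniteType A A']
    [Module.Finite A (A' ⧸ I.map (algebraMap A A'))] :
    ∃ ε : A', ε - 1 ∈ I.map (algebraMap A A') ∧ IsIntegral A ε ∧
      ∀ y, IsIntegral A (ε * y) ∧ IsIdempotentElem ε := by
  classical
  let B := integralClosure A A'
  have hint : Algebra.IsIntegral A B := integralClosure.AlgebraIsIntegral
  set I' := I.map (algebraMap A A')
  set K : Ideal B := I'.comap B.val.toRingHom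
  -- denominators
  set D : Ideal A' := Ideal.span
    {r : A' | IsIntegral A r ∧ ∀ x, ∃ m, IsIntegral A (r ^ m * x)}
  have hD : D ⊔ I' = ⊤ := by
    by_contra h
    obtain ⟨P, hP, hle⟩ := Ideal.exists_le_maximal _ h
    have := weaklyQuasiFiniteAt_of_finite I P (le_sup_right.trans hle)
    obtain ⟨r, hr, hr1, hr2⟩ := Algebra.zariskisMainProperty_iff.1
      (Algebra.ZariskisMainProperty.of_finiteType_of_weaklyQuasiFiniteAt (R := A) P)
    exact hr (hle (Ideal.mem_sup_left (Ideal.subset_span ⟨hr1, hr2⟩)))
  let DB : Ideal B := Ideal.span {r : B | ∀ x, ∃ m, IsIntegral A ((r : A') ^ m * x)}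
  have hDB : DB ⊔ K = ⊤ := by
    by_contra h
    obtain ⟨M, hM, hle⟩ := Ideal.exists_le_maximal _ h
    let ψ : B →+* A' ⧸ I' := (Ideal.Quotient.mk I').comp B.val.toRingHom
    haveI : Algebra.IsIntegral A (A' ⧸ I') := Algebra.IsIntegral.of_finite A _
    haveI : Algebra.IsIntegral B (A' ⧸ I') := Algebra.IsIntegral.tower_top A
    have hker : RingHom.ker ψ ≤ M := fun x hx =>
      hle (Ideal.mem_sup_right ((Ideal.Quotient.eq_zero_iff_mem (I := I')).mp hx))
    obtain ⟨Q, -, hQp, hQ⟩ := Ideal.exists_ideal_over_prime_of_isIntegral M (⊥ : Ideal (A' ⧸ I'))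
      (by rw [← RingHom.ker_eq_comap_bot]; exact hker)
    refine (hQp.comap (Ideal.Quotient.mk I')).ne_top (top_le_iff.mp (hD ▸ sup_le ?_ ?_))
    · refine Ideal.span_le.mpr fun r hr => ?_
      have : (⟨r, hr.1⟩ : B) ∈ Q.comap (algebraMap B (A' ⧸ I')) := by
        rw [hQ]; exact hle (Ideal.mem_sup_left (Ideal.subset_span hr.2))
      exact this
    · intro x hx
      rw [Ideal.mem_comap, Ideal.Quotient.eq_zero_iff_mem.mpr hx]
      exact zero_mem _
  -- elements of K are killed modulo IB by powers of the denominators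
  have hK : ∀ r : B, (∀ x, ∃ m, IsIntegral A ((r : A') ^ m * x)) → ∀ x ∈ K,
      ∃ m, r ^ m * x ∈ I.map (algebraMap A B) := by
    intro r hr x hx
    suffices ∀ y ∈ I', ∃ m, ∃ h : IsIntegral A ((r : A') ^ m * y),
        (⟨_, h⟩ : B) ∈ I.map (algebraMap A B) by
      obtain ⟨m, h, hm⟩ := this _ hx
      refine ⟨m, ?_⟩
      have hx' : r ^ m * x = (⟨_, h⟩ : B) := Subtype.ext (by simp)
      rw [hx']; exact hm
    intro y hy
    induction hy using Submodule.span_induction with
    | mem z hz =>
      obtain ⟨a, ha, rfl⟩ := hz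
      refine ⟨0, by simpa using isIntegral_algebraMap, ?_⟩
      convert Ideal.mem_map_of_mem (algebraMap A B) ha using 1
      apply Subtype.ext
      simp
    | zero =>
      refine ⟨0, by simp [isIntegral_zero], ?_⟩
      have h0 : (⟨(r : A') ^ 0 * 0, by simp⟩ : B) = 0 := Subtype.ext (by simp)
      rw [h0]; exact zero_mem _
    | add z w _ _ hz hw =>
      obtain ⟨m, h, hm⟩ := hz
      obtain ⟨n, h', hn⟩ := hw
      have := add_mem (Ideal.mul_mem_left _ (r ^ n) hm) (Ideal.mul_mem_left _ (r ^ m) hn)
      have heq : ((r ^ n * ⟨_, h⟩ + r ^ m * ⟨_, h'⟩ : B) : A') = (r : A') ^ (m + n) * (z + w) := by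
        push_cast; ring
      refine ⟨m + n, by rw [← heq]; exact (mem_integralClosure_iff A A').1 (SetLike.coe_mem _), ?_⟩
      convert this using 1
      exact Subtype.ext heq.symm
    | smul c z _ hz =>
      obtain ⟨m, h, hm⟩ := hz
      obtain ⟨n, hn⟩ := hr c
      have := Ideal.mul_mem_left _ (⟨_, hn⟩ : B) hm
      have heq : ((⟨_, hn⟩ * ⟨_, h⟩ : B) : A') = (r : A') ^ (m + n) * (c • z) := by
        push_cast; rw [smul_eq_mul]; ring
      refine ⟨m + n, by rw [← heq]; exact (mem_integralClosure_iff A A').1 (SetLike.coe_mem _), ?_⟩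
      convert this using 1
      exact Subtype.ext heq.symm
  let ann : B → Ideal B := fun x =>
    { carrier := {b | b * x ∈ I.map (algebraMap A B)}
      zero_mem' := by simp
      add_mem' := fun {a b} ha hb => by
        simp only [Set.mem_ofPred_eq] at ha hb ⊢
        rw [add_mul]; exact add_mem ha hb
      smul_mem' := fun c {b} hb => by
        simp only [Set.mem_ofPred_eq] at hb ⊢
        rw [smul_eq_mul, mul_assoc]; exact Ideal.mul_mem_left _ c hb }
  have hann : ∀ x ∈ K, DB ≤ (ann x).radical := fun x hx =>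
    Ideal.span_le.2 fun r hr => hK r hr x hx
  obtain ⟨b, hb, k, hk, hbk⟩ := Submodule.mem_sup.1 (hDB ▸ Submodule.mem_top (x := (1 : B)))
  obtain ⟨M, hM⟩ := hann k hk hb
  set e := b ^ M
  have hek : ∃ w, e = 1 + k * w := by
    have hbk' : b = 1 - k := eq_sub_of_add_eq hbk
    obtain ⟨w, hw⟩ := sub_one_dvd_pow_sub_one b M
    exact ⟨-w, by linear_combination hw + w * hbk⟩
  obtain ⟨w, hw⟩ := hek
  have he : e * e - e ∈ I.map (algebraMap A B) := by
    have : e * e - e = w * (e * k) := by linear_combination e * hw
    rw [this]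
    exact Ideal.mul_mem_left _ _ hM
  obtain ⟨ε, hε, hεe⟩ := exists_idempotent_lift I he
  have hεK : ∀ x ∈ K, ε * x ∈ I.map (algebraMap A B) := by
    intro x hx
    obtain ⟨m, hm⟩ := hann x hx hb
    have hm' : b ^ m * x ∈ I.map (algebraMap A B) := hm
    have h1 : ∀ j, (e ^ (j + 1) - e) * x ∈ I.map (algebraMap A B) := by
      intro j
      induction j with
      | zero => simp
      | succ j ih =>
        have : (e ^ (j + 1 + 1) - e) * x = e * ((e ^ (j + 1) - e) * x) + (e * e - e) * x := by ring
        rw [this]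
        exact add_mem (Ideal.mul_mem_left _ _ ih) (Ideal.mul_mem_right _ _ he)
    have h2 : b ^ (M * (m + 1)) * x ∈ I.map (algebraMap A B) := by
      rcases Nat.eq_zero_or_pos M with hM0 | hM0
      · have hek0 : k ∈ I.map (algebraMap A B) := by simpa [hM0] using (hM : b ^ M * k ∈ _)
        have hb1 : 1 - b ^ m ∈ I.map (algebraMap A B) := by
          obtain ⟨c, hc⟩ := sub_one_dvd_pow_sub_one b m
          have : 1 - b ^ m = k * c := by linear_combination -hc - c * hbk
          rw [this]
          exact Ideal.mul_mem_right _ _ hek0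
        rw [hM0, zero_mul, pow_zero, one_mul]
        have : x = b ^ m * x + (1 - b ^ m) * x := by ring
        rw [this]
        exact add_mem hm' (Ideal.mul_mem_right _ _ hb1)
      · have hle : m ≤ M * (m + 1) := le_trans (Nat.le_succ m) (Nat.le_mul_of_pos_left _ hM0)
        obtain ⟨j, hj⟩ := Nat.exists_eq_add_of_le hle
        rw [hj, pow_add, mul_comm (b ^ m), mul_assoc]
        exact Ideal.mul_mem_left _ _ hm'
    have h3 : ε * x = (ε - e) * x + (e ^ (m + 1) * x - (e ^ (m + 1) - e) * x) := by ring
    rw [h3]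
    refine add_mem (Ideal.mul_mem_right _ _ hεe) (sub_mem ?_ (h1 m))
    rw [← pow_mul]; exact h2
  have hεI : ((ε : B) : A') - 1 ∈ I' := by
    have h1 : ((ε - e : B) : A') ∈ I' := by
      have := Ideal.mem_map_of_mem B.val.toRingHom hεe
      rw [Ideal.map_map, show B.val.toRingHom.comp (algebraMap A B) = algebraMap A A' from
        RingHom.ext fun _ => rfl] at this
      exact this
    have hk' : (k : A') ∈ I' := hk
    have h2 := add_mem h1 (I'.mul_mem_right (w : A') hk')
    convert h2 using 1
    have := congrArg (Subtype.val : B → A') hw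
    push_cast at this ⊢
    linear_combination this
  refine ⟨ε, hεI, ε.2, fun y => ⟨?_, by exact congrArg Subtype.val hε⟩⟩
  let N : Ideal B :=
    { carrier := {c | IsIntegral A ((c : A') * (ε : A') * y)}
      zero_mem' := by simpa using isIntegral_zero
      add_mem' := fun {c d} hc hd => by
        simp only [Set.mem_ofPred_eq] at hc hd ⊢
        have := hc.add hd
        convert this using 1
        push_cast; ring
      smul_mem' := fun c {d} hd => by
        simp only [Set.mem_ofPred_eq] at hd ⊢
        have := IsIntegral.mul c.2 hd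
        convert this using 1
        push_cast [smul_eq_mul]; ring }
  suffices hN : N = ⊤ by
    have : (1 : B) ∈ N := hN ▸ Submodule.mem_top
    simpa [N] using this
  by_contra hN
  obtain ⟨Q, hQ, hNQ⟩ := Ideal.exists_le_maximal _ hN
  have h1ε : 1 - ε ∈ Q := hNQ (by
    show IsIntegral A (((1 - ε : B) : A') * (ε : A') * y)
    have := congrArg (Subtype.val : B → A') hε.eq
    push_cast at this ⊢
    rw [show (1 - (ε : A')) * ε * y = 0 by linear_combination (-y) * this]
    exact isIntegral_zero)
  have hεQ : ε ∉ Q := fun h => hQ.ne_top (Q.eq_top_iff_one.2 (by simpa using add_mem h1ε h))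
  have hIQ : I.map (algebraMap A B) ≤ Q :=
    (map_le_jacobson_of_isIntegral HenselianRing.jac B).trans (sInf_le ⟨bot_le, hQ⟩)
  have hKQ : K ≤ Q := fun x hx => (hQ.isPrime.mem_or_mem (hIQ (hεK x hx))).resolve_left hεQ
  have hDQ : DB ≤ Q := Ideal.span_le.2 fun r hr => by
    obtain ⟨m, hm⟩ := hr ((ε : A') * y)
    have : r ^ m ∈ N := by
      show IsIntegral A (((r ^ m : B) : A') * (ε : A') * y)
      push_cast; rw [mul_assoc]; exact hm
    exact hQ.isPrime.mem_of_pow_mem m (hNQ this)
  exact hQ.ne_top (top_le_iff.1 (hDB ▸ sup_le hDQ hKQ))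

/-- A henselian finitely presented map, finite modulo `I`, is finite and finitely presented. -/
theorem exists_finite_model (I : Ideal A) [HenselianRing A I] {R : Type u} [CommRing R]
    [Algebra A R] [Algebra.FinitePresentation A R] [Module.Finite A (R ⧸ I.map (algebraMap A R))]
    {B : Type u} [CommRing B] [Algebra R B] [Algebra A B]
    [IsScalarTower A R B] (hB : Hens2.IsPairHenselization R (I.map (algebraMap A R)) B) :
    Module.Finite A B ∧ Algebra.FinitePresentation A B := by
  set I' := I.map (algebraMap A R)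
  obtain ⟨ε, hεI, -, hε⟩ := exists_finite_away_of_finite I R
  have hid : IsIdempotentElem ε := (hε 0).2
  let C := R ⧸ Ideal.span {1 - ε}
  let q : R →ₐ[A] C := Ideal.Quotient.mkₐ A _
  have hq : Function.Surjective q := Ideal.Quotient.mk_surjective
  have hqε : q ε = 1 := by
    have h1 : q (1 - ε) = 0 :=
      Ideal.Quotient.eq_zero_iff_mem.2 (Ideal.mem_span_singleton_self _)
    rw [map_sub, map_one, sub_eq_zero] at h1
    exact h1.symm
  have : Algebra.IsIntegral A C := ⟨fun z => by
    obtain ⟨x, rfl⟩ := hq z
    have := (hε x).1.map q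
    rwa [map_mul, hqε, one_mul] at this⟩
  have : Algebra.FinitePresentation A C :=
    Algebra.FinitePresentation.quotient ⟨{1 - ε}, by simp⟩
  have : Module.Finite A C := Algebra.IsIntegral.finite
  have hHC : HenselianRing C (I.map (algebraMap A C)) := Hens22.henselianRing_of_isIntegral I C
  have := hB.1
  have hεB : algebraMap R B ε = 1 := by
    have hu : IsUnit (algebraMap R B ε) := by
      refine Hens22.isUnit_of_map_isUnit (I := I'.map (algebraMap R B)) HenselianRing.jac ?_
      have := Ideal.mem_map_of_mem (algebraMap R B) hεI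
      rw [map_sub, map_one, ← Ideal.Quotient.eq, map_one] at this
      rw [this]; exact isUnit_one
    exact (IsIdempotentElem.iff_eq_one_of_isUnit hu).1 (hid.map _)
  let j : C →+* B := Ideal.Quotient.lift _ (algebraMap R B) (fun x hx => by
    obtain ⟨t, rfl⟩ := Ideal.mem_span_singleton'.1 hx
    rw [map_mul, map_sub, map_one, hεB, sub_self, mul_zero])
  obtain ⟨g, hg, -⟩ := hB.2 C (I.map (algebraMap A C)) q.toRingHom hHC (by
    rw [Ideal.map_map, show q.toRingHom.comp (algebraMap A R) = algebraMap A C from q.comp_algebraMap])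
  have hjg : j.comp g = RingHom.id B := by
    refine Hens22.pairHens_ringHom_ext hB (I'.map (algebraMap R B)) _ _ ?_ ?_
    · rw [RingHom.comp_assoc, hg, RingHom.id_comp]; rfl
    · rw [RingHom.comp_assoc, hg]; exact le_rfl
  have hgj : ∀ z, g (j z) = z := fun z => by
    obtain ⟨x, rfl⟩ := hq z
    exact RingHom.congr_fun hg x
  let e : C ≃ₐ[A] B := AlgEquiv.ofRingEquiv (f := RingEquiv.ofRingHom j g hjg (RingHom.ext hgj))
    fun a => (IsScalarTower.algebraMap_apply A R B a).symm
  exact ⟨Module.Finite.equiv e.toLinearEquiv, Algebra.FinitePresentation.equiv e⟩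

end Groth.Agent.Henz21
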