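import Mathlib.FieldTheory.Galois.Infinite
import Mathlib.FieldTheory.IsSepClosed
import Mathlib.FieldTheory.Normal.Basic
import Mathlib.RingTheory.Polynomial.GaussLemma
import Mathlib.RingTheory.Polynomial.ScaleRoots
import Mathlib.RingTheory.Polynomial.UniqueFactorization
import Mathlib.RingTheory.Localization.AtPrime.Basic
import Mathlib.RingTheory.Localization.Integral
import Mathlib.RingTheory.Henselian

/-! Fixed fields of groups stabilizing a maximal ideal give henselian rings. -/

set_option autoImplicit false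
set_option linter.style.haveILetI false

universe u

open Polynomial

namespace Groth.Agent.Henz21

variable {R K Ks : Type u} [CommRing R] [IsDomain R] [Field K] [Algebra R K] [IsFractionRing R K]
  [Field Ks] [Algebra K Ks] [Algebra R Ks] [IsScalarTower R K Ks]

/-- An element of `Ks` lies in the maximal ideal. -/
def InPs (Ps : Ideal (integralClosure R Ks)) (x : Ks) : Prop :=
  ∃ h : x ∈ integralClosure R Ks, (⟨x, h⟩ : integralClosure R Ks) ∈ Ps

omit [IsDomain R] [IsFractionRing R K] in
theorem inPs_iff_of_inPs_imp (Ps : Ideal (integralClosure R Ks)) [Ps.IsMaximal] (σ : Ks ≃ₐ[K] Ks)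
    (h : ∀ x, InPs Ps x → InPs Ps (σ x)) (x : Ks) : InPs Ps x ↔ InPs Ps (σ x) := by
  refine ⟨h x, fun ⟨hx', hx⟩ => ?_⟩
  have hint : ∀ y : Ks, y ∈ integralClosure R Ks → σ y ∈ integralClosure R Ks := fun y hy =>
    IsIntegral.map (σ.toAlgHom.restrictScalars R) hy
  let g : integralClosure R Ks →+* integralClosure R Ks :=
    (σ.toRingEquiv.toRingHom.comp (integralClosure R Ks).val.toRingHom).codRestrict _
      fun y => hint _ y.2
  have hle : Ps ≤ Ps.comap g := fun y hy => by
    obtain ⟨_, h'⟩ := h y.1 ⟨y.2, hy⟩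
    exact h'
  have he : Ps = Ps.comap g := ‹Ps.IsMaximal›.eq_of_le (Ideal.IsPrime.ne_top inferInstance) hle
  have hx0 : x ∈ integralClosure R Ks := by
    have := IsIntegral.map (σ.symm.toAlgHom.restrictScalars R) hx'
    simpa [mem_integralClosure_iff] using this
  exact ⟨hx0, by rw [he]; exact hx⟩

omit [IsDomain R] [IsFractionRing R K] in
/-- The subgroup generated by elements stabilizing the maximal ideal, and its closure, stabilize
it. -/
theorem inPs_of_mem_fixingSubgroup [IsGalois K Ks] (Ps : Ideal (integralClosure R Ks))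
    [Ps.IsMaximal] (S : Set (Ks ≃ₐ[K] Ks)) (hS : ∀ σ ∈ S, ∀ x, InPs Ps x → InPs Ps (σ x))
    (σ : Ks ≃ₐ[K] Ks) (hσ : σ ∈ (IntermediateField.fixedField (Subgroup.closure S)).fixingSubgroup)
    (x : Ks) : InPs Ps x ↔ InPs Ps (σ x) := by
  let D : Subgroup (Ks ≃ₐ[K] Ks) :=
    { carrier := {τ | ∀ y, InPs Ps y ↔ InPs Ps (τ y)}
      mul_mem' := fun {a b} ha hb y => (hb y).trans (ha (b y))
      one_mem' := fun _ => Iff.rfl
      inv_mem' := fun {a} ha y => by
        have := ha (a⁻¹ y)
        rw [show a (a⁻¹ y) = y from a.apply_symm_apply y] at this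
        exact this.symm }
  have hD : IsClosed (D : Set (Ks ≃ₐ[K] Ks)) := by
    have : (D : Set (Ks ≃ₐ[K] Ks)) = ⋂ y, {τ | InPs Ps y ↔ InPs Ps (τ y)} := by
      ext τ; rw [Set.mem_iInter]; exact Iff.rfl
    rw [this]
    refine isClosed_iInter fun y => isOpen_compl_iff.mp (isOpen_iff_forall_mem_open.mpr fun τ hτ => ?_)
    haveI : FiniteDimensional K (IntermediateField.adjoin K {y}) :=
      IntermediateField.adjoin.finiteDimensional (Algebra.IsIntegral.isIntegral y)
    refine ⟨(fun g => τ * g) '' (IntermediateField.adjoin K {y}).fixingSubgroup, ?_,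
      isOpenMap_mul_left τ _ (IntermediateField.fixingSubgroup_isOpen _), ⟨1, one_mem _, mul_one τ⟩⟩
    rintro _ ⟨g, hg, rfl⟩
    have hgy : g y = y := (IntermediateField.mem_fixingSubgroup_iff _ g).mp hg y
      (IntermediateField.mem_adjoin_simple_self K y)
    simpa [hgy] using hτ
  have hle : Subgroup.closure S ≤ D := (Subgroup.closure_le _).mpr fun τ hτ =>
    inPs_iff_of_inPs_imp Ps τ (hS τ hτ)
  have h1 : (IntermediateField.fixedField (Subgroup.closure S)).fixingSubgroup ≤
      (IntermediateField.fixedField D).fixingSubgroup :=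
    IntermediateField.fixingSubgroup_antitone (IntermediateField.fixedField_antitone hle)
  have h2 := h1 hσ
  rw [InfiniteGalois.fixingSubgroup_fixedField ⟨D, hD⟩] at h2
  exact h2 x

variable (L : IntermediateField K Ks) (Ps : Ideal (integralClosure R Ks))
  (Q : Ideal (integralClosure R L)) [Q.IsPrime]
  (hQ : ∀ y : integralClosure R L, y ∈ Q ↔
      ∃ x : integralClosure R Ks, x ∈ Ps ∧ (x : Ks) = ((y : L) : Ks))

include hQ in
/-- Hensel's lemma in the integral closure of the fixed field. -/
theorem exists_root_fixedField [IsSepClosed Ks] [IsGalois K Ks] [Ps.IsPrime]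
    (hgal : ∀ σ : Ks ≃ₐ[K] Ks, σ ∈ L.fixingSubgroup → ∀ x, InPs Ps x → InPs Ps (σ x))
    (h : (integralClosure R L)[X]) (hm : h.Monic) (b : integralClosure R L) (hb : h.eval b ∈ Q)
    (hb' : h.derivative.eval b ∉ Q) : ∃ c, h.eval c = 0 ∧ c - b ∈ Q := by
  classical
  let C := integralClosure R L
  let W := integralClosure R Ks
  haveI : IsScalarTower R L Ks := IsScalarTower.of_algebraMap_eq fun x => by
    rw [IsScalarTower.algebraMap_apply R K Ks, IsScalarTower.algebraMap_apply R K L,
      ← IsScalarTower.algebraMap_apply K L Ks]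
  haveI : IsScalarTower R C Ks := IsScalarTower.of_algebraMap_eq fun x =>
    IsScalarTower.algebraMap_apply R L Ks x
  haveI : IsFractionRing C L := by
    haveI : Algebra.IsAlgebraic R L :=
      (IsFractionRing.comap_isAlgebraic_iff (A := R) (K := K)).mpr inferInstance
    refine integralClosure.isFractionRing_of_algebraic fun x hx => ?_
    rw [IsScalarTower.algebraMap_apply R K L, map_eq_zero] at hx
    exact IsFractionRing.to_map_eq_zero_iff.mp hx
  haveI : IsIntegrallyClosed C := (isIntegrallyClosed_iff L).mpr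
    fun {x} hx => ⟨⟨x, isIntegral_trans x hx⟩, rfl⟩
  -- an irreducible factor vanishing at `b`
  obtain ⟨g, r, hgr, hgm, hgi, hgb⟩ : ∃ g r : C[X], h = g * r ∧ g.Monic ∧
      Irreducible (g.map (algebraMap C L)) ∧ g.eval b ∈ Q := by
    induction hd : h.natDegree using Nat.strong_induction_on generalizing h with
    | _ d ih =>
      have hd0 : 0 < (h.map (algebraMap C L)).natDegree := by
        rw [hm.natDegree_map]
        by_contra h0
        rw [hm.natDegree_eq_zero.mp (by omega), eval_one] at hb
        exact Ideal.IsPrime.ne_top inferInstance ((Ideal.eq_top_iff_one _).mpr hb)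
      obtain ⟨p, hp, hpdvd⟩ :=
        Polynomial.exists_irreducible_of_natDegree_pos hd0
      obtain ⟨g, hg⟩ := IsIntegrallyClosed.eq_map_mul_C_of_dvd L hm hpdvd
      have hu : IsUnit (Polynomial.C p.leadingCoeff) :=
        isUnit_C.mpr (leadingCoeff_ne_zero.mpr hp.ne_zero).isUnit
      have hgi : Irreducible (g.map (algebraMap C L)) :=
        (irreducible_mul_isUnit hu).mp (by rw [hg]; exact hp)
      have hgm : g.Monic := monic_of_injective (IsFractionRing.injective C L) (by
        have := congrArg leadingCoeff hg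
        rw [leadingCoeff_mul, leadingCoeff_C] at this
        exact mul_eq_right₀ (leadingCoeff_ne_zero.mpr hp.ne_zero) |>.mp this)
      obtain ⟨r, hr⟩ : g ∣ h := (Polynomial.map_dvd_map (algebraMap C L)
        (IsFractionRing.injective C L) hgm).mp (dvd_trans (Dvd.intro _ hg) hpdvd)
      have hrm : r.Monic := hgm.of_mul_monic_left (hr ▸ hm)
      rw [hr, eval_mul] at hb
      rcases ‹Q.IsPrime›.mem_or_mem hb with h1 | h1
      · exact ⟨g, r, hr, hgm, hgi, h1⟩
      · have hgd : 0 < g.natDegree := by
          rw [← hgm.natDegree_map (algebraMap C L)]; exact hgi.natDegree_pos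
        have hlt : r.natDegree < d := by
          rw [← hd, hr, hgm.natDegree_mul hrm]; omega
        obtain ⟨g', r', e, e1, e2, e3⟩ := ih _ hlt r hrm h1 (fun h2 => hb' (by
          rw [hr, derivative_mul, eval_add, eval_mul, eval_mul]
          exact Q.add_mem (Q.mul_mem_left _ h1) (Q.mul_mem_left _ h2))) rfl
        exact ⟨g', g * r', by rw [hr, e]; ring, e1, e2, e3⟩
  subst hgr
  have hgb' : g.derivative.eval b ∉ Q := fun h1 => hb' (by
    rw [derivative_mul, eval_add, eval_mul, eval_mul]
    exact Q.add_mem (Q.mul_mem_right _ h1) (Q.mul_mem_right _ hgb))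
  suffices hdeg : g.natDegree = 1 by
    refine ⟨- g.coeff 0, ?_, ?_⟩
    · rw [eval_mul, hgm.eq_X_add_C hdeg]; simp
    · rw [hgm.eq_X_add_C hdeg, eval_add, eval_X, eval_C] at hgb
      rw [show - g.coeff 0 - b = -(b + g.coeff 0) by ring]
      exact Q.neg_mem hgb
  -- roots
  let gL := g.map (algebraMap C L)
  have hsep : gL.Separable := (separable_iff_derivative_ne_zero hgi).mpr (by
    rw [derivative_map, Ne, Polynomial.map_eq_zero_iff (IsFractionRing.injective C L)]
    intro h0
    exact hgb' (by rw [h0, eval_zero]; exact Q.zero_mem))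
  let ιC : C →+* W := (((algebraMap L Ks).comp C.val.toRingHom)).codRestrict _
    fun y => IsIntegral.map (IsScalarTower.toAlgHom R L Ks) y.2
  have hQ' : ∀ y : C, y ∈ Q ↔ ιC y ∈ Ps := fun y => by
    rw [hQ]
    exact ⟨fun ⟨x, hx, he⟩ => (show x = ιC y from Subtype.ext he) ▸ hx, fun hy => ⟨ιC y, hy, rfl⟩⟩
  have hsplit : (gL.map (algebraMap L Ks)).Splits := IsSepClosed.splits_codomain _ hsep
  set rs := (gL.map (algebraMap L Ks)).roots
  have hprod : gL.map (algebraMap L Ks) = (rs.map fun a => X - Polynomial.C a).prod := by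
    have := hsplit.eq_prod_roots
    rwa [((hgm.map (algebraMap C L)).map (algebraMap L Ks)).leadingCoeff, map_one, one_mul] at this
  have hroot : ∀ a ∈ rs, aeval a gL = 0 := fun a ha => by
    rw [mem_roots', IsRoot.def, eval_map] at ha
    exact ha.2
  have hmem : ∀ a ∈ rs, a ∈ W := fun a ha => by
    refine isIntegral_trans (R := R) (A := C) a ⟨g, hgm, ?_⟩
    rw [← aeval_def, ← aeval_map_algebraMap L a g]
    exact hroot a ha
  let rsW : Multiset W := rs.attach.map fun a => ⟨a.1, hmem a.1 a.2⟩
  have hrsW : rsW.map W.val = rs := by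
    rw [Multiset.map_map]; exact Multiset.attach_map_val rs
  have hgW : g.map ιC = (rsW.map fun a => X - Polynomial.C a).prod := by
    apply Polynomial.map_injective W.val.toRingHom Subtype.val_injective
    rw [Polynomial.map_map, show W.val.toRingHom.comp ιC =
      (algebraMap L Ks).comp (algebraMap C L) from RingHom.ext fun _ => rfl, ← Polynomial.map_map,
      hprod, Polynomial.map_multiset_prod, Multiset.map_map, ← hrsW, Multiset.map_map]
    congr 1
    refine Multiset.map_congr rfl fun a _ => ?_
    simp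
  have hev : ιC (g.eval b) = (rsW.map fun a => ιC b - a).prod := by
    rw [← eval_map_apply, hgW, eval_multiset_prod, Multiset.map_map]
    simp
  -- one root is congruent to `b`, so all are
  obtain ⟨a₀, ha₀, hab⟩ : ∃ a₀ ∈ rsW, ιC b - a₀ ∈ Ps := by
    have h1 := (hQ' _).mp hgb
    rw [hev] at h1
    obtain ⟨c, hc, hcP⟩ := (‹Ps.IsPrime›.multiset_prod_mem_iff_exists_mem _).mp h1
    obtain ⟨a, ha, rfl⟩ := Multiset.mem_map.mp hc
    exact ⟨a, ha, hcP⟩
  haveI : Normal L Ks := inferInstance
  have hall : ∀ a ∈ rsW, ιC b - a ∈ Ps := by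
    intro a ha
    have hr : ∀ a ∈ rsW, (a : Ks) ∈ rs := fun a ha => hrsW ▸ Multiset.mem_map_of_mem W.val ha
    have hmin : minpoly L (a₀ : Ks) = gL :=
      (minpoly.eq_of_irreducible_of_monic hgi (hroot _ (hr a₀ ha₀)) (hgm.map _)).symm
    obtain ⟨σ, hσ⟩ := minpoly.exists_algEquiv_of_root' (K := L) (x := (a : Ks)) (y := (a₀ : Ks))
      (Algebra.IsAlgebraic.isAlgebraic _) (by rw [hmin]; exact hroot _ (hr a ha))
    have hmin' : minpoly L (a : Ks) = gL :=
      (minpoly.eq_of_irreducible_of_monic hgi (hroot _ (hr a ha)) (hgm.map _)).symm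
    have hfix : (σ.restrictScalars K) ∈ L.fixingSubgroup := by
      rw [IntermediateField.mem_fixingSubgroup_iff]
      exact fun y hy => σ.commutes ⟨y, hy⟩
    obtain ⟨h', hP⟩ := hgal _ hfix ((ιC b - a₀ : W) : Ks) ⟨Subtype.coe_prop _, hab⟩
    convert hP using 1
    apply Subtype.ext
    show ((ιC b : Ks) - (a : Ks)) = σ ((ιC b : Ks) - (a₀ : Ks))
    rw [map_sub, hσ, show σ (ιC b : Ks) = (ιC b : Ks) from σ.commutes (b : L)]
  -- a double root is impossible
  have hcard : rsW.card = g.natDegree := by
    have := congrArg natDegree hgW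
    rwa [natDegree_multiset_prod_X_sub_C_eq_card, hgm.natDegree_map, eq_comm] at this
  by_contra hne
  refine hgb' ((hQ' _).mpr ?_)
  rw [← eval_map_apply, ← derivative_map, hgW, derivative_prod, ← coe_evalRingHom, map_multiset_sum]
  refine multiset_sum_mem _ fun c hc => ?_
  simp only [Multiset.map_map, Multiset.mem_map, Function.comp_apply] at hc
  obtain ⟨a, ha, rfl⟩ := hc
  simp only [derivative_sub, derivative_X, derivative_C, sub_zero, mul_one, coe_evalRingHom, eval_multiset_prod,
    Multiset.map_map, Function.comp_apply, eval_sub, eval_X, eval_C]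
  obtain ⟨a', ha'⟩ : ∃ a', a' ∈ rsW.erase a := by
    refine Multiset.card_pos_iff_exists_mem.mp ?_
    rw [Multiset.card_erase_of_mem ha, hcard, Nat.pred_eq_sub_one]
    have : 0 < g.natDegree := by
      rw [← hgm.natDegree_map (algebraMap C L)]; exact hgi.natDegree_pos
    omega
  exact (‹Ps.IsPrime›.multiset_prod_mem_iff_exists_mem _).mpr
    ⟨ιC b - a', Multiset.mem_map.mpr ⟨a', ha', by simp⟩, hall a' (Multiset.mem_of_mem_erase ha')⟩

set_option maxHeartbeats 1000000 in
include hQ in
/-- The localization at `Q` is henselian. -/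
theorem henselianLocalRing_fixedField [IsSepClosed Ks] [IsGalois K Ks] [Ps.IsPrime]
    (hgal : ∀ σ : Ks ≃ₐ[K] Ks, σ ∈ L.fixingSubgroup → ∀ x, InPs Ps x → InPs Ps (σ x)) :
    HenselianLocalRing (Localization.AtPrime Q) where
  is_henselian := by
    classical
    intro f hf a ha ha'
    let O := Localization.AtPrime Q
    obtain ⟨⟨s, hs⟩, hsmul⟩ :=
      IsLocalization.exist_integer_multiples_of_finset Q.primeCompl (insert a f.coeffs)
    have hsu : IsUnit (algebraMap _ O s) := IsLocalization.map_units O (⟨s, hs⟩ : Q.primeCompl)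
    obtain ⟨b, hb⟩ := hsmul a (Finset.mem_insert_self _ _)
    have hb : algebraMap _ O b = algebraMap _ O s * a := hb.trans (Algebra.smul_def s a)
    obtain ⟨h, hh, -, hhm⟩ := lifts_and_natDegree_eq_and_monic
      (f := algebraMap (integralClosure R L) O) (p := scaleRoots f (algebraMap _ O s)) (by
        rw [lifts_iff_coeff_lifts]
        intro n
        rw [coeff_scaleRoots]
        rcases lt_trichotomy n f.natDegree with hn | hn | hn
        · by_cases h0 : f.coeff n = 0
          · exact ⟨0, by simp [h0]⟩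
          · obtain ⟨c, hc⟩ := hsmul _ (Finset.mem_insert_of_mem (coeff_mem_coeffs h0))
            refine ⟨c * s ^ (f.natDegree - n - 1), ?_⟩
            rw [map_mul, map_pow, hc.trans (Algebra.smul_def s (f.coeff n))]
            rw [mul_comm (algebraMap _ O s) (f.coeff n), mul_assoc, ← pow_succ']
            congr 2
            omega
        · exact ⟨1, by simp [hn, hf.coeff_natDegree]⟩
        · exact ⟨0, by simp [coeff_eq_zero_of_natDegree_lt hn]⟩) (monic_scaleRoots_iff _ |>.mpr hf)
    have heval : ∀ x : O, (scaleRoots f (algebraMap _ O s)).eval (algebraMap _ O s * x) =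
        algebraMap _ O s ^ f.natDegree * f.eval x := fun x => by
      exact scaleRoots_eval₂_mul (p := f) (RingHom.id O) x (algebraMap _ O s)
    have hcomp : (scaleRoots f (algebraMap _ O s)).comp (Polynomial.C (algebraMap _ O s) * X) =
        Polynomial.C (algebraMap _ O s ^ f.natDegree) * f := by
      have := scaleRoots_eval₂_mul (p := f) (Polynomial.C (R := O)) X (algebraMap _ O s)
      rw [eval₂_C_X, ← map_pow] at this
      exact this
    have hb0 : h.eval b ∈ Q := by
      rw [← IsLocalization.AtPrime.to_map_mem_maximal_iff O Q, ← eval_map_apply, hh, hb, heval]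
      exact Ideal.mul_mem_left _ _ ha
    have hb1 : h.derivative.eval b ∉ Q := by
      have h1 := congrArg (fun p => p.eval a) (congrArg derivative hcomp)
      simp only [derivative_comp, derivative_C_mul, derivative_X, eval_mul, eval_C, eval_comp,
        eval_X, mul_one] at h1
      have hu : IsUnit (algebraMap _ O s ^ f.natDegree * f.derivative.eval a) :=
        (hsu.pow _).mul ha'
      rw [← h1, ← hb, ← hh, derivative_map, eval_map_apply] at hu
      exact fun h2 => IsLocalRing.notMem_maximalIdeal.mpr (isUnit_of_mul_isUnit_right hu)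
        ((IsLocalization.AtPrime.to_map_mem_maximal_iff O Q _).mpr h2)
    obtain ⟨c, hc, hcb⟩ := exists_root_fixedField L Ps Q hQ hgal h hhm b hb0 hb1
    let r : O := ↑hsu.unit⁻¹ * algebraMap _ O c
    have hr : algebraMap _ O s * r = algebraMap _ O c := by
      simp [r, ← mul_assoc, hsu.mul_val_inv]
    refine ⟨r, ?_, ?_⟩
    · rw [IsRoot.def, ← (hsu.pow f.natDegree).mul_right_eq_zero, ← heval, hr, ← hh, eval_map_apply,
        hc, map_zero]
    · have : r - a = ↑hsu.unit⁻¹ * algebraMap _ O (c - b) := by
        rw [map_sub, mul_sub, hb, ← mul_assoc, IsUnit.val_inv_mul, one_mul]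
      rw [this]
      exact Ideal.mul_mem_left _ _
        ((IsLocalization.AtPrime.to_map_mem_maximal_iff O Q _).mpr hcb)

end Groth.Agent.Henz21
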