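import Groth.Agent.Henz21.AwayPair
import Groth.Agent.FlatCrit65.FlatLocus.Module
import Mathlib.RingTheory.Flat.Localization

/-! Flatness near the closed subset of an ideal. -/

set_option autoImplicit false
set_option linter.style.haveILetI false

universe u

namespace Groth.Agent.Henz21

theorem exists_flat_away {A R : Type u} [CommRing A] [CommRing R] [Algebra A R]
    [Algebra.FinitePresentation A R] (J : Ideal R)
    (h : ∀ (p : Ideal R) [p.IsPrime], J ≤ p → Module.Flat A (Localization.AtPrime p)) :
    ∃ g : R, g - 1 ∈ J ∧ Module.Flat A (Localization.Away g) := by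
  haveI : Module.FinitePresentation R R := inferInstance
  have hloc : ∀ q : PrimeSpectrum R, Module.Flat A (LocalizedModule q.asIdeal.primeCompl R) ↔
      Module.Flat A (Localization.AtPrime q.asIdeal) := fun q => by
    let e := IsLocalizedModule.linearEquiv q.asIdeal.primeCompl
      (LocalizedModule.mkLinearMap q.asIdeal.primeCompl R)
      (Algebra.linearMap R (Localization.AtPrime q.asIdeal))
    exact ⟨fun _ => Module.Flat.of_linearEquiv (e.symm.restrictScalars A),
      fun _ => Module.Flat.of_linearEquiv (e.restrictScalars A)⟩
  obtain ⟨g, hg, hW⟩ := exists_basicOpen_subset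
    (FlatCrit65.isOpen_flat_locus_module (R := A) (S := R) (M := R))
    (fun q hq => (hloc q).mpr (h q.asIdeal hq))
  refine ⟨g, hg, Module.flat_of_isLocalized_maximal (R := A) (S := Localization.Away g)
    (M := Localization.Away g) (fun P _ => Localization.AtPrime P)
    (fun P _ => Algebra.linearMap _ _) fun P _ => ?_⟩
  let q := P.comap (algebraMap R (Localization.Away g))
  haveI : IsLocalization.AtPrime (Localization.AtPrime P) q :=
    IsLocalization.isLocalization_isLocalization_atPrime_isLocalization (.powers g) _ P
  have hgq : g ∉ q := fun hgq =>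
    ‹P.IsMaximal›.ne_top (P.eq_top_of_isUnit_mem hgq (IsLocalization.Away.algebraMap_isUnit g))
  haveI := (hloc ⟨q, inferInstance⟩).mp (hW hgq)
  exact Module.Flat.of_linearEquiv
    ((IsLocalization.algEquiv q.primeCompl (Localization.AtPrime q)
      (Localization.AtPrime P)).restrictScalars A).symm.toLinearEquiv

end Groth.Agent.Henz21
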