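import Groth.Agent.Ind91.Criterion
import Mathlib.RingTheory.AdicCompletion.Algebra

/-! Approximation for limit preserving functors from approximation for polynomial systems. -/

set_option autoImplicit false
set_option linter.style.haveILetI false

universe u

open CategoryTheory CategoryTheory.Limits

namespace Groth.Agent.Henz21

/-- Approximation of points of finitely presented algebras gives approximation of functors. -/
theorem approx_functor (A : Type u) [CommRing A] (B C : Type u) [CommRing B] [CommRing C]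
    [Algebra A B] [Algebra A C]
    (π : Under.mk (CommRingCat.ofHom (algebraMap A B)) ⟶ Under.mk (CommRingCat.ofHom (algebraMap A C)))
    (ρ : Under.mk (𝟙 (CommRingCat.of A)) ⟶ Under.mk (CommRingCat.ofHom (algebraMap A C)))
    (happ : ∀ (n : ℕ) (I : Ideal (MvPolynomial (Fin n) A)), I.FG →
      ∀ v : (MvPolynomial (Fin n) A ⧸ I) →ₐ[A] B,
      ∃ a : (MvPolynomial (Fin n) A ⧸ I) →ₐ[A] A,
        ∀ x, ρ.right (a x) = π.right (v x))
    (F : Under (CommRingCat.of A) ⥤ Type u)
    (hF : ∀ (J : Type u) [SmallCategory J] [IsFiltered J], PreservesColimitsOfShape J F)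
    (ξ : F.obj (Under.mk (CommRingCat.ofHom (algebraMap A B)))) :
    ∃ η : F.obj (Under.mk (𝟙 (CommRingCat.of A))), F.map ρ η = F.map π ξ := by
  let P : ∀ (W : Type u) [CommRing W] [Algebra A W], Prop :=
    fun W _ _ => Algebra.FinitePresentation A W
  have hB : Ind91.Factors A P B := fun D _ _ hD g => ⟨D, _, _, hD, AlgHom.id A D, g, AlgHom.comp_id g⟩
  obtain ⟨J, _, _, D, c, hc, hP, ⟨e⟩⟩ := Ind91.Factors.isInd (fun W _ _ h => h)
    (fun W W' _ _ _ _ f h => by
      haveI : Algebra.FinitePresentation A W := h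
      exact Algebra.FinitePresentation.equiv f) hB
  haveI := hF J
  obtain ⟨j, y, hy⟩ := Types.jointly_surjective_of_isColimit (isColimitOfPreserves F hc)
    (F.map e.inv ξ)
  letI := (D.obj j).hom.hom.toAlgebra
  obtain ⟨n, f, hf, hker⟩ := (hP j : Algebra.FinitePresentation A (D.obj j).right).out
  let ε : (MvPolynomial (Fin n) A ⧸ RingHom.ker f) ≃ₐ[A] (D.obj j).right :=
    Ideal.quotientKerAlgEquivOfSurjective hf
  let v : D.obj j ⟶ Under.mk (CommRingCat.ofHom (algebraMap A B)) := c.ι.app j ≫ e.hom
  let v' : (D.obj j).right →ₐ[A] B :=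
    { v.right.hom with commutes' := fun a => congr($(Under.w v) a) }
  obtain ⟨a, ha⟩ := happ n (RingHom.ker f) hker (v'.comp ε.toAlgHom)
  let a' : D.obj j ⟶ Under.mk (𝟙 (CommRingCat.of A)) :=
    Under.homMk (CommRingCat.ofHom (a.comp ε.symm.toAlgHom).toRingHom) (by
      ext r; exact (a.comp ε.symm.toAlgHom).commutes r)
  have h : a' ≫ ρ = v ≫ π := by
    apply Under.UnderMorphism.ext
    ext z
    show ρ.right (a (ε.symm z)) = π.right (v' z)
    rw [ha]
    show π.right (v' (ε (ε.symm z))) = _
    rw [AlgEquiv.apply_symm_apply]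
  refine ⟨F.map a' y, ?_⟩
  rw [← FunctorToTypes.map_comp_apply, h, FunctorToTypes.map_comp_apply, FunctorToTypes.map_comp_apply]
  congr 1
  rw [show F.map (c.ι.app j) y = F.map e.inv ξ from hy, ← FunctorToTypes.map_comp_apply,
    e.inv_hom_id, FunctorToTypes.map_id_apply]

end Groth.Agent.Henz21
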