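import Groth.Agent.Henz21.FunctorApprox
import Groth.Agent.CAlg1.Pop.Field
import Groth.Agent.CAlg1.Pop.Artin
import Groth.Agent.CAlg1.Andre.GRingCompletion

/-! Artin approximation for limit preserving functors. -/

set_option autoImplicit false

universe u

open CategoryTheory CategoryTheory.Limits

namespace Groth.Agent.Henz21

/-- Over a henselian pair with regular completion map every point of a limit preserving functor
over the completion is congruent to a point over the ring. -/
theorem approx_functor_completion (A : Type u) [CommRing A] [IsNoetherianRing A] (I : Ideal A)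
    [HenselianRing A I] (hreg : CAlg.IsRegularHom A (AdicCompletion I A)) (N : ℕ)
    (F : Under (CommRingCat.of A) ⥤ Type u)
    (hF : ∀ (J : Type u) [SmallCategory J] [IsFiltered J], PreservesColimitsOfShape J F)
    (π : Under.mk (CommRingCat.ofHom (algebraMap A (AdicCompletion I A))) ⟶
      Under.mk (CommRingCat.ofHom (algebraMap A (A ⧸ I ^ N))))
    (hπ : π.right = CommRingCat.ofHom
      (AdicCompletion.evalₐ I N : AdicCompletion I A →ₐ[A] A ⧸ I ^ N).toRingHom)
    (ρ : Under.mk (𝟙 (CommRingCat.of A)) ⟶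
      Under.mk (CommRingCat.ofHom (algebraMap A (A ⧸ I ^ N))))
    (ξ : F.obj (Under.mk (CommRingCat.ofHom (algebraMap A (AdicCompletion I A))))) :
    ∃ η : F.obj (Under.mk (𝟙 (CommRingCat.of A))), F.map ρ η = F.map π ξ := by
  have := CAlg1.isNoetherianRing_adicCompletion I (IsNoetherian.noetherian I)
  refine approx_functor A (AdicCompletion I A) (A ⧸ I ^ N) π ρ (fun n J hJ v => ?_) F hF ξ
  classical
  obtain ⟨m, G, hG⟩ := Submodule.fg_iff_exists_fin_generating_family.1 hJ
  let a : Fin n → AdicCompletion I A := fun i => v (Ideal.Quotient.mk J (MvPolynomial.X i))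
  have hv : (v.comp (Ideal.Quotient.mkₐ A J)) = MvPolynomial.aeval a :=
    MvPolynomial.algHom_ext fun i => by simp [a]
  have ha : ∀ j, MvPolynomial.eval a (MvPolynomial.map (algebraMap A (AdicCompletion I A)) (G j)) = 0 := by
    intro j
    rw [MvPolynomial.eval_map, ← MvPolynomial.aeval_def, ← hv, AlgHom.comp_apply,
      Ideal.Quotient.mkₐ_eq_mk, Ideal.Quotient.eq_zero_iff_mem.2 (hG ▸ Submodule.subset_span ⟨j, rfl⟩),
      map_zero]
  obtain ⟨b, hb, hab⟩ :=
    CAlg1.Pop.approximation_of_indSmooth A I (CAlg1.Pop.popescu A _ hreg) G a ha N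
  let w : (MvPolynomial (Fin n) A ⧸ J) →ₐ[A] A :=
    Ideal.Quotient.liftₐ J (MvPolynomial.aeval b) fun x hx => by
      have : J ≤ RingHom.ker (MvPolynomial.aeval (R := A) b) := by
        rw [← hG]
        refine Submodule.span_le.2 ?_
        rintro _ ⟨j, rfl⟩
        exact (RingHom.mem_ker).2 ((MvPolynomial.aeval_eq_eval b).symm ▸ hb j)
      exact this hx
  refine ⟨w, fun x => ?_⟩
  have hρ : ∀ r : A, ρ.right r = algebraMap A (A ⧸ I ^ N) r := fun r => congr($(Under.w ρ) r)
  obtain ⟨p, rfl⟩ := Ideal.Quotient.mk_surjective x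
  have h1 : (Algebra.ofId A (A ⧸ I ^ N)).comp (w.comp (Ideal.Quotient.mkₐ A J)) =
      (AdicCompletion.evalₐ I N).comp (v.comp (Ideal.Quotient.mkₐ A J)) := by
    refine MvPolynomial.algHom_ext fun i => ?_
    rw [AlgHom.comp_apply, AlgHom.comp_apply, AlgHom.comp_apply, AlgHom.comp_apply,
      Ideal.Quotient.mkₐ_eq_mk,
      show w (Ideal.Quotient.mk J (MvPolynomial.X i)) = b i from MvPolynomial.aeval_X b i,
      Algebra.ofId_apply]
    have h2 : AdicCompletion.evalₐ I N (a i - algebraMap A _ (b i)) = 0 := by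
      rw [CAlg5.evalₐ_eq_zero_iff I (IsNoetherian.noetherian I), ← Ideal.map_pow]
      exact hab i
    rw [map_sub, AlgHom.commutes, sub_eq_zero] at h2
    exact h2.symm
  rw [hρ, hπ]
  exact DFunLike.congr_fun h1 p

end Groth.Agent.Henz21
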