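import Groth.Agent.EGA4H10.OpenFormal
import Groth.Agent.CAlg5.RegularHom
import Groth.Agent.CAlg1.GRingBasic
import Mathlib

/-! A local G-ring is J-2. -/

set_option autoImplicit false
universe u

open IsLocalRing TensorProduct

namespace Groth.Agent.Henz21

set_option maxHeartbeats 800000 in
theorem isJ2_of_isRegularHom_cpl (A : Type u) [CommRing A] [IsNoetherianRing A] [IsLocalRing A]
    (hA : CAlg.IsRegularHom A (EGA4.Cpl A)) : EGA4.IsJ2 A := by
  intro S _ _ hS
  let Ah := EGA4.Cpl A
  have : IsNoetherianRing Ah := Cohen12.isNoetherianRing_completion (A := A)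
  have : IsAdicComplete (maximalIdeal Ah) Ah := Cohen12.isAdicComplete_completion (A := A)
  have := EGA4H10.faithfullyFlat_cpl A
  have : IsNoetherianRing S := Algebra.FiniteType.isNoetherianRing A S
  let B := S ⊗[A] Ah
  have hB : CAlg.IsRegularHom S B := CAlg5.isRegularHom_baseChange A Ah S hA
  let _ : Algebra Ah B := Algebra.TensorProduct.rightAlgebra
  let e : Ah ⊗[A] S ≃ₐ[Ah] B := AlgEquiv.ofRingEquiv (f := (Algebra.TensorProduct.comm A Ah S).toRingEquiv)
    fun x => by
      show Algebra.TensorProduct.comm A Ah S (x ⊗ₜ 1) = 1 ⊗ₜ x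
      exact Algebra.TensorProduct.comm_tmul _ _ _
  have hBft : Algebra.FiniteType Ah B := Algebra.FiniteType.equiv inferInstance e
  have : IsNoetherianRing B := Algebra.FiniteType.isNoetherianRing Ah B
  have : Module.FaithfullyFlat S B := inferInstance
  refine EGA4H10.isOpen_of_preimage (B := B) _ ?_
  rw [EGA4H10.preimage_regLocus fun p _ => ?_]
  · exact EGA4H10.isJ2_of_complete Ah B hBft
  · exact CAlg5.isRegularRing_of_isGeometricallyRegular (hB.2 p).2

theorem isJ2_of_isGRing (A : Type u) [CommRing A] [IsLocalRing A] (h : CAlg.IsGRing A) : EGA4.IsJ2 A := by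
  have := h.1
  exact isJ2_of_isRegularHom_cpl A (CAlg1.GR.regular_of_isGRing_local h)

end Groth.Agent.Henz21
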