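import Groth.Agent.Hensel20.Stages
import Groth.Agent.Unr55.EtAscent
import Mathlib.RingTheory.Localization.BaseChange
import Mathlib.RingTheory.Flat.Basic

/-! Geometric reducedness and henselization. -/

set_option autoImplicit false
set_option linter.style.haveILetI false

universe u

open IsLocalRing TensorProduct

namespace Groth.Agent.Henz21

variable {k A K' : Type u} [Field k] [CommRing A] [IsLocalRing A] [Algebra k A] [Field K']
  [Algebra A K'] [IsLocalHom (algebraMap A K')]

theorem isReduced_tensor_H (K : Type u) [Field K] [Algebra k K] [IsReduced (A ⊗[k] K)]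
    [Algebra k (H A K')] [IsScalarTower k A (H A K')] : IsReduced (H A K' ⊗[k] K) := by
  classical
  refine ⟨fun x hx => ?_⟩
  obtain ⟨s, hs⟩ := TensorProduct.exists_finset x
  obtain ⟨i, hi⟩ := Hensel20.exists_stage (R := A) (K := K') s fun p => p.1
  letI : Algebra k i.S := ((algebraMap A i.S).comp (algebraMap k A)).toAlgebra
  haveI : IsScalarTower k A i.S := IsScalarTower.of_algebraMap_eq' rfl
  haveI : IsReduced (i.S ⊗[k] K) := by
    haveI : IsReduced ((A ⊗[k] K) ⊗[A] i.S) := Unr55.isReduced_of_etale (A := A ⊗[k] K)
    exact isReduced_of_injective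
      ((Algebra.TensorProduct.comm A i.S (A ⊗[k] K)).toAlgHom.toRingHom.comp
        (Algebra.TensorProduct.cancelBaseChange k A A i.S K).symm.toAlgHom.toRingHom)
      ((Algebra.TensorProduct.comm A i.S (A ⊗[k] K)).injective.comp
        (Algebra.TensorProduct.cancelBaseChange k A A i.S K).symm.injective)
  let L := Hensel20.Stage i
  haveI : IsScalarTower k i.S L := inferInstance
  haveI : IsReduced (L ⊗[k] K) := by
    haveI : IsReduced ((i.S ⊗[k] K) ⊗[i.S] L) :=
      isReduced_localizationPreserves
        (Algebra.algebraMapSubmonoid (i.S ⊗[k] K) (Hensel20.stagePrime i).primeCompl)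
        ((i.S ⊗[k] K) ⊗[i.S] L) inferInstance
    exact isReduced_of_injective
      ((Algebra.TensorProduct.comm i.S L (i.S ⊗[k] K)).toAlgHom.toRingHom.comp
        (Algebra.TensorProduct.cancelBaseChange k i.S i.S L K).symm.toAlgHom.toRingHom)
      ((Algebra.TensorProduct.comm i.S L (i.S ⊗[k] K)).injective.comp
        (Algebra.TensorProduct.cancelBaseChange k i.S i.S L K).symm.injective)
  let σ : L →ₐ[k] H A K' := { (Hensel20.stageHom i).toRingHom with
    commutes' := fun r => by
      show Hensel20.stageHom i (algebraMap k L r) = _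
      rw [IsScalarTower.algebraMap_apply k i.S L, IsScalarTower.algebraMap_apply k A i.S,
        ← IsScalarTower.algebraMap_apply A i.S L, AlgHom.commutes, ← IsScalarTower.algebraMap_apply] }
  let ι : L ⊗[k] K →ₐ[k] H A K' ⊗[k] K := Algebra.TensorProduct.map σ (.id _ _)
  have hι : Function.Injective ι :=
    Module.Flat.rTensor_preserves_injective_linearMap (M := K) σ.toLinearMap
      (Hensel20.stageHom_injective i)
  obtain ⟨y, rfl⟩ : x ∈ Set.range ι := by
    rw [hs]
    refine ι.range.sum_mem fun p hp => ?_
    obtain ⟨z, hz⟩ := hi p hp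
    exact ⟨z ⊗ₜ p.2, by rw [← hz]; rfl⟩
  rw [((IsNilpotent.map_iff hι).mp hx).eq_zero, map_zero]

theorem isReduced_tensor_iff {R : Type u} [CommRing R] [Algebra A R] [Algebra k R]
    [IsScalarTower k A R] (e : H A K' ≃ₐ[A] R) (K : Type u) [Field K] [Algebra k K] :
    IsReduced (K ⊗[k] A) ↔ IsReduced (K ⊗[k] R) := by
  letI : Algebra k (H A K') := ((algebraMap A (H A K')).comp (algebraMap k A)).toAlgebra
  haveI : IsScalarTower k A (H A K') := IsScalarTower.of_algebraMap_eq' rfl
  refine ⟨fun _ => ?_, fun _ => ?_⟩
  · haveI : IsReduced (A ⊗[k] K) :=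
      isReduced_of_injective (Algebra.TensorProduct.comm k A K).toAlgHom.toRingHom
        (Algebra.TensorProduct.comm k A K).injective
    haveI := isReduced_tensor_H (k := k) (A := A) (K' := K') K
    let f := (Algebra.TensorProduct.congr (e.restrictScalars k).symm (AlgEquiv.refl (R := k) (A₁ := K)))
    exact isReduced_of_injective
      (f.toAlgHom.toRingHom.comp (Algebra.TensorProduct.comm k K R).toAlgHom.toRingHom)
      (f.injective.comp (Algebra.TensorProduct.comm k K R).injective)
  · haveI : Module.FaithfullyFlat A (H A K') := inferInstance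
    refine isReduced_of_injective (Algebra.TensorProduct.map (AlgHom.id k K)
      (IsScalarTower.toAlgHom k A R)).toRingHom ?_
    refine Module.Flat.lTensor_preserves_injective_linearMap (M := K)
      (IsScalarTower.toAlgHom k A R).toLinearMap fun a b hab => ?_
    apply FaithfulSMul.algebraMap_injective A (H A K')
    apply e.injective
    rw [e.commutes, e.commutes]
    exact hab

end Groth.Agent.Henz21
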