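import Groth.Prelude.Def_PBC
import Groth.Agent.Henz21.Colim
import Mathlib.CategoryTheory.Limits.Constructions.Over.Connected

/-! `H R K` is ind-etale over `R`. -/

universe u

open CategoryTheory CategoryTheory.Limits

noncomputable section

namespace Groth.Agent.Henz21.H

variable (R K : Type u) [CommRing R] [CommRing K] [Algebra R K]

/-- The diagram of the pairs, under `R`. -/
def underDiagram : Pt R K ⥤ Under (CommRingCat.of R) where
  obj i := Under.mk (CommRingCat.ofHom (algebraMap R i.S))
  map f := Under.homMk (CommRingCat.ofHom f.φ.toRingHom)
    (CommRingCat.hom_ext f.φ.comp_algebraMap)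

def underCocone : Cocone (underDiagram R K) where
  pt := Under.mk (CommRingCat.ofHom (algebraMap R (H R K)))
  ι :=
    { app := fun i => Under.homMk (CommRingCat.ofHom (incl i).toRingHom)
        (CommRingCat.hom_ext (incl i).comp_algebraMap)
      naturality := fun _ _ f => Under.UnderMorphism.ext
        (CommRingCat.hom_ext (RingHom.ext fun s => incl_φ f s)) }

def isColimitUnderCocone : IsColimit (underCocone R K) :=
  have hc : IsColimit ((Under.forget (CommRingCat.of R)).mapCocone (underCocone R K)) :=
    IsColimit.ofIsoColimit (colimit.isColimit (Pt.diagram R K))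
      (Cocone.ext (Iso.refl _) fun j => CommRingCat.hom_ext (RingHom.ext fun s => rfl))
  { desc := fun c =>
      Under.homMk (hc.desc ((Under.forget _).mapCocone c)) (by
        refine CommRingCat.hom_ext (RingHom.ext fun r => ?_)
        have h : algebraMap R (H R K) r = incl (base R K) (algebraMap R (base R K).S r) :=
          ((incl (base R K)).commutes r).symm
        show (hc.desc ((Under.forget _).mapCocone c)).hom (algebraMap R (H R K) r) = _
        rw [h]
        exact (RingHom.congr_fun (congrArg CommRingCat.Hom.hom
          (hc.fac ((Under.forget _).mapCocone c) (base R K))) _).trans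
          (RingHom.congr_fun (congrArg CommRingCat.Hom.hom (Under.w (c.ι.app (base R K)))) r))
    fac := fun c i => Under.UnderMorphism.ext (hc.fac ((Under.forget _).mapCocone c) i)
    uniq := fun c m hm => Under.UnderMorphism.ext (hc.uniq ((Under.forget _).mapCocone c) m.right
      fun i => congrArg (fun g => g.right) (hm i)) }

theorem isIndEtale_of_algEquiv (B : Type u) [CommRing B] [Algebra R B] (e : H R K ≃ₐ[R] B) :
    EtPBC.IsIndEtale R B :=
  ⟨Pt R K, inferInstance, Pt.isFiltered, underDiagram R K, underCocone R K,
    isColimitUnderCocone R K, fun j => by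
      show @Algebra.Etale R j.S _ _ (algebraMap R j.S).toAlgebra
      rw [toAlgebra_algebraMap]; infer_instance,
    ⟨Under.isoMk e.toRingEquiv.toCommRingCatIso
      (CommRingCat.hom_ext e.toAlgHom.comp_algebraMap)⟩⟩

end Groth.Agent.Henz21.H
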