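import Mathlib
import Groth.Agent.Henz21.SepClosedBranch
import Groth.Agent.SubSh14.Basic

/-!
Étaleness of finite subalgebras of the strict henselization read on the normalization.
-/

universe u

open IsLocalRing Polynomial

namespace Groth.Agent.Henz21

/-- Lifting separable residue elements to roots in an integral algebra over a henselian ring. -/
theorem exists_root_lift {D D' : Type u} [CommRing D] [HenselianLocalRing D] [CommRing D']
    [Algebra D D'] [Algebra.IsIntegral D D'] (I : Ideal D') [I.IsPrime] (M : Ideal D') [M.IsMaximal]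
    (hIM : I ≤ M) (x : M.ResidueField)
    (hx : IsSeparable (Subfield.closure
      (Set.range ((algebraMap D' M.ResidueField).comp (algebraMap D D')))) x) :
    RingHom.ker ((algebraMap D' M.ResidueField).comp (algebraMap D D')) = maximalIdeal D ∧
      ∃ (hD : D[X]) (y : D'), hD.Monic ∧ (hD.map (residue D)).Separable ∧
        eval₂ (algebraMap D D') y hD ∈ I ∧ algebraMap D' M.ResidueField y = x ∧
        Irreducible (hD.map (residue D)) ∧
        hD.natDegree = (minpoly (Subfield.closure
          (Set.range ((algebraMap D' M.ResidueField).comp (algebraMap D D')))) x).natDegree := by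
  classical
  set θ := algebraMap D' M.ResidueField
  have hθ : RingHom.ker θ = M := by ext z; exact Ideal.algebraMap_residueField_eq_zero
  have hkerD : RingHom.ker (θ.comp (algebraMap D D')) = maximalIdeal D := by
    rw [← RingHom.comap_ker, hθ]
    have hmax : (M.comap (algebraMap D D')).IsMaximal :=
      Ideal.isMaximal_comap_of_isIntegral_of_isMaximal M
    exact hmax.eq_of_le (maximalIdeal.isMaximal D).ne_top (IsLocalRing.le_maximalIdeal hmax.ne_top)
  refine ⟨hkerD, ?_⟩
  have hθsurj : Function.Surjective θ := by
    intro z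
    obtain ⟨w, hw⟩ := (Ideal.bijective_algebraMap_quotient_residueField M).2 z
    obtain ⟨w, rfl⟩ := Ideal.Quotient.mk_surjective w
    exact ⟨w, hw⟩
  set k₀ := Subfield.closure (Set.range (θ.comp (algebraMap D D'))) with hk₀
  let g₀ : ResidueField D →+* k₀ := Ideal.Quotient.lift (maximalIdeal D)
    ((θ.comp (algebraMap D D')).codRestrict k₀ fun d => Subfield.subset_closure ⟨d, rfl⟩)
    (fun d hd => Subtype.ext (by rw [← hkerD] at hd; exact hd))
  have hg₀ : Function.Surjective g₀ := by
    rintro ⟨z, hz⟩
    have hz' : z ∈ (k₀ : Set M.ResidueField) := hz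
    rw [hk₀, coe_closure_range_of_isField _ hkerD] at hz'
    obtain ⟨d, rfl⟩ := hz'
    exact ⟨residue D d, rfl⟩
  let gD : D →+* k₀ := g₀.comp (residue D)
  obtain ⟨hD, hhD, -, hhDm⟩ := Polynomial.lifts_and_degree_eq_and_monic
    (f := gD) (p := minpoly k₀ x)
    ((Polynomial.lifts_iff_coeff_lifts _).2 fun n => (hg₀.comp residue_surjective) _)
    (minpoly.monic hx.isIntegral)
  have hsepD : (hD.map (residue D)).Separable := by
    rw [← Polynomial.separable_map g₀, Polynomial.map_map, hhD]
    exact hx
  let C := D' ⧸ I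
  have : IsDomain C := Ideal.Quotient.isDomain I
  have : Algebra.IsIntegral D C := inferInstance
  have : IsLocalRing C := isLocalRing_of_integral_henselian' (R := D) C
  have : HenselianLocalRing C := henselianLocalRing_of_isIntegral (A := D)
  let θC : C →+* M.ResidueField := Ideal.Quotient.lift I θ fun z hz => by
    rw [← RingHom.mem_ker, hθ]; exact hIM hz
  have hθCsurj : Function.Surjective θC := fun z => by
    obtain ⟨w, rfl⟩ := hθsurj z
    exact ⟨Ideal.Quotient.mk I w, rfl⟩
  have hθCker : RingHom.ker θC = maximalIdeal C := by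
    have hmax : (RingHom.ker θC).IsMaximal := RingHom.ker_isMaximal_of_surjective θC hθCsurj
    exact hmax.eq_of_le (maximalIdeal.isMaximal C).ne_top (IsLocalRing.le_maximalIdeal hmax.ne_top)
  have hcomp : θC.comp (algebraMap D C) = (algebraMap k₀ M.ResidueField).comp gD := rfl
  obtain ⟨c₀, hc₀⟩ := hθCsurj x
  have hev : θC (eval c₀ (hD.map (algebraMap D C))) = 0 := by
    rw [eval_map, hom_eval₂, hcomp, hc₀, ← eval₂_map, hhD]
    exact minpoly.aeval _ _
  have hder : IsUnit (eval c₀ (hD.map (algebraMap D C)).derivative) := by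
    by_contra hu
    have h : θC (eval c₀ (hD.map (algebraMap D C)).derivative) = 0 := by
      rw [← RingHom.mem_ker, hθCker]; exact hu
    rw [derivative_map, eval_map, hom_eval₂, hcomp, hc₀, ← eval₂_map, ← derivative_map, hhD] at h
    have h0 : eval₂ (algebraMap k₀ M.ResidueField) x (minpoly k₀ x) = 0 := minpoly.aeval k₀ x
    exact Polynomial.Separable.eval₂_derivative_ne_zero _ (hx : (minpoly k₀ x).Separable) h0 h
  obtain ⟨c, hcroot, hcc⟩ := HenselianLocalRing.is_henselian _ (hhDm.map (algebraMap D C)) c₀
    (by rw [← hθCker]; exact hev) hder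
  obtain ⟨y, rfl⟩ := Ideal.Quotient.mk_surjective c
  refine ⟨hD, y, hhDm, hsepD, ?_, ?_, ?_, ?_⟩
  · rw [← Ideal.Quotient.eq_zero_iff_mem, hom_eval₂]
    rw [IsRoot.def, eval_map] at hcroot
    exact hcroot
  · rw [← hθCker, RingHom.mem_ker, map_sub, sub_eq_zero, hc₀] at hcc
    exact hcc
  · refine (hhDm.map (residue D)).irreducible_of_irreducible_map g₀ _ ?_
    rw [Polynomial.map_map, hhD]
    exact minpoly.irreducible hx.isIntegral
  · rw [← hhD, hhDm.natDegree_map]

variable {A S : Type u} [CommRing A] [HenselianLocalRing A] [IsNoetherianRing A] [IsReduced A]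
  [CommRing S] [IsLocalRing S] [Algebra A S] [IsLocalHom (algebraMap A S)]
  [Hensel.IsStrictHenselization A S]
  (D : Type u) [CommRing D] [Algebra A D] [Algebra D S] [IsScalarTower A D S] [FaithfulSMul D S]
  [Module.Finite A D]

include A S in
theorem isReduced_and_artinian :
    IsReduced S ∧ IsReduced D ∧ IsNoetherianRing D ∧ IsArtinianRing (FractionRing D) := by
  have hS : IsReduced S :=
    (Hensel20.isReduced_iff_of_equiv (strictHenselizationEquiv (R := A) S)).2 inferInstance
  have hD : IsReduced D :=
    isReduced_of_injective (algebraMap D S) (FaithfulSMul.algebraMap_injective D S)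
  have hN : IsNoetherianRing D := Algebra.FiniteType.isNoetherianRing A D
  exact ⟨hS, hD, hN,
    SubSh14.isArtinianRing_fractionRing D (minimalPrimes.finite_of_isNoetherianRing D)⟩

set_option maxHeartbeats 1000000 in
/-- Étale with extended branches implies the separable closedness. -/
theorem separableClosure_eq_bot_of_etale [Algebra.Etale A D]
    (hQ : ∀ Q ∈ minimalPrimes S, Q = Ideal.map (algebraMap D S) (Q.comap (algebraMap D S)))
    (M : Ideal (integralClosure D (FractionRing D))) [M.IsMaximal] :
    separableClosure (Subfield.closure (Set.range ((algebraMap (integralClosure D (FractionRing D))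
      M.ResidueField).comp (algebraMap D (integralClosure D (FractionRing D)))))) M.ResidueField = ⊥ := by
  classical
  obtain ⟨hSred, hDred, hDnoe, hDart⟩ := isReduced_and_artinian (A := A) (S := S) D
  obtain ⟨_, hDS, hAD, hDSint⟩ := isLocal_subalgebra (A := A) (S := S) D
  have : IsReduced (FractionRing D) :=
    isReduced_localizationPreserves (nonZeroDivisors D) _ inferInstance
  have : HenselianLocalRing S := Hensel.IsStrictHenselization.henselian (R := A)
  have hsc : IsSepClosure (ResidueField A) (ResidueField S) := Hensel.IsStrictHenselization.isSepClosure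
  have := hsc.sep_closed
  have : HenselianLocalRing D := henselianLocalRing_of_isIntegral (A := A)
  have hE : EGA4loc.IsEssentiallyEtale A D := by
    have : IsLocalization (maximalIdeal D).primeCompl D :=
      IsLocalization.self fun x hx => notMem_maximalIdeal.1 hx
    exact ⟨D, inferInstance, inferInstance, maximalIdeal D, inferInstance, inferInstance,
      ((local_hom_TFAE (algebraMap A D)).out 0 4).1 hAD,
      ⟨((IsLocalization.algEquiv (maximalIdeal D).primeCompl D _).restrictScalars A)⟩⟩
  have : Module.FaithfullyFlat D S :=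
    RingHom.faithfullyFlat_algebraMap_iff.1
      (SubSh14.faithfullyFlat_algHom hE (IsScalarTower.toAlgHom A D S))
  -- a prime of the total fraction ring under `M`
  let D' := integralClosure D (FractionRing D)
  have hfin : {I : Ideal (FractionRing D) | I.IsPrime}.Finite := IsArtinianRing.setOfPred_isPrime_finite _
  obtain ⟨𝔭, h𝔭mem, h𝔭M⟩ : ∃ 𝔭 ∈ hfin.toFinset, Ideal.comap (D'.val : D' →+* FractionRing D) 𝔭 ≤ M := by
    refine (Ideal.IsPrime.inf_le' (inferInstance : M.IsPrime)).1 fun y hy => ?_
    have : (y : FractionRing D) = 0 := by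
      have hn : IsNilpotent (y : FractionRing D) := nilpotent_iff_mem_prime.2 fun J hJ =>
        (Submodule.mem_finsetInf.1 hy) J (hfin.mem_toFinset.2 hJ)
      exact hn.eq_zero
    rw [show y = 0 from Subtype.ext this]
    exact M.zero_mem
  have : 𝔭.IsPrime := hfin.mem_toFinset.1 h𝔭mem
  have : 𝔭.IsMaximal := IsArtinianRing.isMaximal_of_isPrime 𝔭
  let := Ideal.Quotient.field 𝔭
  let I : Ideal D' := Ideal.comap (D'.val : D' →+* FractionRing D) 𝔭
  have : I.IsPrime := Ideal.IsPrime.comap _
  rw [eq_bot_iff]
  intro x hx
  obtain ⟨hkerD, hD, y, hhDm, hsepD, hyI, hθy, -, -⟩ := exists_root_lift I M h𝔭M x hx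
  let l : FractionRing D ⧸ 𝔭 := Ideal.Quotient.mk 𝔭 (y : FractionRing D)
  have hlroot : aeval l hD = 0 := by
    rw [show l = (Ideal.Quotient.mkₐ D 𝔭) (y : FractionRing D) from rfl, aeval_algHom_apply,
      show (y : FractionRing D) = D'.val y from rfl, aeval_algHom_apply, Ideal.Quotient.mkₐ_eq_mk,
      Ideal.Quotient.eq_zero_iff_mem]
    exact hyI
  -- the branch
  set P := 𝔭.comap (algebraMap D (FractionRing D)) with hP
  obtain ⟨Q₀, hQ₀⟩ : ∃ Q₀ : Ideal S, Q₀.IsPrime ∧ Q₀.comap (algebraMap D S) = P := by
    obtain ⟨Q₀, hQ₀, hQ₀'⟩ := Ideal.exists_isPrime_liesOver_of_faithfullyFlat (B := S) P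
    exact ⟨Q₀, hQ₀, hQ₀'.over.symm⟩
  have := hQ₀.1
  obtain ⟨Q, hQmin, hQle⟩ := Ideal.exists_minimalPrimes_le (I := (⊥ : Ideal S)) (J := Q₀) bot_le
  have : Q.IsPrime := hQmin.1.1
  have hPmin : P ∈ minimalPrimes D := by
    have hdisj : Disjoint (nonZeroDivisors D : Set D) (P : Set D) :=
      ((IsLocalization.isPrime_iff_isPrime_disjoint (nonZeroDivisors D) (FractionRing D) 𝔭).1
        inferInstance).2
    refine ⟨⟨Ideal.IsPrime.comap _, bot_le⟩, fun P' hP' hle => ?_⟩
    have := hP'.1
    have hd' : Disjoint (nonZeroDivisors D : Set D) (P' : Set D) := hdisj.mono_right hle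
    have hp' := IsLocalization.isPrime_of_isPrime_disjoint (nonZeroDivisors D) (FractionRing D) P'
      inferInstance hd'
    have hle' : P'.map (algebraMap D (FractionRing D)) ≤ 𝔭 := Ideal.map_le_iff_le_comap.2 hle
    rw [hP, ← (IsArtinianRing.isMaximal_of_isPrime (P'.map (algebraMap D (FractionRing D)))).eq_of_le
      Ideal.IsPrime.ne_top' hle']
    exact le_of_eq (IsLocalization.comap_map_of_isPrime_disjoint _ _ inferInstance hd')
  have hQc : Q.comap (algebraMap D S) = P := by
    have hle : Q.comap (algebraMap D S) ≤ P := hQ₀.2 ▸ Ideal.comap_mono hQle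
    exact le_antisymm hle (hPmin.2 ⟨Ideal.IsPrime.comap _, bot_le⟩ hle)
  have hQP : Q = P.map (algebraMap D S) := hQc ▸ hQ Q hQmin
  let K := FractionRing (S ⧸ Q)
  have hiS : Function.Injective (algebraMap (S ⧸ Q) K) := IsFractionRing.injective (S ⧸ Q) K
  have hunit : ∀ d : nonZeroDivisors D, IsUnit (algebraMap D K d) := fun d => isUnit_iff_ne_zero.2 fun h => by
    rw [IsScalarTower.algebraMap_apply D (S ⧸ Q) K] at h
    have h1 := (map_eq_zero_iff _ hiS).1 h
    have h2 : (d : D) ∈ P := hQc ▸ (show algebraMap D S d ∈ Q from Ideal.Quotient.eq_zero_iff_mem.1 h1)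
    exact 𝔭.ne_top_iff_one.1 Ideal.IsPrime.ne_top' (by
      obtain ⟨v, hv⟩ := (IsLocalization.map_units (FractionRing D) d).exists_left_inv
      rw [← hv]; exact 𝔭.mul_mem_left v h2)
  let F : FractionRing D →+* K := IsLocalization.lift hunit
  have hF : ∀ z ∈ 𝔭, F z = 0 := by
    intro z hz
    rw [← IsLocalization.map_under (nonZeroDivisors D) (FractionRing D) 𝔭] at hz
    rw [← RingHom.mem_ker]
    refine (Ideal.map_le_iff_le_comap.2 fun d hd => ?_) hz
    rw [Ideal.mem_comap, RingHom.mem_ker, IsLocalization.lift_eq,
      IsScalarTower.algebraMap_apply D (S ⧸ Q) K,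
      show algebraMap D (S ⧸ Q) d = 0 from Ideal.Quotient.eq_zero_iff_mem.2
        (show d ∈ Q.comap (algebraMap D S) by rw [hQc]; exact hd), map_zero]
  let jL : (FractionRing D ⧸ 𝔭) →ₐ[D] K :=
    { Ideal.Quotient.lift 𝔭 F hF with
      commutes' := fun d => IsLocalization.lift_eq hunit d }
  let jS : S →+* K := (algebraMap (S ⧸ Q) K).comp (Ideal.Quotient.mk Q)
  have hsepS : ((hD.map (algebraMap D S)).map (residue S)).Separable := by
    rw [Polynomial.map_map,
      show (residue S).comp (algebraMap D S) = (ResidueField.map (algebraMap D S)).comp (residue D) from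
        RingHom.ext fun x => rfl, ← Polynomial.map_map]
    exact Polynomial.Separable.map hsepD
  obtain ⟨s, hs⟩ := root_mem_range jS (hhDm.map (algebraMap D S)) hsepS (z := jL l) (by
    rw [Polynomial.map_map, IsRoot.def, eval_map,
      show jS.comp (algebraMap D S) = algebraMap D K from RingHom.ext fun d => rfl, ← aeval_def,
      aeval_algHom_apply, hlroot, map_zero])
  obtain ⟨z, hz⟩ := Ideal.Quotient.mk_surjective l
  obtain ⟨⟨a, b⟩, hab⟩ := IsLocalization.surj (nonZeroDivisors D) z
  have hlb : l * algebraMap D (FractionRing D ⧸ 𝔭) b = algebraMap D (FractionRing D ⧸ 𝔭) a := by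
    rw [← hz, IsScalarTower.algebraMap_apply D (FractionRing D) (FractionRing D ⧸ 𝔭),
      IsScalarTower.algebraMap_apply D (FractionRing D) (FractionRing D ⧸ 𝔭), ← hab, map_mul]
    rfl
  have hsab : s * algebraMap D S b - algebraMap D S a ∈ Q := by
    rw [← Ideal.Quotient.eq_zero_iff_mem]
    apply hiS
    have h := congrArg jL hlb
    rw [map_mul, AlgHom.commutes, AlgHom.commutes, ← hs] at h
    rw [map_zero, map_sub, map_sub, map_mul, map_mul, sub_eq_zero]
    exact h
  have ha : a ∈ Ideal.span {(b : D)} ⊔ P := by
    rw [← Ideal.comap_map_eq_self_of_faithfullyFlat (B := S) (Ideal.span {(b : D)} ⊔ P), Ideal.mem_comap,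
      Ideal.map_sup, Ideal.map_span, Set.image_singleton, ← hQP]
    refine Submodule.mem_sup.2 ⟨s * algebraMap D S b, Ideal.mul_mem_left _ _ (Ideal.subset_span rfl),
      -(s * algebraMap D S b - algebraMap D S a), neg_mem hsab, by ring⟩
  obtain ⟨w, hw, p, hp, hwp⟩ := Submodule.mem_sup.1 ha
  obtain ⟨d, rfl⟩ := Ideal.mem_span_singleton'.1 hw
  have hpL : algebraMap D (FractionRing D ⧸ 𝔭) p = 0 := Ideal.Quotient.eq_zero_iff_mem.2 hp
  have hbL : algebraMap D (FractionRing D ⧸ 𝔭) b ≠ 0 := fun h0 => by
    have h1 := congrArg jL h0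
    rw [AlgHom.commutes, map_zero] at h1
    exact (hunit b).ne_zero h1
  have hld : l = algebraMap D (FractionRing D ⧸ 𝔭) d := by
    refine mul_right_cancel₀ hbL ?_
    rw [hlb, ← hwp, map_add, map_mul, hpL, add_zero]
  have hxd : x = algebraMap D' M.ResidueField (algebraMap D D' d) := by
    rw [← hθy, ← sub_eq_zero, ← map_sub, Ideal.algebraMap_residueField_eq_zero]
    refine h𝔭M (show (y : FractionRing D) - algebraMap D (FractionRing D) d ∈ 𝔭 from ?_)
    rw [← Ideal.Quotient.eq]
    exact hld
  rw [hxd]
  exact IntermediateField.algebraMap_mem _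
    (⟨_, Subfield.subset_closure ⟨d, rfl⟩⟩ : Subfield.closure
      (Set.range ((algebraMap D' M.ResidueField).comp (algebraMap D D'))))

set_option maxHeartbeats 1000000 in
/-- The separable closedness implies étale with extended branches. -/
theorem etale_of_separableClosure_eq_bot
    (hsep : ∀ (M : Ideal (integralClosure D (FractionRing D))) [M.IsMaximal],
      separableClosure (Subfield.closure (Set.range ((algebraMap (integralClosure D (FractionRing D))
        M.ResidueField).comp (algebraMap D (integralClosure D (FractionRing D)))))) M.ResidueField = ⊥) :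
    Algebra.Etale A D ∧
      ∀ Q ∈ minimalPrimes S, Q = Ideal.map (algebraMap D S) (Q.comap (algebraMap D S)) := by
  classical
  obtain ⟨hSred, hDred, hDnoe, hDart⟩ := isReduced_and_artinian (A := A) (S := S) D
  obtain ⟨_, hDS, hAD, hDSint⟩ := isLocal_subalgebra (A := A) (S := S) D
  have hsc : IsSepClosure (ResidueField A) (ResidueField S) := Hensel.IsStrictHenselization.isSepClosure
  obtain ⟨G, hG⟩ := Module.Finite.fg_top (R := A) (M := D)
  -- for a stage containing `D`
  have key : ∀ s : Finset S, ∃ (a : S) (r : ℕ), 0 < r ∧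
      (∀ z ∈ s, ∃ P : D[X], P.degree < r ∧ aeval a P = z) ∧
      (∀ P : D[X], P.degree < r → aeval a P = 0 → P = 0) ∧
      (∀ P : D[X], P.degree < r → ∀ Q ∈ minimalPrimes S, aeval a P ∈ Q → ∀ i,
        algebraMap D S (P.coeff i) ∈ Q) ∧
      ∃ (E : Subalgebra A S) (_ : IsLocalRing E),
        EGA4loc.IsEssentiallyEtale A E ∧ Module.Finite A E ∧ (∀ d : D, algebraMap D S d ∈ E) ∧
        ∀ z ∈ E, ∃ P : D[X], P.degree < r ∧ aeval a P = z := by
    intro s
    obtain ⟨E, a, f₀, hsE, hEloc, hEhom, hEt, hEfin, hEadj, hf₀, hfa, hfsep⟩ :=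
      exists_monogenic_stage (A := A) (s ∪ G.image (algebraMap D S))
    have hDE : ∀ d : D, algebraMap D S d ∈ E := by
      intro d
      have hd : d ∈ Submodule.span A (G : Set D) := hG ▸ trivial
      have hle : Submodule.span A (G : Set D) ≤
          (Subalgebra.toSubmodule E).comap (IsScalarTower.toAlgHom A D S).toLinearMap :=
        Submodule.span_le.2 fun g hg => hsE (by simp only [Finset.coe_union, Finset.coe_image]
                                                exact Or.inr ⟨g, hg, rfl⟩)
      exact hle hd
    letI : Algebra D E := ((algebraMap D S).codRestrict E.toSubring hDE).toAlgebra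
    have : IsScalarTower A D E := IsScalarTower.of_algebraMap_eq fun x =>
      Subtype.ext (IsScalarTower.algebraMap_apply A D S x)
    have : IsScalarTower D E S := IsScalarTower.of_algebraMap_eq fun _ => rfl
    have : Module.Finite D E := Module.Finite.of_restrictScalars_finite A D E
    have hES := SubSh14.isLocalHom E hEt
    have := EssEt14.formallyEtale hEt
    have := EssEt14.essFiniteType hEt
    have := EssEt14.isLocalHom hEt
    have hmE : (maximalIdeal A).map (algebraMap A E) = maximalIdeal E :=
      Algebra.FormallyUnramified.map_maximalIdeal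
    have haE : a ∈ E := hEadj ▸ Algebra.self_mem_adjoin_singleton A a
    have hDEloc : IsLocalHom (algebraMap D E) := ⟨fun d hd => isUnit_of_map_unit (algebraMap D S) d
      (hd.map (algebraMap E S))⟩
    have hmDE : (maximalIdeal D).map (algebraMap D E) = maximalIdeal E := by
      refine le_antisymm ((local_hom_TFAE (algebraMap D E)).out 0 2 |>.1 hDEloc) ?_
      rw [← hmE, IsScalarTower.algebraMap_eq A D E, ← Ideal.map_map]
      exact Ideal.map_mono ((local_hom_TFAE (algebraMap A D)).out 0 2 |>.1 hAD)
    have : IsScalarTower (ResidueField A) (ResidueField D) (ResidueField S) := by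
      refine IsScalarTower.of_algebraMap_eq fun x => ?_
      obtain ⟨r, rfl⟩ := residue_surjective x
      exact congrArg (residue S) (IsScalarTower.algebraMap_apply A D S r)
    have hint : IsIntegral (ResidueField D) (residue S a) := by
      have := hsc.separable
      exact (Algebra.IsSeparable.isSeparable (ResidueField A) (residue S a)).isIntegral.tower_top
    set r := (minpoly (ResidueField D) (residue S a)).natDegree with hr
    have hrdeg : (minpoly (ResidueField D) (residue S a)).degree = r :=
      degree_eq_natDegree (minpoly.ne_zero hint)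
    have hindep : ∀ P : D[X], P.degree < r → ∀ Q ∈ minimalPrimes S, aeval a P ∈ Q → ∀ i,
        algebraMap D S (P.coeff i) ∈ Q := fun P hP Q hQ hPQ =>
      coeff_mem_of_aeval_mem D hsep hf₀ hfa hfsep hQ (hrdeg ▸ hP) hPQ
    -- spanning
    let e : E := ⟨a, haE⟩
    let ψ : ResidueField E →ₐ[ResidueField D] ResidueField S :=
      { ResidueField.map (algebraMap E S) with
        commutes' := fun x => by obtain ⟨d, rfl⟩ := residue_surjective x; rfl }
    have hpoly : ∀ z : E, ∃ P : A[X], aeval e P = z := by
      intro z
      have hz : (z : S) ∈ Algebra.adjoin A {a} := hEadj ▸ z.2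
      obtain ⟨P, hP⟩ := (Algebra.adjoin_singleton_eq_range_aeval A a ▸ hz : (z : S) ∈ (aeval a).range)
      exact ⟨P, Subtype.ext ((aeval_algHom_apply E.val e P).symm.trans hP)⟩
    have hint' : IsIntegral (ResidueField D) (residue E e) := (isIntegral_algHom_iff ψ ψ.toRingHom.injective).1 hint
    have hmin' : minpoly (ResidueField D) (residue E e) = minpoly (ResidueField D) (residue S a) :=
      (minpoly.algHom_eq ψ ψ.toRingHom.injective _).symm
    have hspanres : Submodule.span (ResidueField D)
        (Set.range fun i : ULift.{u} (Fin r) => residue E (e ^ (i.down : ℕ))) = ⊤ := by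
      refine eq_top_iff.2 fun x _ => ?_
      obtain ⟨z, rfl⟩ := residue_surjective x
      obtain ⟨P, rfl⟩ := hpoly z
      set Pk := ((P.map (algebraMap A D)).map (residue D)) %ₘ minpoly (ResidueField D) (residue E e) with hPk
      have hPkdeg : Pk.degree < r := by
        rw [← hrdeg, ← hmin']
        exact degree_modByMonic_lt _ (minpoly.monic hint')
      have hval : aeval (residue E e) Pk = residue E (aeval e P) := by
        rw [hPk, aeval_modByMonic_eq_self_of_root (minpoly.aeval _ _), aeval_def, eval₂_map,
          show (algebraMap (ResidueField D) (ResidueField E)).comp (residue D) =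
            (residue E).comp (algebraMap D E) from RingHom.ext fun d => rfl,
          ← hom_eval₂, ← aeval_def, aeval_map_algebraMap]
      rw [← hval]
      by_cases h0 : Pk = 0
      · rw [h0, map_zero]; exact Submodule.zero_mem _
      · rw [aeval_eq_sum_range' (n := r) ((natDegree_lt_iff_degree_lt h0).2 hPkdeg)]
        refine sum_mem fun i hi => Submodule.smul_mem _ _ (Submodule.subset_span ⟨⟨⟨i, Finset.mem_range.1 hi⟩⟩, ?_⟩)
        simp only [map_pow]
    have hspan : Submodule.span D (Set.range fun i : ULift.{u} (Fin r) => e ^ (i.down : ℕ)) = ⊤ :=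
      SubSh14.span_lift _ hmDE hspanres
    have hEP : ∀ z ∈ E, ∃ P : D[X], P.degree < r ∧ aeval a P = z := by
      intro z hz
      obtain ⟨c, hc⟩ := (Submodule.mem_span_range_iff_exists_fun D).1
        (show (⟨z, hz⟩ : E) ∈ Submodule.span D (Set.range fun i : ULift.{u} (Fin r) => e ^ (i.down : ℕ))
          from hspan ▸ trivial)
      refine ⟨∑ i, C (c i) * X ^ (i.down : ℕ), ?_, ?_⟩
      · refine (degree_sum_le _ _).trans_lt ((Finset.sup_lt_iff (by exact WithBot.bot_lt_coe _)).2 fun i _ => ?_)
        exact (degree_C_mul_X_pow_le _ _).trans_lt (by exact_mod_cast i.down.2)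
      · rw [map_sum]
        have h := congrArg (algebraMap E S) hc
        rw [map_sum] at h
        refine Eq.trans ?_ h
        refine Finset.sum_congr rfl fun i _ => ?_
        rw [map_mul, map_pow, aeval_C, aeval_X, Algebra.smul_def, map_mul, map_pow,
          ← IsScalarTower.algebraMap_apply]
        rfl
    refine ⟨a, r, minpoly.natDegree_pos hint, fun z hz => hEP z (hsE (by simp [hz])), ?_, hindep,
      E, hEloc, hEt, hEfin, hDE, hEP⟩
    intro P hP h0
    ext i
    rw [coeff_zero]
    apply FaithfulSMul.algebraMap_injective D S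
    rw [map_zero]
    refine ((isNilpotent_iff_eq_zero).1 (nilpotent_iff_mem_prime.2 fun J hJ => ?_))
    obtain ⟨Q, hQ, hQJ⟩ := Ideal.exists_minimalPrimes_le (I := (⊥ : Ideal S)) (J := J) bot_le
    exact hQJ (hindep P hP Q hQ (by rw [h0]; exact Q.zero_mem) i)
  refine ⟨?_, fun Q hQ => le_antisymm (fun x hx => ?_) Ideal.map_comap_le⟩
  · obtain ⟨a, r, hr, -, hzero, -, E, hEloc, hEt, hEfin, hDE, hEP⟩ := key ∅
    letI : Algebra D E := ((algebraMap D S).codRestrict E.toSubring hDE).toAlgebra
    have : IsScalarTower A D E := IsScalarTower.of_algebraMap_eq fun x =>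
      Subtype.ext (IsScalarTower.algebraMap_apply A D S x)
    choose P hPdeg hPe using fun z : E => hEP z z.2
    have huniq : ∀ (z : E) (P' : D[X]), P'.degree < r → aeval a P' = z → P z = P' := fun z P' h1 h2 =>
      sub_eq_zero.1 (hzero _ ((degree_sub_le _ _).trans_lt (max_lt (hPdeg z) h1))
        (by rw [map_sub, hPe, h2, sub_self]))
    let π : E →ₗ[A] D :=
      { toFun := fun z => (P z).coeff 0
        map_add' := fun x y => by
          rw [huniq (x + y) (P x + P y) ((degree_add_le _ _).trans_lt (max_lt (hPdeg x) (hPdeg y)))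
            (by rw [map_add, hPe, hPe]; rfl), coeff_add]
        map_smul' := fun c x => by
          have : c • P x = C (algebraMap A D c) * P x := by rw [Algebra.smul_def]; rfl
          rw [huniq (c • x) (c • P x) ((degree_smul_le _ _).trans_lt (hPdeg x))
            (by rw [AlgHom.map_smul_of_tower, hPe]; rfl), coeff_smul, RingHom.id_apply] }
    have hπ : π.comp (IsScalarTower.toAlgHom A D E).toLinearMap = LinearMap.id := by
      ext d
      show (P (algebraMap D E d)).coeff 0 = d
      rw [huniq _ (C d) (degree_C_le.trans_lt (by exact_mod_cast hr)) (by rw [aeval_C]; rfl), coeff_C_zero]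
    have := EssEt14.formallyEtale hEt
    have := EssEt14.essFiniteType hEt
    have : Module.Flat A E := SubSh14.flat hEt
    have : Module.Flat A D := Module.Flat.of_retract _ π hπ
    have := EssEt14.isLocalHom hEt
    have hmE : (maximalIdeal A).map (algebraMap A E) = maximalIdeal E :=
      Algebra.FormallyUnramified.map_maximalIdeal
    have hES := SubSh14.isLocalHom E hEt
    have hDEloc : IsLocalHom (algebraMap D E) := ⟨fun d hd => isUnit_of_map_unit (algebraMap D S) d
      (hd.map (algebraMap E S))⟩
    have hmD : (maximalIdeal A).map (algebraMap A D) = maximalIdeal D := by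
      refine le_antisymm ((local_hom_TFAE (algebraMap A D)).out 0 2 |>.1 hAD) fun d hd => ?_
      have h1 : algebraMap D E d ∈ maximalIdeal A • (⊤ : Submodule A E) := by
        rw [Ideal.smul_top_eq_map, Submodule.restrictScalars_mem, hmE]
        exact map_nonunit _ _ hd
      have h2 := Submodule.mem_map_of_mem (f := π) h1
      rw [Submodule.map_smul'', show π (algebraMap D E d) = d from LinearMap.congr_fun hπ d] at h2
      have h3 : d ∈ maximalIdeal A • (⊤ : Submodule A D) := Submodule.smul_mono le_rfl le_top h2
      rwa [Ideal.smul_top_eq_map, Submodule.restrictScalars_mem] at h3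
    have : Algebra.IsSeparable (ResidueField A) (ResidueField D) := by
      let φ : ResidueField D →ₐ[ResidueField A] ResidueField S :=
        { ResidueField.map (algebraMap D S) with
          commutes' := fun x => by
            obtain ⟨r, rfl⟩ := residue_surjective x
            exact congrArg (residue S) (IsScalarTower.algebraMap_apply A D S r).symm }
      have := hsc.separable
      exact Algebra.IsSeparable.of_algHom _ _ φ
    have : Algebra.FormallyUnramified A D := Algebra.FormallyUnramified.of_map_maximalIdeal hmD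
    have : Algebra.FinitePresentation A D :=
      Algebra.FinitePresentation.of_finiteType.1 inferInstance
    exact Algebra.Etale.of_formallyUnramified_of_flat
  · obtain ⟨a, r, -, hx', -, hindep, -⟩ := key {x}
    obtain ⟨P, hP, rfl⟩ := hx' x (by simp)
    rw [aeval_def, eval₂_eq_sum, Polynomial.sum]
    exact sum_mem fun i _ => Ideal.mul_mem_right _ _
      (Ideal.mem_map_of_mem _ (show P.coeff i ∈ Q.comap (algebraMap D S) from hindep P hP Q hQ hx i))

end Groth.Agent.Henz21
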