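import Mathlib
import Groth.Agent.Henz21.SepClosedMain
import Groth.Agent.Henz21.Unique
import Groth.Agent.Hensel20.StageNoeth

/-!
The separable degree of the residue extensions of the normalization of a Noetherian henselian
reduced local ring is bounded by the number of geometric branches.
-/

universe u

open IsLocalRing Polynomial

namespace Groth.Agent.Henz21

/-- A separable extension with bounded element degrees is finite. -/
theorem finiteDimensional_of_natDegree_le (k K : Type u) [Field k] [Field K] [Algebra k K]
    [Algebra.IsSeparable k K] (N : ℕ) (h : ∀ x : K, (minpoly k x).natDegree ≤ N) :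
    FiniteDimensional k K := by
  classical
  have hex : ∃ n, ∃ x : K, N - (minpoly k x).natDegree = n := ⟨_, 0, rfl⟩
  obtain ⟨x, hx⟩ := Nat.find_spec hex
  have hxmax : ∀ y : K, (minpoly k y).natDegree ≤ (minpoly k x).natDegree := fun y => by
    have h1 := Nat.find_min' hex ⟨y, rfl⟩
    have h2 := h y
    have h3 := h x
    omega
  have hxint : IsIntegral k x := Algebra.IsIntegral.isIntegral x
  have hfin := IntermediateField.adjoin.finiteDimensional hxint
  have htop : (⊤ : IntermediateField k K) ≤ IntermediateField.adjoin k {x} := by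
    intro y _
    let E := IntermediateField.adjoin k {x, y}
    have : FiniteDimensional k E :=
      IntermediateField.finiteDimensional_adjoin fun z _ => Algebra.IsIntegral.isIntegral z
    obtain ⟨z, hz⟩ := Field.exists_primitive_element k E
    have hzint : IsIntegral k z := Algebra.IsIntegral.isIntegral z
    have h1 : Module.finrank k E = (minpoly k (z : K)).natDegree := by
      rw [← IntermediateField.finrank_top', ← hz, IntermediateField.adjoin.finrank hzint,
        ← minpoly.algHom_eq E.val Subtype.val_injective z]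
      rfl
    have hle : IntermediateField.adjoin k {x} ≤ E :=
      IntermediateField.adjoin.mono k _ _ (by simp)
    have h2 := IntermediateField.eq_of_le_of_finrank_le hle (by
      rw [IntermediateField.adjoin.finrank hxint, h1]
      exact hxmax (z : K))
    rw [h2]
    exact IntermediateField.subset_adjoin k _ (by simp)
  have : FiniteDimensional k (⊤ : IntermediateField k K) := by
    rw [← top_le_iff.1 htop]
    exact hfin
  exact Module.Finite.equiv IntermediateField.topEquiv.toLinearEquiv

/-- A root of the image of a separable monic polynomial over a strictly henselian ring comes from an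
exact root. -/
theorem exists_root_of_isRoot_map {S K : Type u} [CommRing S] [HenselianLocalRing S]
    [IsSepClosed (ResidueField S)] [CommRing K] [IsDomain K] {f : S[X]}
    (hsep : (f.map (residue S)).Separable) (hf : f.Monic) (j : S →+* K) {z : K}
    (hz : (f.map j).IsRoot z) : ∃ r : S, eval r f = 0 ∧ j r = z := by
  induction hn : f.natDegree using Nat.strong_induction_on generalizing f with
  | _ n ih =>
    by_cases h0 : f.natDegree = 0
    · rw [hf.natDegree_eq_zero.mp h0, Polynomial.map_one, Polynomial.IsRoot.def, eval_one] at hz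
      exact absurd hz one_ne_zero
    obtain ⟨a, g, hgm, hgs, rfl, hlt⟩ := exists_factor_of_separable hf hsep h0
    rw [Polynomial.map_mul, Polynomial.map_sub, map_X, map_C, IsRoot.def, eval_mul, mul_eq_zero,
      eval_sub, eval_X, eval_C, sub_eq_zero] at hz
    rcases hz with hz | hz
    · exact ⟨a, by simp, hz.symm⟩
    obtain ⟨r, hr, hjr⟩ := ih g.natDegree (hn ▸ hlt) hgs hgm hz rfl
    exact ⟨r, by rw [eval_mul, hr, mul_zero], hjr⟩

set_option maxHeartbeats 1000000 in
/-- Count of branches: a root in the fraction field of a branch of a polynomial with irreducible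
separable reduction. -/
theorem natDegree_le_ncard_minimalPrimes {D : Type u} [CommRing D] [HenselianLocalRing D]
    [IsNoetherianRing D] (P : Ideal D) [P.IsPrime] {K : Type u} [Field K] [Algebra D K]
    (hker : RingHom.ker (algebraMap D K) = P)
    (hsurj : ∀ l : K, ∃ a b : D, b ∉ P ∧ l * algebraMap D K b = algebraMap D K a)
    {h : D[X]} (hh : h.Monic) (hsep : (h.map (residue D)).Separable)
    (hirr : Irreducible (h.map (residue D))) {l : K} (hl : aeval l h = 0) :
    h.natDegree ≤ ((P.map (algebraMap D (StrictHenselization D))).minimalPrimes).ncard := by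
  classical
  let T := StrictHenselization D
  have : IsNoetherianRing T := Hensel20.isNoetherianRing_H
  have hsc : IsSepClosure (ResidueField D) (ResidueField T) :=
    Hensel.IsStrictHenselization.isSepClosure
  have := hsc.sep_closed
  have : IsGalois (ResidueField D) (ResidueField T) := IsSepClosure.isGalois
  have : HenselianLocalRing T := Hensel.IsStrictHenselization.henselian (R := D)
  have hff : Module.FaithfullyFlat D T := strictHenselization_faithfullyFlat T
  set J := P.map (algebraMap D T) with hJ
  set hT := h.map (algebraMap D T) with hhT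
  have hcomp : (residue T).comp (algebraMap D T) =
      (algebraMap (ResidueField D) (ResidueField T)).comp (residue D) := RingHom.ext fun _ => rfl
  have hTsep : (hT.map (residue T)).Separable := by
    rw [hhT, Polynomial.map_map, hcomp, ← Polynomial.map_map]; exact hsep.map
  obtain ⟨a, b, hb, hab⟩ := hsurj l
  -- one branch
  have hbot : (⊥ : Ideal T) ≤ J := bot_le
  obtain ⟨Q₀, hQ₀p, hQ₀⟩ := Ideal.exists_isPrime_liesOver_of_faithfullyFlat (B := T) P
  obtain ⟨Q₁, hQ₁, hQ₁le⟩ := Ideal.exists_minimalPrimes_le (I := J) (J := Q₀)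
    (Ideal.map_le_iff_le_comap.2 hQ₀.over.le)
  have : Q₁.IsPrime := hQ₁.1.1
  have hQ₁P : Q₁.comap (algebraMap D T) = P := by
    refine le_antisymm ((Ideal.comap_mono hQ₁le).trans_eq hQ₀.over.symm) ?_
    exact Ideal.map_le_iff_le_comap.1 hQ₁.1.2
  -- the roots
  let K₁ := FractionRing (T ⧸ Q₁)
  let j : T →+* K₁ := (algebraMap (T ⧸ Q₁) K₁).comp (Ideal.Quotient.mk Q₁)
  have hjD : ∀ d, j (algebraMap D T d) = 0 ↔ d ∈ P := fun d => by
    rw [← hQ₁P, Ideal.mem_comap, ← Ideal.Quotient.eq_zero_iff_mem]
    exact map_eq_zero_iff _ (IsFractionRing.injective (T ⧸ Q₁) K₁)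
  let c : K₁ := j (algebraMap D T a) / j (algebraMap D T b)
  have hb0 : j (algebraMap D T b) ≠ 0 := fun h0 => hb ((hjD b).1 h0)
  -- transfer the equation
  have hroot : (hT.map j).IsRoot c := by
    have key : (h.scaleRoots b).eval a ∈ P := by
      rw [← hker, RingHom.mem_ker, ← aeval_algebraMap_apply_eq_algebraMap_eval]
      rw [← hab, mul_comm]
      exact Polynomial.scaleRoots_aeval_eq_zero hl
    have key' : eval₂ (j.comp (algebraMap D T)) (j (algebraMap D T a)) (h.scaleRoots b) = 0 := by
      show eval₂ (j.comp (algebraMap D T)) ((j.comp (algebraMap D T)) a) (h.scaleRoots b) = 0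
      rw [eval₂_at_apply]
      exact (hjD _).2 key
    rw [show j (algebraMap D T a) = (j.comp (algebraMap D T)) b * c from
      (mul_div_cancel₀ _ hb0).symm, scaleRoots_eval₂_mul, mul_eq_zero] at key'
    rw [IsRoot.def, hhT, Polynomial.map_map, eval_map]
    exact key'.resolve_left (pow_ne_zero _ hb0)
  obtain ⟨r₁, hr₁root, hr₁⟩ : ∃ r₁ : T, eval r₁ hT = 0 ∧ j r₁ = c := by
    exact exists_root_of_isRoot_map hTsep (hh.map _) j hroot
  have hr₁Q : r₁ * algebraMap D T b - algebraMap D T a ∈ Q₁ := by
    rw [← Ideal.Quotient.eq_zero_iff_mem]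
    apply IsFractionRing.injective (T ⧸ Q₁) K₁
    rw [map_zero]
    show j (r₁ * algebraMap D T b - algebraMap D T a) = 0
    rw [map_sub, map_mul, hr₁, div_mul_cancel₀ _ hb0, sub_self]
  -- permuting the branches
  let Z := (h.map (residue D)).rootSet (ResidueField T)
  have hspl : ((h.map (residue D)).map (algebraMap (ResidueField D) (ResidueField T))).Splits :=
    IsSepClosed.splits_of_separable _ hsep.map
  have hcard : Fintype.card Z = h.natDegree := by
    rw [card_rootSet_eq_natDegree hsep hspl, hh.natDegree_map]
  have hmin : minpoly (ResidueField D) (residue T r₁) = h.map (residue D) := by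
    refine (minpoly.eq_of_irreducible_of_monic hirr ?_ (hh.map _)).symm
    rw [aeval_def, eval₂_map, ← hcomp, ← hom_eval₂, ← eval_map, ← hhT, hr₁root, map_zero]
  have hch : ∀ ζ : Z, ∃ (Q : Ideal T) (r : T), Q ∈ J.minimalPrimes ∧ residue T r = (ζ : ResidueField T) ∧
      r * algebraMap D T b - algebraMap D T a ∈ Q ∧ b ∉ Q.comap (algebraMap D T) := by
    intro ζ
    have hζ : aeval (ζ : ResidueField T) (minpoly (ResidueField D) (residue T r₁)) = 0 := by
      rw [hmin]; exact ((mem_rootSet.1 ζ.2).2)
    obtain ⟨τ, hτ⟩ := minpoly.exists_algEquiv_of_root (K := ResidueField D) (L := ResidueField T)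
      (Algebra.IsAlgebraic.isAlgebraic _) hζ
    have : IsLocalHom (algebraMap D T) := inferInstance
    have huniv := fun (σ : ResidueField T ≃ₐ[ResidueField D] ResidueField T) =>
      Hensel.IsStrictHenselization.universal (R := D) (S := T) T (algebraMap D T) σ.toRingEquiv.toRingHom
        (RingHom.ext fun x => σ.commutes x)
    obtain ⟨g, ⟨hgD, hgres⟩, -⟩ := huniv τ
    obtain ⟨g', ⟨hg'D, hg'res⟩, -⟩ := huniv τ.symm
    have hgg : ∀ (g g' : T →+* T) (σ : ResidueField T ≃ₐ[ResidueField D] ResidueField T),
        g.comp (algebraMap D T) = algebraMap D T → (∀ x, residue T (g x) = σ (residue T x)) →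
        g'.comp (algebraMap D T) = algebraMap D T → (∀ x, residue T (g' x) = σ.symm (residue T x)) →
        g.comp g' = RingHom.id T := fun g g' σ h1 h2 h3 h4 =>
      (huniv AlgEquiv.refl).unique
        ⟨by rw [RingHom.comp_assoc, h3, h1], fun x => by
          show residue T (g (g' x)) = residue T x
          rw [h2, h4, AlgEquiv.apply_symm_apply]⟩
        ⟨RingHom.id_comp _, fun x => rfl⟩
    have h12 := hgg g g' τ hgD hgres hg'D hg'res
    have h21 := hgg g' g τ.symm hg'D hg'res hgD (fun x => by rw [AlgEquiv.symm_symm]; exact hgres x)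
    refine ⟨Q₁.comap g, g' r₁, ⟨⟨Ideal.IsPrime.comap _, ?_⟩, fun Q' hQ' hle => ?_⟩, ?_, ?_, ?_⟩
    · rw [hJ, Ideal.map_le_iff_le_comap, Ideal.comap_comap, hgD]
      exact hQ₁P.ge
    · have h1 : Q'.comap g' ≤ Q₁ := fun x hx => by
        have h2 := hle hx
        rw [Ideal.mem_comap] at h2
        rwa [← RingHom.comp_apply, h12, RingHom.id_apply] at h2
      have := hQ'.1
      have h3 : J ≤ Q'.comap g' := by
        rw [hJ, Ideal.map_le_iff_le_comap, Ideal.comap_comap, hg'D]
        exact Ideal.map_le_iff_le_comap.1 hQ'.2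
      intro x hx
      have h4 := hQ₁.2 ⟨Ideal.IsPrime.comap _, h3⟩ h1 hx
      rw [Ideal.mem_comap, ← RingHom.comp_apply, h21, RingHom.id_apply] at h4
      exact h4
    · rw [hg'res]
      exact (AlgEquiv.symm_apply_eq τ).2 hτ.symm
    · rw [Ideal.mem_comap, map_sub, map_mul, ← RingHom.comp_apply g g', h12, RingHom.id_apply,
        ← RingHom.comp_apply g (algebraMap D T) b, ← RingHom.comp_apply g (algebraMap D T) a, hgD]
      exact hr₁Q
    · rw [Ideal.comap_comap, hgD, hQ₁P]
      exact hb
  choose Qf rf hQf hrf hmemf hbf using hch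
  have hinj : Function.Injective Qf := by
    intro ζ ζ' he
    by_contra hne
    have h1 : (rf ζ - rf ζ') * algebraMap D T b ∈ Qf ζ := by
      have h2 := hmemf ζ'
      rw [← he] at h2
      have h3 := Ideal.sub_mem _ (hmemf ζ) h2
      rwa [show rf ζ * algebraMap D T b - algebraMap D T a - (rf ζ' * algebraMap D T b - algebraMap D T a) =
        (rf ζ - rf ζ') * algebraMap D T b by ring] at h3
    have hu : IsUnit (rf ζ - rf ζ') := by
      rw [← residue_ne_zero_iff_isUnit, map_sub, sub_ne_zero, hrf, hrf]
      exact fun e => hne (Subtype.ext e)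
    exact hbf ζ (((hQf ζ).1.1.mem_or_mem h1).resolve_left
      fun hm => (hQf ζ).1.1.ne_top (Ideal.eq_top_of_isUnit_mem _ hm hu))
  have hfin : J.minimalPrimes.Finite := Ideal.finite_minimalPrimes_of_isNoetherianRing T J
  rw [← hcard, ← Nat.card_eq_fintype_card, ← Nat.card_coe_set_eq]
  have := hfin.to_subtype
  exact Nat.card_le_card_of_injective (fun ζ => (⟨Qf ζ, hQf ζ⟩ : J.minimalPrimes))
    fun x y e => hinj (congrArg Subtype.val e)

end Groth.Agent.Henz21
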