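import Mathlib
import Groth.Prelude.Def_Found
import Groth.Agent.Henz21.SepDegree
import Groth.Agent.Henz21.ShBranchUnram

/-!
Noetherianity of the base change of a Nagata local algebra over a henselian discrete valuation ring
to an algebraic closure of the fraction field.
-/

set_option autoImplicit false
set_option linter.style.haveILetI false

universe u

open IsLocalRing TensorProduct Polynomial

namespace Groth.Agent.Henz21

/-- A power of a non-unit not dividing a given nonzero element bounds the degrees of the finite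
extensions of the valued field. -/
theorem finrank_le_of_map {V : Type u} [CommRing V] [IsDomain V] [IsDiscreteValuationRing V]
    [HenselianLocalRing V] [IsAlgClosed (ResidueField V)] [CharZero V]
    (E : Type u) [Field E] [Algebra V E] [Algebra (FractionRing V) E] [IsScalarTower V (FractionRing V) E]
    [FiniteDimensional (FractionRing V) E]
    {B : Type u} [CommRing B] [Algebra V B] (f : integralClosure V E →ₐ[V] B)
    (n : Ideal B) [n.IsPrime] (hn : (maximalIdeal V).map (algebraMap V B) ≤ n)
    {π : V} (hπ : π ∈ maximalIdeal V) (hπ0 : π ≠ 0) {N : ℕ} (hN : algebraMap V B π ∉ n ^ N) :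
    Module.finrank (FractionRing V) E ≤ N := by
  classical
  have : CharZero (FractionRing V) := charZero_of_injective_algebraMap (IsFractionRing.injective V (FractionRing V))
  have : Algebra.IsSeparable (FractionRing V) E := inferInstance
  let V₁ := integralClosure V E
  have : IsIntegralClosure V₁ V E := inferInstance
  have hfin : Module.Finite V V₁ := IsIntegralClosure.finite V (FractionRing V) E V₁
  have hded : IsDedekindDomain V₁ := integralClosure.isDedekindDomain V (FractionRing V) E
  have : Algebra.IsIntegral V V₁ := Algebra.IsIntegral.of_finite V V₁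
  have hinjVE : Function.Injective (algebraMap V E) := by
    rw [IsScalarTower.algebraMap_eq V (FractionRing V) E]
    exact (algebraMap (FractionRing V) E).injective.comp (IsFractionRing.injective V (FractionRing V))
  have hinj : Function.Injective (algebraMap V V₁) := fun a b h => hinjVE (congrArg Subtype.val h)
  have hloc : IsLocalRing V₁ := isLocalRing_of_integral_henselian' (R := V) V₁
  have hne : ¬ IsField V₁ := fun hF =>
    IsDiscreteValuationRing.not_isField V (isField_of_isIntegral_of_isField hinj hF)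
  have hdvr : IsDiscreteValuationRing V₁ :=
    ((IsDiscreteValuationRing.TFAE V₁ hne).out 2 0).1 hded
  obtain ⟨ϖ, hϖ⟩ := IsDiscreteValuationRing.exists_irreducible V₁
  have hlocV : IsLocalHom (algebraMap V V₁) :=
    ((local_hom_TFAE (algebraMap V V₁)).out 0 4).mpr
      (eq_maximalIdeal (Ideal.isMaximal_comap_of_isIntegral_of_isMaximal (maximalIdeal V₁)))
  have hπ1 : algebraMap V V₁ π ≠ 0 := fun h => hπ0 (hinj (h.trans (map_zero _).symm))
  obtain ⟨e, u, he⟩ := IsDiscreteValuationRing.eq_unit_mul_pow_irreducible hπ1 hϖ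
  -- `ϖ` lies in `n`
  let m₁ := n.comap f.toRingHom
  have hm₁ : m₁ = maximalIdeal V₁ := by
    refine eq_maximalIdeal (Ideal.isMaximal_of_isIntegral_of_isMaximal_comap (R := V) m₁ ?_)
    have : m₁.comap (algebraMap V V₁) = maximalIdeal V := by
      rw [Ideal.comap_comap, AlgHom.toRingHom_eq_coe, AlgHom.comp_algebraMap]
      exact ((maximalIdeal.isMaximal V).eq_of_le (Ideal.IsPrime.comap _).ne_top
        (Ideal.map_le_iff_le_comap.1 hn)).symm
    rw [this]
    exact maximalIdeal.isMaximal V
  have hϖn : f ϖ ∈ n := by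
    show ϖ ∈ m₁
    rw [hm₁]
    exact hϖ.not_isUnit
  have heN : e < N := by
    by_contra hle
    apply hN
    rw [← f.commutes π, he, map_mul, map_pow]
    exact Ideal.mul_mem_left _ _ (Ideal.pow_le_pow_right (not_lt.1 hle) (Ideal.pow_mem_pow hϖn e))
  -- spanning by the powers of `ϖ`
  have hres : ∀ z : V₁, ∃ v : V, ∃ w : V₁, z = algebraMap V V₁ v + ϖ * w := by
    intro z
    have : Module.Finite (ResidueField V) (ResidueField V₁) := inferInstance
    obtain ⟨v, hv⟩ := (IsAlgClosed.algebraMap_bijective_of_isIntegral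
      (k := ResidueField V) (K := ResidueField V₁)).2 (residue V₁ z)
    obtain ⟨v, rfl⟩ := residue_surjective v
    have h : z - algebraMap V V₁ v ∈ maximalIdeal V₁ := by
      rw [← residue_eq_zero_iff, map_sub, sub_eq_zero]
      exact hv.symm
    rw [(IsDiscreteValuationRing.irreducible_iff_uniformizer ϖ).1 hϖ, Ideal.mem_span_singleton'] at h
    obtain ⟨w, hw⟩ := h
    exact ⟨v, w, by rw [mul_comm, hw]; ring⟩
  let G : Fin e → V₁ := fun i => ϖ ^ (i : ℕ)
  have hspan1 : ∀ k ≤ e, ∀ z : V₁, ∃ y ∈ Submodule.span V (Set.range G), ∃ w : V₁, z = y + ϖ ^ k * w := by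
    intro k hk
    induction k with
    | zero => exact fun z => ⟨0, zero_mem _, z, by simp⟩
    | succ k ih =>
      intro z
      obtain ⟨y, hy, w, hz⟩ := ih (by omega) z
      obtain ⟨v, w', hw⟩ := hres w
      refine ⟨y + v • ϖ ^ k, add_mem hy (Submodule.smul_mem _ _ (Submodule.subset_span ⟨⟨k, by omega⟩, rfl⟩)), w', ?_⟩
      rw [hz, hw, Algebra.smul_def]
      ring
  have hspan : Submodule.span V (Set.range G) = ⊤ := by
    refine top_le_iff.1 (Submodule.le_of_le_smul_of_le_jacobson_bot (I := maximalIdeal V) Module.Finite.fg_top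
      (maximalIdeal_le_jacobson _) fun z _ => ?_)
    obtain ⟨y, hy, w, hz⟩ := hspan1 e le_rfl z
    rw [hz]
    refine Submodule.add_mem_sup hy ?_
    have : ϖ ^ e * w = π • ((↑u⁻¹ : V₁) * w) := by
      rw [Algebra.smul_def, he, mul_comm (u : V₁) (ϖ ^ e), mul_assoc, Units.mul_inv_cancel_left]
    rw [this]
    exact Submodule.smul_mem_smul hπ Submodule.mem_top
  -- spanning the field
  let GE : Fin e → E := fun i => (G i : E)
  have hspanE : ∀ z : V₁, (z : E) ∈ Submodule.span (FractionRing V) (Set.range GE) := by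
    intro z
    have hz : z ∈ Submodule.span V (Set.range G) := hspan ▸ Submodule.mem_top
    induction hz using Submodule.span_induction with
    | mem x hx => obtain ⟨i, rfl⟩ := hx; exact Submodule.subset_span ⟨i, rfl⟩
    | zero => exact zero_mem _
    | add x y _ _ hx hy => exact add_mem hx hy
    | smul a x _ hx =>
      show a • (x : E) ∈ _
      rw [← algebraMap_smul (FractionRing V) a (x : E)]
      exact Submodule.smul_mem _ _ hx
  have htop : Submodule.span (FractionRing V) (Set.range GE) = ⊤ := by
    refine eq_top_iff.2 fun z _ => ?_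
    have halg : IsAlgebraic V z := (IsFractionRing.isAlgebraic_iff V (FractionRing V) E).2
      (Algebra.IsAlgebraic.isAlgebraic z)
    obtain ⟨a, ha, hint⟩ := halg.exists_integral_multiple
    have h := hspanE ⟨a • z, hint⟩
    have h2 := Submodule.smul_mem _ (algebraMap V (FractionRing V) a)⁻¹ h
    have h3 : z = (algebraMap V (FractionRing V) a)⁻¹ • (a • z) := by
      rw [← algebraMap_smul (FractionRing V) a z, inv_smul_smul₀
        (fun h0 => ha (IsFractionRing.injective V (FractionRing V) (h0.trans (map_zero _).symm)))]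
    rw [h3]
    exact h2
  calc Module.finrank (FractionRing V) E
      = (Set.range GE).finrank (FractionRing V) := by rw [Set.finrank, htop, finrank_top]
    _ ≤ Fintype.card (Fin e) := finrank_range_le_card GE
    _ ≤ N := by rw [Fintype.card_fin]; exact heN.le

set_option maxHeartbeats 2000000 in
set_option synthInstance.maxHeartbeats 100000 in
/-- The base change to an algebraic closure is Noetherian. -/
theorem isNoetherianRing_tensor_algClosure (V : Type u) [CommRing V] [IsDomain V] [IsDiscreteValuationRing V]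
    [HenselianLocalRing V] [IsAlgClosed (ResidueField V)] [CharZero V]
    (L : Type u) [Field L] [IsAlgClosed L] [Algebra V L] [FaithfulSMul V L] [Algebra.IsAlgebraic V L]
    (B : Type u) [CommRing B] [IsLocalRing B] [Algebra V B] [IsLocalHom (algebraMap V B)]
    (hN : CAlg.IsNagata B) : IsNoetherianRing (L ⊗[V] B) := by
  classical
  have : IsNoetherianRing B := hN.1
  let K := FractionRing V
  letI := FractionRing.liftAlgebra V L
  have : IsScalarTower V K L := FractionRing.isScalarTower_liftAlgebra V L
  have : CharZero K := charZero_of_injective_algebraMap (IsFractionRing.injective V K)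
  have : Algebra.IsAlgebraic K L :=
    (IsFractionRing.comap_isAlgebraic_iff (A := V) (K := K) (C := L)).1 inferInstance
  obtain ⟨π, hπ⟩ := IsDiscreteValuationRing.exists_irreducible V
  refine IsNoetherianRing.of_prime fun 𝔔 h𝔔 => ?_
  have : 𝔔.IsPrime := h𝔔
  let RL := L ⊗[V] B
  let F := FractionRing (RL ⧸ 𝔔)
  let qF : RL →+* F := (algebraMap (RL ⧸ 𝔔) F).comp (Ideal.Quotient.mk 𝔔)
  have hqF : ∀ z, qF z = 0 ↔ z ∈ 𝔔 := fun z => by
    rw [← Ideal.Quotient.eq_zero_iff_mem]
    exact map_eq_zero_iff _ (IsFractionRing.injective (RL ⧸ 𝔔) F)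
  let jLF : L →+* F := qF.comp Algebra.TensorProduct.includeLeftRingHom
  let jBF : B →+* F := qF.comp (Algebra.TensorProduct.includeRight : B →ₐ[V] RL).toRingHom
  have hjV : ∀ v, jBF (algebraMap V B v) = jLF (algebraMap V L v) := fun v =>
    congrArg qF (((Algebra.TensorProduct.includeRight : B →ₐ[V] RL).commutes v).trans
      (Algebra.TensorProduct.algebraMap_apply v))
  let P := RingHom.ker jBF
  have : P.IsPrime := RingHom.ker_isPrime jBF
  let κP := FractionRing (B ⧸ P)
  let jP : B ⧸ P →+* F := RingHom.kerLift jBF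
  have hjP : Function.Injective jP := RingHom.kerLift_injective jBF
  let ιP : κP →+* F := IsFractionRing.lift hjP
  have hιP : ∀ b : B, ιP (algebraMap (B ⧸ P) κP (Ideal.Quotient.mk P b)) = jBF b := fun b =>
    IsFractionRing.lift_algebraMap hjP _
  have hπP : algebraMap V B π ∉ P := fun h => by
    have h1 : jLF (algebraMap V L π) = 0 := (hjV π).symm.trans h
    exact hπ.ne_zero (FaithfulSMul.algebraMap_injective V L ((jLF.injective (h1.trans (map_zero _).symm)).trans (map_zero _).symm))
  -- the algebraic closure of `K` in the residue field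
  have hKrange : ∀ a : K, jLF (algebraMap K L a) ∈ ιP.fieldRange := by
    intro a
    obtain ⟨x, y, hy, rfl⟩ := IsFractionRing.div_surjective (A := V) a
    have hx : ∀ v : V, jLF (algebraMap K L (algebraMap V K v)) ∈ ιP.fieldRange := fun v =>
      ⟨algebraMap (B ⧸ P) κP (Ideal.Quotient.mk P (algebraMap V B v)), by
        rw [hιP, hjV, ← IsScalarTower.algebraMap_apply]⟩
    rw [map_div₀, map_div₀]
    exact div_mem (hx x) (hx y)
  let K'' : IntermediateField K L := (ιP.fieldRange.comap jLF).toIntermediateField hKrange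
  have : IsScalarTower V K'' L :=
    IsScalarTower.of_algebraMap_eq fun v => rfl
  have hψ0 : ∀ l : K'', ∃ c : κP, ιP c = jLF l := fun l => l.2
  choose ψ0 hψ0 using hψ0
  let ψ : K'' →+* κP :=
    { toFun := ψ0
      map_one' := ιP.injective ((hψ0 1).trans (by simp))
      map_mul' := fun x y => ιP.injective ((hψ0 _).trans (by rw [map_mul, hψ0, hψ0]; exact map_mul jLF _ _))
      map_zero' := ιP.injective ((hψ0 0).trans (by simp))
      map_add' := fun x y => ιP.injective ((hψ0 _).trans (by rw [map_add, hψ0, hψ0]; exact map_add jLF _ _)) }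
  have hψ : ∀ l : K'', ιP (ψ l) = jLF l := hψ0
  -- it is finite
  let B₁ := integralClosure (B ⧸ P) κP
  have hB₁fin : Module.Finite (B ⧸ P) B₁ := hN.2 P κP (Module.Finite.self _)
  have : IsNoetherianRing B₁ := IsNoetherianRing.of_finite (B ⧸ P) B₁
  have : Algebra.IsIntegral (B ⧸ P) B₁ := Algebra.IsIntegral.of_finite _ _
  have : IsLocalRing (B ⧸ P) :=
    have : Nontrivial (B ⧸ P) := Ideal.Quotient.nontrivial_iff.2 Ideal.IsPrime.ne_top'
    .of_surjective' (Ideal.Quotient.mk P) Ideal.Quotient.mk_surjective
  obtain ⟨n, hnmax⟩ := Ideal.exists_maximal B₁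
  let algV : V →+* B₁ := (algebraMap (B ⧸ P) B₁).comp ((Ideal.Quotient.mk P).comp (algebraMap V B))
  letI : Algebra V B₁ := algV.toAlgebra
  have hnV : (maximalIdeal V).map (algebraMap V B₁) ≤ n := by
    rw [Ideal.map_le_iff_le_comap]
    intro v hv
    show algebraMap (B ⧸ P) B₁ (Ideal.Quotient.mk P (algebraMap V B v)) ∈ n
    rw [← Ideal.mem_comap, eq_maximalIdeal (Ideal.isMaximal_comap_of_isIntegral_of_isMaximal (R := B ⧸ P) n)]
    have : IsLocalHom (Ideal.Quotient.mk P) := IsLocalHom.of_surjective _ Ideal.Quotient.mk_surjective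
    exact map_nonunit (Ideal.Quotient.mk P) _ (map_nonunit (algebraMap V B) v hv)
  have hπB₁ : algebraMap V B₁ π ≠ 0 := fun h => hπP (by
    rw [← Ideal.Quotient.eq_zero_iff_mem]
    apply IsFractionRing.injective (B ⧸ P) κP
    rw [map_zero]
    exact congrArg Subtype.val h)
  obtain ⟨N, hπN⟩ : ∃ N, algebraMap V B₁ π ∉ n ^ N := by
    by_contra! hall
    exact hπB₁ (by
      have : algebraMap V B₁ π ∈ ⨅ i, n ^ i := (Ideal.mem_iInf).2 hall
      rwa [Ideal.iInf_pow_eq_bot_of_isDomain n hnmax.ne_top, Ideal.mem_bot] at this)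
  have hψV : ∀ v : V, ψ (algebraMap V K'' v) = algebraMap (B ⧸ P) κP (Ideal.Quotient.mk P (algebraMap V B v)) :=
    fun v => ιP.injective (by rw [hψ, hιP, hjV]; rfl)
  have hfd : FiniteDimensional K K'' := by
    refine finiteDimensional_of_natDegree_le K K'' N fun x => ?_
    rw [← IntermediateField.adjoin.finrank (Algebra.IsIntegral.isIntegral x)]
    let E := IntermediateField.adjoin K {x}
    have : FiniteDimensional K E := IntermediateField.adjoin.finiteDimensional (Algebra.IsIntegral.isIntegral x)
    let g : integralClosure V E →+* B₁ :=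
      ((ψ.comp E.val.toRingHom).comp (integralClosure V E).val.toRingHom).codRestrict B₁ fun z => by
        obtain ⟨p, hp, hpz⟩ := z.2
        refine ⟨p.map ((Ideal.Quotient.mk P).comp (algebraMap V B)), hp.map _, ?_⟩
        rw [eval₂_map]
        have h := congrArg (ψ.comp E.val.toRingHom) hpz
        rw [hom_eval₂, map_zero] at h
        rw [← h]
        congr 1
        exact RingHom.ext fun v => (hψV v).symm
    let gA : integralClosure V E →ₐ[V] B₁ :=
      { g with commutes' := fun v => Subtype.ext (hψV v) }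
    exact finrank_le_of_map E gA n hnV hπ.not_isUnit hπ.ne_zero hπN
  -- the finite level
  have : Algebra.EssFiniteType V K'' := by
    have : Algebra.EssFiniteType V K := Algebra.EssFiniteType.of_isLocalization K (nonZeroDivisors V)
    exact Algebra.EssFiniteType.comp V K K''
  let R'' := K'' ⊗[V] B
  have : IsNoetherianRing R'' := by
    have : IsNoetherianRing (B ⊗[V] K'') := Algebra.EssFiniteType.isNoetherianRing B _
    exact isNoetherianRing_of_ringEquiv _ (Algebra.TensorProduct.comm V B K'').toRingEquiv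
  let ι : R'' →ₐ[V] RL := Algebra.TensorProduct.map (IsScalarTower.toAlgHom V K'' L) (AlgHom.id V B)
  let Q'' := 𝔔.comap ι.toRingHom
  suffices hle : 𝔔 ≤ Q''.map ι.toRingHom by
    rw [le_antisymm hle Ideal.map_comap_le]
    exact Ideal.FG.map (IsNoetherian.noetherian Q'') _
  intro z hz
  obtain ⟨s, hs⟩ := TensorProduct.exists_finset z
  let E := IntermediateField.adjoin K'' ((s.image Prod.fst : Finset L) : Set L)
  have : Algebra.IsAlgebraic K'' L := Algebra.IsAlgebraic.tower_top (K := K) K''
  have : FiniteDimensional K'' E :=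
    IntermediateField.finiteDimensional_adjoin fun l _ => Algebra.IsIntegral.isIntegral l
  obtain ⟨θ0, hθ0⟩ := Field.exists_primitive_element K'' E
  let θ : L := θ0
  have hθint : IsIntegral K'' θ := Algebra.IsIntegral.isIntegral θ
  set m := minpoly K'' θ with hm
  have hl : ∀ x : L, x ∈ E → ∃ p : K''[X], p.degree < m.degree ∧ aeval θ p = x := by
    intro x hx
    have h1 : x ∈ IntermediateField.lift (IntermediateField.adjoin K'' ({θ0} : Set E)) :=
      (IntermediateField.mem_lift (⟨x, hx⟩ : E)).2 (hθ0 ▸ IntermediateField.mem_top)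
    rw [IntermediateField.lift_adjoin_simple, ← IntermediateField.mem_toSubalgebra,
      IntermediateField.adjoin_simple_toSubalgebra_of_isAlgebraic hθint.isAlgebraic,
      Algebra.adjoin_singleton_eq_range_aeval] at h1
    obtain ⟨p, hp⟩ := h1
    exact ⟨p %ₘ m, degree_modByMonic_lt _ (minpoly.monic hθint),
      (aeval_modByMonic_eq_self_of_root (minpoly.aeval _ _)).trans hp⟩
  choose pl hpl using fun i : s => hl (i : L × B).1
    (IntermediateField.subset_adjoin _ _ (Finset.mem_coe.2 (Finset.mem_image_of_mem _ i.2)))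
  let a : K'' →+* R'' := Algebra.TensorProduct.includeLeftRingHom
  let G : R''[X] := ∑ i : s, C ((1 : K'') ⊗ₜ[V] (i : L × B).2) * (pl i).map a
  let Θ : RL := θ ⊗ₜ (1 : B)
  have hιa : ι.toRingHom.comp a =
      (Algebra.TensorProduct.includeLeftRingHom : L →+* RL).comp (algebraMap K'' L) :=
    RingHom.ext fun l => by
      show ι (l ⊗ₜ (1 : B)) = (algebraMap K'' L l) ⊗ₜ (1 : B)
      exact Algebra.TensorProduct.map_tmul _ _ _ _
  have hGz : eval₂ ι.toRingHom Θ G = z := by
    rw [eval₂_finsetSum, hs, ← Finset.sum_coe_sort s (fun i : L × B => i.1 ⊗ₜ[V] i.2)]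
    refine Finset.sum_congr rfl fun i _ => ?_
    rw [eval₂_mul, eval₂_C, eval₂_map, hιa,
      show Θ = (Algebra.TensorProduct.includeLeftRingHom : L →+* RL) θ from rfl, ← hom_eval₂, ← aeval_def,
      (hpl i).2]
    show (algebraMap K'' L 1 ⊗ₜ[V] (i : L × B).2) * ((i : L × B).1 ⊗ₜ[V] (1 : B)) = _
    rw [map_one, Algebra.TensorProduct.tmul_mul_tmul, one_mul, mul_one]
  have hGdeg : G.degree < m.degree := by
    refine (degree_sum_le _ _).trans_lt ((Finset.sup_lt_iff (bot_lt_iff_ne_bot.2 ?_)).2 fun i _ => ?_)
    · rw [Ne, degree_eq_bot]; exact minpoly.ne_zero hθint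
    · refine (degree_mul_le _ _).trans_lt ?_
      calc (C ((1 : K'') ⊗ₜ[V] (i : L × B).2)).degree + ((pl i).map a).degree
          ≤ 0 + (pl i).degree := add_le_add degree_C_le degree_map_le
        _ = (pl i).degree := zero_add _
        _ < _ := (hpl i).1
  -- linear disjointness
  let ψA : K'' →ₐ[V] κP := { ψ with commutes' := fun v => (hψV v).trans (by
    rw [IsScalarTower.algebraMap_apply V (B ⧸ P) κP]; rfl) }
  let ρ : R'' →+* κP := (Algebra.TensorProduct.productMap ψA
    (IsScalarTower.toAlgHom V B κP)).toRingHom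
  have hρ : ιP.comp ρ = qF.comp ι.toRingHom := by
    refine RingHom.ext fun t => ?_
    induction t using TensorProduct.induction_on with
    | zero => simp
    | tmul l b =>
      show ιP (ψ l * algebraMap B κP b) = qF ((algebraMap K'' L l) ⊗ₜ[V] b)
      rw [map_mul, hψ, IsScalarTower.algebraMap_apply B (B ⧸ P) κP]
      show jLF l * ιP (algebraMap (B ⧸ P) κP (Ideal.Quotient.mk P b)) = _
      rw [hιP]
      show qF ((l : L) ⊗ₜ 1) * qF (1 ⊗ₜ b) = _
      rw [← map_mul, Algebra.TensorProduct.tmul_mul_tmul, mul_one, one_mul]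
      rfl
    | add x y hx hy => rw [map_add, map_add, hx, hy]
  have hroot : eval₂ ιP (jLF θ) (G.map ρ) = 0 := by
    rw [eval₂_map, hρ, show jLF θ = qF Θ from rfl, ← hom_eval₂, hGz]
    exact (hqF z).2 hz
  have hzero : G.map ρ = 0 := by
    by_contra hne
    letI : Algebra κP F := ιP.toAlgebra
    have hmθ : aeval (jLF θ) (m.map ψ) = 0 := by
      rw [aeval_def, eval₂_map, show (algebraMap κP F).comp ψ = jLF.comp (algebraMap K'' L) from RingHom.ext hψ,
        ← hom_eval₂, ← aeval_def, minpoly.aeval, map_zero]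
    have hθF : IsIntegral κP (jLF θ) := ⟨_, (minpoly.monic hθint).map ψ, by rw [← aeval_def]; exact hmθ⟩
    set g := minpoly κP (jLF θ) with hg
    have hgdvd : g.map ιP ∣ (m.map (algebraMap K'' L)).map jLF := by
      have := Polynomial.map_dvd ιP (minpoly.dvd κP _ hmθ)
      rwa [Polynomial.map_map, show ιP.comp ψ = jLF.comp (algebraMap K'' L) from RingHom.ext hψ,
        ← Polynomial.map_map] at this
    have hgm : (g.map ιP).Monic := (minpoly.monic hθF).map _
    have hmL : (m.map (algebraMap K'' L)).Monic := (minpoly.monic hθint).map _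
    have hsplit : ((m.map (algebraMap K'' L)).map jLF).Splits := (IsAlgClosed.splits _).map jLF
    have hlifts : g.map ιP ∈ Polynomial.lifts jLF := by
      rw [(hsplit.of_dvd (hmL.map jLF).ne_zero hgdvd).eq_prod_roots_of_monic hgm]
      refine Subsemiring.multiset_prod_mem _ _ fun p hp => ?_
      obtain ⟨w, hw, rfl⟩ := Multiset.mem_map.1 hp
      have hw' : w ∈ ((m.map (algebraMap K'' L)).map jLF).roots :=
        Multiset.mem_of_le (roots.le_of_dvd (hmL.map jLF).ne_zero hgdvd) hw
      rw [(IsAlgClosed.splits (m.map (algebraMap K'' L))).roots_map jLF] at hw'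
      obtain ⟨w0, -, rfl⟩ := Multiset.mem_map.1 hw'
      exact ⟨X - C w0, by simp⟩
    have hglift : g ∈ Polynomial.lifts ψ := (Polynomial.lifts_iff_coeff_lifts _).2 fun i => by
      obtain ⟨l, hl⟩ := (Polynomial.lifts_iff_coeff_lifts _).1 hlifts i
      rw [coeff_map] at hl
      exact ⟨⟨l, g.coeff i, hl.symm⟩, ιP.injective ((hψ _).trans hl)⟩
    obtain ⟨g0, hg0, hg0deg, hg0m⟩ :=
      Polynomial.lifts_and_degree_eq_and_monic hglift (minpoly.monic hθF)
    have hg0θ : aeval θ g0 = 0 := by
      apply jLF.injective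
      rw [map_zero, aeval_def, hom_eval₂, ← show ιP.comp ψ = jLF.comp (algebraMap K'' L) from RingHom.ext hψ,
        ← eval₂_map, hg0]
      exact minpoly.aeval κP (jLF θ)
    have h1 : m.degree ≤ g.degree := hg0deg ▸ minpoly.degree_le_of_ne_zero K'' θ hg0m.ne_zero hg0θ
    have h2 : g.degree ≤ (G.map ρ).degree := minpoly.degree_le_of_ne_zero κP _ hne hroot
    exact absurd ((h1.trans h2).trans degree_map_le) (not_le.2 hGdeg)
  rw [← hGz, eval₂_eq_sum, Polynomial.sum]
  refine sum_mem fun i _ => Ideal.mul_mem_right _ _ (Ideal.mem_map_of_mem _ ?_)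
  show ι (G.coeff i) ∈ 𝔔
  rw [← hqF]
  have h := congrArg (fun p => ιP (coeff p i)) hzero
  simp only [coeff_map, coeff_zero, map_zero] at h
  rw [← RingHom.comp_apply, hρ] at h
  exact h

end Groth.Agent.Henz21
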