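import Mathlib
import Groth.Agent.Henz21.MilnorFibre
import Groth.Agent.Henz21.GRingJ2
import Groth.Agent.CAlg1.Andre.Strict
import Groth.Agent.CAlg1.GRingBasic
import Groth.Agent.S2650
import Groth.Agent.S2651
import Groth.Agent.S2653
import Groth.Agent.S2654

/-! Auxiliary facts for algebraic Milnor fibres. -/

set_option autoImplicit false
universe u

open IsLocalRing

namespace Groth.Agent.Henz21

/-- A perfect separably closed field is algebraically closed. -/
theorem isAlgClosed_of_perfect_sepClosed (k : Type u) [Field k] [IsSepClosed k] [PerfectField k] :
    IsAlgClosed k :=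
  IsAlgClosed.of_exists_root k fun p _ hirr =>
    IsSepClosed.exists_root p (Polynomial.degree_pos_of_irreducible hirr).ne'
      (PerfectField.separable_of_irreducible hirr)

/-- Localizations of finite type algebras over a discrete valuation ring of characteristic zero are
excellent. -/
theorem isExcellent_atPrime_finiteType (V A : Type u) [CommRing V] [IsDomain V]
    [IsDiscreteValuationRing V] [CharZero V] [CommRing A] [Algebra V A] [Algebra.FiniteType V A]
    (p : Ideal A) [p.IsPrime] : EGA4.IsExcellent (Localization.AtPrime p) :=
  S2650.result A (S2651.result V (S2653.result V) A) p.primeCompl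

/-- The structure map to the local ring at a prime in the closed fibre is local. -/
theorem isLocalHom_to_atPrime (V A : Type u) [CommRing V] [IsLocalRing V] [CommRing A] [Algebra V A]
    (p : Ideal A) [p.IsPrime] (hp : (maximalIdeal V).map (algebraMap V A) ≤ p) :
    IsLocalHom (algebraMap V (Localization.AtPrime p)) := by
  refine ((local_hom_TFAE _).out 0 4).mpr ?_
  refine ((maximalIdeal.isMaximal V).eq_of_le ?_ fun v hv => ?_).symm
  · exact (Ideal.IsPrime.comap _).ne_top
  · rw [Ideal.mem_comap, IsScalarTower.algebraMap_apply V A (Localization.AtPrime p)]
    exact (IsLocalization.AtPrime.to_map_mem_maximal_iff _ p _).2 (hp (Ideal.mem_map_of_mem _ hv))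

/-- A ring with Noetherian spectrum has finitely many connected components. -/
theorem finite_connectedComponents (R : Type u) [CommRing R] [IsNoetherianRing R] :
    Finite (ConnectedComponents (PrimeSpectrum R)) := by
  have hfin := TopologicalSpace.NoetherianSpace.finite_irreducibleComponents (α := PrimeSpectrum R)
  have : Finite ↥(irreducibleComponents (PrimeSpectrum R)) := hfin.to_subtype
  refine Finite.of_surjective
    (fun C : ↥(irreducibleComponents (PrimeSpectrum R)) => ConnectedComponents.mk C.2.1.nonempty.some) ?_
  intro c
  obtain ⟨x, rfl⟩ := ConnectedComponents.surjective_coe c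
  refine ⟨⟨irreducibleComponent x, irreducibleComponent_mem_irreducibleComponents x⟩, ?_⟩
  rw [ConnectedComponents.coe_eq_coe]
  exact connectedComponent_eq (isIrreducible_irreducibleComponent.isConnected.subset_connectedComponent
    (Set.Nonempty.some_mem _) mem_irreducibleComponent)

end Groth.Agent.Henz21
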