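import Mathlib
import Groth.Agent.Henz21.Unique
import Groth.Agent.Hensel20.Stages
import Groth.Agent.Hensel20.HenzProps
import Groth.Agent.SubSh14.EtaleNormalization

/-!
Normalization commutes with henselization; the residue fields of the normalization of a local ring
and of its henselization.
-/

universe u

open IsLocalRing Polynomial TensorProduct

namespace Groth.Agent.Henz21

variable {A : Type u} [CommRing A] [IsLocalRing A]

/-- The map of total rings of fractions induced by a flat injective map. -/
theorem exists_fractionRing_map {E H : Type u} [CommRing E] [CommRing H] [Algebra A E] [Algebra A H]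
    (ψ : E →ₐ[A] H) (hψ : ψ.toRingHom.Flat) (hinj : Function.Injective ψ) :
    ∃ Φ : FractionRing E →ₐ[A] FractionRing H, Function.Injective Φ ∧
      ∀ e, Φ (algebraMap E (FractionRing E) e) = algebraMap H (FractionRing H) (ψ e) := by
  letI : Algebra E H := ψ.toRingHom.toAlgebra
  have hf : Module.Flat E H := hψ
  have hunit : ∀ y : nonZeroDivisors E, IsUnit (((IsScalarTower.toAlgHom A H (FractionRing H)).comp ψ) y) :=
    fun y => IsLocalization.map_units (FractionRing H)
      (⟨_, SubSh14.algebraMap_mem_nonZeroDivisors (A := E) (E := H) y.2⟩ : nonZeroDivisors H)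
  let Φ : FractionRing E →ₐ[A] FractionRing H := IsLocalization.liftAlgHom hunit
  have hΦ : ∀ e, Φ (algebraMap E (FractionRing E) e) = algebraMap H (FractionRing H) (ψ e) := fun e =>
    IsLocalization.lift_eq _ e
  refine ⟨Φ, ?_, hΦ⟩
  rw [injective_iff_map_eq_zero]
  intro x hx
  obtain ⟨⟨a, b⟩, hab⟩ := IsLocalization.surj (nonZeroDivisors E) x
  have h := congrArg Φ hab
  rw [map_mul, hx, zero_mul, hΦ] at h
  have ha : a = 0 := hinj ((IsFractionRing.injective H (FractionRing H)
    (h.symm.trans (map_zero _).symm)).trans (map_zero ψ).symm)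
  simp only [ha, map_zero] at hab
  exact (IsLocalization.map_units (FractionRing E) b).mul_left_eq_zero.1 hab

set_option maxHeartbeats 800000 in
/-- Integral elements of the total ring of fractions of the henselization come from the normalization. -/
theorem mem_range_normMap_henselization [IsReduced A] [IsNoetherianRing A] (Ah : Type u) [CommRing Ah]
    [IsLocalRing Ah] [Algebra A Ah] [IsLocalHom (algebraMap A Ah)] [Hensel.IsHenselization A Ah]
    [Module.Flat A Ah] {x : FractionRing Ah} (hx : IsIntegral Ah x) :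
    x ∈ (SubSh14.normMap A Ah).range := by
  classical
  let e := henselizationEquiv (R := A) Ah
  obtain ⟨p, hp, hpx⟩ := hx
  obtain ⟨⟨a, b⟩, hab⟩ := IsLocalization.surj (nonZeroDivisors Ah) x
  let s : Finset Ah := p.coeffs ∪ {a, (b : Ah)}
  obtain ⟨i, hi⟩ := Hensel20.exists_stage s fun h => e.symm h
  let E := Hensel20.Stage i
  have hE : EGA4loc.IsEssentiallyEtale A E :=
    ⟨i.S, inferInstance, inferInstance, Hensel20.stagePrime i, inferInstance, inferInstance,
      Hensel20.stagePrime_comap i, ⟨AlgEquiv.refl⟩⟩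
  have := SubSh14.flat hE
  let ψ : E →ₐ[A] Ah := e.toAlgHom.comp (Hensel20.stageHom i)
  have hψflat : ψ.toRingHom.Flat := by
    refine RingHom.Flat.comp ?_ (RingHom.Flat.of_bijective e.bijective)
    exact RingHom.flat_algebraMap_iff.2 (inferInstance : Module.Flat (Hensel20.Stage i) _)
  have hψinj : Function.Injective ψ := e.injective.comp (Hensel20.stageHom_injective i)
  obtain ⟨Φ, hΦinj, hΦ⟩ := exists_fractionRing_map ψ hψflat hψinj
  have hmem : ∀ h ∈ s, h ∈ ψ.toRingHom.range := fun h hh => by
    obtain ⟨y, hy⟩ := hi h hh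
    exact ⟨y, (congrArg e hy).trans (e.apply_symm_apply h)⟩
  obtain ⟨a', ha'⟩ := hmem a (by simp [s])
  obtain ⟨b', hb'⟩ := hmem b (by simp [s])
  change ψ a' = a at ha'
  change ψ b' = b at hb'
  have hb'nz : b' ∈ nonZeroDivisors E := mem_nonZeroDivisors_iff_right.2 fun y hy => hψinj (by
    rw [map_zero]
    exact (mem_nonZeroDivisors_iff_right.1 b.2) _ (by rw [← hb', ← map_mul, hy, map_zero]))
  obtain ⟨p', hp', -, hp'm⟩ := Polynomial.lifts_and_degree_eq_and_monic
    ((Polynomial.lifts_iff_coeff_lifts (f := ψ.toRingHom) p).2 fun n => by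
      by_cases hn : p.coeff n = 0
      · exact ⟨0, by rw [map_zero, hn]⟩
      · exact hmem _ (Finset.mem_union_left _ (Polynomial.coeff_mem_coeffs hn))) hp
  let x' : FractionRing E := IsLocalization.mk' (FractionRing E) a' (⟨b', hb'nz⟩ : nonZeroDivisors E)
  have hxx' : Φ x' = x := by
    apply (IsLocalization.map_units (FractionRing Ah) b).mul_right_cancel
    rw [hab, ← hb', ← hΦ, ← map_mul, IsLocalization.mk'_spec, hΦ, ha']
  have hx' : IsIntegral E x' := ⟨p', hp'm, hΦinj (by
    rw [map_zero, ← hpx, ← hp', eval₂_map, ← hxx']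
    show Φ.toRingHom _ = _
    rw [hom_eval₂, show Φ.toRingHom.comp (algebraMap E (FractionRing E)) =
      (algebraMap Ah (FractionRing Ah)).comp ψ.toRingHom from RingHom.ext hΦ]
    rfl)⟩
  obtain ⟨z, hz⟩ := SubSh14.mem_range_normMap hE hx'
  refine ⟨Algebra.TensorProduct.map (AlgHom.id A _) ψ z, ?_⟩
  rw [← hxx', ← hz]
  show (SubSh14.normMap A Ah).comp (Algebra.TensorProduct.map (AlgHom.id A _) ψ) z =
    Φ.comp (SubSh14.normMap A E) z
  congr 1
  have hb : Φ.comp (SubSh14.liftBase A E) = SubSh14.liftBase A Ah :=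
    IsLocalization.algHom_ext (nonZeroDivisors A) (Subsingleton.elim _ _)
  refine Algebra.TensorProduct.ext' fun y c => ?_
  simp only [AlgHom.comp_apply, Algebra.TensorProduct.map_tmul, AlgHom.id_apply, SubSh14.normMap_tmul,
    map_mul, hΦ]
  rw [← hb]
  rfl

/-- The residue field does not change. -/
theorem exists_sub_mem_maximalIdeal_henselization (Ah : Type u) [CommRing Ah] [IsLocalRing Ah]
    [Algebra A Ah] [IsLocalHom (algebraMap A Ah)] [Hensel.IsHenselization A Ah] (x : Ah) :
    ∃ a : A, x - algebraMap A Ah a ∈ maximalIdeal Ah := by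
  let e := henselizationEquiv (R := A) Ah
  obtain ⟨a, ha⟩ := residue_surjective (H.proj A (ResidueField A) (e.symm x))
  refine ⟨a, fun hu => ?_⟩
  have h := (hu.map e.symm).map (H.proj A (ResidueField A))
  rw [map_sub, map_sub, AlgEquiv.commutes, AlgHom.commutes, ← ha] at h
  exact h.ne_zero (sub_self _)

/-- A strict henselization is a strict henselization of the henselization. -/
theorem isStrictHenselization_of_henselization (Ah Ash : Type u)
    [CommRing Ah] [IsLocalRing Ah] [Algebra A Ah] [IsLocalHom (algebraMap A Ah)]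
    [Hensel.IsHenselization A Ah] [CommRing Ash] [IsLocalRing Ash] [Algebra A Ash]
    [IsLocalHom (algebraMap A Ash)] [hS : Hensel.IsStrictHenselization A Ash] [Algebra Ah Ash]
    [IsScalarTower A Ah Ash] :
    ∃ _ : IsLocalHom (algebraMap Ah Ash), Hensel.IsStrictHenselization Ah Ash := by
  have hloc : IsLocalHom (algebraMap Ah Ash) := by
    refine ((local_hom_TFAE _).out 0 2).mpr ?_
    rw [← henselization_map_maximalIdeal (R := A) (S := Ah), Ideal.map_map, ← IsScalarTower.algebraMap_eq]
    exact ((local_hom_TFAE _).out 0 2).mp ‹IsLocalHom (algebraMap A Ash)›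
  refine ⟨hloc, ⟨hS.henselian, ?_, ?_⟩⟩
  · have := hS.isSepClosure.separable
    have : IsScalarTower (ResidueField A) (ResidueField Ah) (ResidueField Ash) := by
      refine IsScalarTower.of_algebraMap_eq fun y => ?_
      obtain ⟨r, rfl⟩ := residue_surjective y
      exact congrArg (residue Ash) (IsScalarTower.algebraMap_apply A Ah Ash r)
    exact ⟨hS.isSepClosure.sep_closed,
      Algebra.isSeparable_tower_top_of_isSeparable (ResidueField A) (ResidueField Ah) (ResidueField Ash)⟩
  · intro T _ _ f _ τ hτ
    have hf0 : IsLocalHom (f.comp (algebraMap A Ah)) := RingHom.isLocalHom_comp _ _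
    obtain ⟨g, ⟨hg1, hg2⟩, hgu⟩ := hS.universal T (f.comp (algebraMap A Ah)) τ (RingHom.ext fun y => by
      obtain ⟨r, rfl⟩ := residue_surjective y
      have h := RingHom.congr_fun hτ (residue Ah (algebraMap A Ah r))
      rw [RingHom.comp_apply, ResidueField.map_residue, ← IsScalarTower.algebraMap_apply] at h
      exact h.trans (ResidueField.map_residue f _))
    refine ⟨g, ⟨?_, hg2⟩, fun g' hg' => hgu g' ⟨?_, hg'.2⟩⟩
    · refine (Hensel.IsHenselization.universal (R := A) (S := Ah) T (f.comp (algebraMap A Ah)) hf0).unique ?_ rfl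
      rw [RingHom.comp_assoc, ← IsScalarTower.algebraMap_eq, hg1]
    · rw [IsScalarTower.algebraMap_eq A Ah Ash, ← RingHom.comp_assoc, hg'.1]

/-- Pure inseparability of all residue fields of a normalization, stated with `p`-th powers. -/
def ResiduePurelyInsep (R : Type u) [CommRing R] : Prop :=
  ∀ (M : Ideal (integralClosure R (FractionRing R))) [M.IsMaximal],
    ∀ x : integralClosure R (FractionRing R) ⧸ M, ∃ n : ℕ,
      x ^ (ringExpChar (integralClosure R (FractionRing R) ⧸ M)) ^ n ∈
        ((Ideal.Quotient.mk M).comp (algebraMap R (integralClosure R (FractionRing R)))).range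

/-- Transport of the condition along an isomorphism of the quotients. -/
theorem exists_pow_mem_range_iff {F G : Type u} [Field F] [Field G] (e : F ≃+* G) {R R' : Type u}
    [CommRing R] [CommRing R'] (f : R →+* F) (g : R' →+* G) (h : Set.range g = e '' Set.range f) :
    (∀ x : F, ∃ n : ℕ, x ^ ringExpChar F ^ n ∈ f.range) ↔
      ∀ y : G, ∃ n : ℕ, y ^ ringExpChar G ^ n ∈ g.range := by
  have : ExpChar F (ringExpChar G) := expChar_of_injective_ringHom (f := e.symm.toRingHom) e.symm.injective (ringExpChar G)
  rw [ringExpChar.eq F (ringExpChar G)]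
  constructor
  · intro hF y
    obtain ⟨n, r, hr⟩ := hF (e.symm y)
    refine ⟨n, ?_⟩
    show y ^ ringExpChar G ^ n ∈ Set.range g
    rw [h]
    exact ⟨_, ⟨r, hr⟩, by rw [map_pow, e.apply_symm_apply]⟩
  · intro hG x
    obtain ⟨n, hn⟩ := hG (e x)
    have hn' : e x ^ ringExpChar G ^ n ∈ Set.range g := hn
    rw [h, ← map_pow] at hn'
    obtain ⟨_, ⟨r, rfl⟩, hr⟩ := hn'
    exact ⟨n, r, e.injective hr⟩

set_option maxHeartbeats 800000 in
/-- Pure inseparability of the residue fields of the normalization is insensitive to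
henselization. -/
theorem residuePurelyInsep_henselization_iff [IsReduced A] [IsNoetherianRing A] (Ah : Type u)
    [CommRing Ah] [IsLocalRing Ah] [Algebra A Ah] [IsLocalHom (algebraMap A Ah)]
    [Hensel.IsHenselization A Ah] [Module.Flat A Ah] :
    ResiduePurelyInsep A ↔ ResiduePurelyInsep Ah := by
  classical
  let A' := integralClosure A (FractionRing A)
  let C := integralClosure Ah (FractionRing Ah)
  let lam : A' →+* C := ((SubSh14.liftBase A Ah).comp A'.val).toRingHom.codRestrict C fun y =>
    (SubSh14.isIntegral_liftBase (A := A) (E := Ah) y.2).tower_top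
  have hlam : ∀ a : A, lam (algebraMap A A' a) = algebraMap Ah C (algebraMap A Ah a) := fun a =>
    Subtype.ext (((SubSh14.liftBase A Ah).commutes a).trans
      (IsScalarTower.algebraMap_apply A Ah (FractionRing Ah) a))
  -- each maximal ideal upstairs gives an isomorphic quotient downstairs
  have key : ∀ (N : Ideal C) [N.IsMaximal], (N.comap lam).IsMaximal ∧
      Function.Bijective (Ideal.quotientMap N lam le_rfl) ∧
      ∀ h : Ah, ∃ a : A, Ideal.Quotient.mk N (algebraMap Ah C h) =
        Ideal.Quotient.mk N (lam (algebraMap A A' a)) := by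
    intro N _
    have hNh : N.comap (algebraMap Ah C) = maximalIdeal Ah :=
      eq_maximalIdeal (Ideal.isMaximal_comap_of_isIntegral_of_isMaximal N)
    have hres : ∀ h : Ah, ∃ a : A, Ideal.Quotient.mk N (algebraMap Ah C h) =
        Ideal.Quotient.mk N (lam (algebraMap A A' a)) := fun h => by
      obtain ⟨a, ha⟩ := exists_sub_mem_maximalIdeal_henselization (A := A) Ah h
      refine ⟨a, ?_⟩
      rw [hlam, Ideal.Quotient.eq, ← map_sub, ← Ideal.mem_comap, hNh]
      exact ha
    have hsurj : Function.Surjective ((Ideal.Quotient.mk N).comp lam) := by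
      intro q
      obtain ⟨c, rfl⟩ := Ideal.Quotient.mk_surjective q
      obtain ⟨z, hz⟩ := mem_range_normMap_henselization (A := A) Ah c.2
      suffices h : ∀ z, ∀ hzC : SubSh14.normMap A Ah z ∈ C,
          ∃ y, (Ideal.Quotient.mk N).comp lam y = Ideal.Quotient.mk N ⟨_, hzC⟩ by
        have hzC : SubSh14.normMap A Ah z ∈ C := hz ▸ c.2
        obtain ⟨y, hy⟩ := h z hzC
        exact ⟨y, hy.trans (congrArg _ (Subtype.ext hz))⟩
      intro z
      induction z using TensorProduct.induction_on with
      | zero =>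
        intro hzC
        refine ⟨0, ?_⟩
        rw [map_zero, show (⟨_, hzC⟩ : C) = 0 from Subtype.ext (map_zero _), map_zero]
      | tmul y h =>
        intro hzC
        obtain ⟨a, ha⟩ := hres h
        refine ⟨y * algebraMap A A' a, ?_⟩
        rw [RingHom.comp_apply, map_mul, map_mul, ← ha, ← map_mul]
        exact congrArg _ (Subtype.ext (SubSh14.normMap_tmul y h).symm)
      | add z w hz hw =>
        intro hzC
        have hC : ∀ z, SubSh14.normMap A Ah z ∈ C := fun z => by
          induction z using TensorProduct.induction_on with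
          | zero => rw [map_zero]; exact zero_mem C
          | tmul y h =>
            rw [SubSh14.normMap_tmul]
            exact mul_mem (lam y).2 (Subalgebra.algebraMap_mem C h)
          | add z w hz hw => rw [map_add]; exact add_mem hz hw
        obtain ⟨y₁, h₁⟩ := hz (hC z)
        obtain ⟨y₂, h₂⟩ := hw (hC w)
        refine ⟨y₁ + y₂, ?_⟩
        rw [map_add, h₁, h₂, ← map_add]
        exact congrArg _ (Subtype.ext (map_add _ z w).symm)
    have hbij : Function.Bijective (Ideal.quotientMap N lam le_rfl) :=
      ⟨Ideal.quotientMap_injective, fun q => by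
        obtain ⟨y, hy⟩ := hsurj q; exact ⟨Ideal.Quotient.mk _ y, hy⟩⟩
    refine ⟨?_, hbij, hres⟩
    have hk : RingHom.ker ((Ideal.Quotient.mk N).comp lam) = N.comap lam := by
      rw [← RingHom.comap_ker, Ideal.mk_ker]
    rw [← hk]
    let := Ideal.Quotient.field N
    exact RingHom.ker_isMaximal_of_surjective _ hsurj
  have key' : ∀ (N : Ideal C) [N.IsMaximal] (M : Ideal A') [M.IsMaximal], M = N.comap lam →
      ((∀ x : A' ⧸ M, ∃ n : ℕ, x ^ (ringExpChar (A' ⧸ M)) ^ n ∈
        ((Ideal.Quotient.mk M).comp (algebraMap A A')).range) ↔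
      (∀ x : C ⧸ N, ∃ n : ℕ, x ^ (ringExpChar (C ⧸ N)) ^ n ∈
        ((Ideal.Quotient.mk N).comp (algebraMap Ah C)).range)) := by
    intro N _ M _ hM
    subst hM
    obtain ⟨-, hbij, hres⟩ := key N
    let := Ideal.Quotient.field N
    let := Ideal.Quotient.field (N.comap lam)
    refine exists_pow_mem_range_iff (RingEquiv.ofBijective _ hbij) _ _ ?_
    ext q
    constructor
    · rintro ⟨h, rfl⟩
      obtain ⟨a, ha⟩ := hres h
      exact ⟨_, ⟨a, rfl⟩, ha.symm⟩
    · rintro ⟨_, ⟨a, rfl⟩, rfl⟩
      exact ⟨algebraMap A Ah a, congrArg (Ideal.Quotient.mk N) (hlam a).symm⟩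
  refine ⟨fun h N _ => ?_, fun h M _ => ?_⟩
  · have := (key N).1
    exact (key' N _ rfl).1 (h _)
  · -- going up
    have hmA : ∀ a ∈ maximalIdeal A, Ideal.Quotient.mk M (algebraMap A A' a) = 0 := fun a ha => by
      rw [Ideal.Quotient.eq_zero_iff_mem, ← Ideal.mem_comap,
        eq_maximalIdeal (Ideal.isMaximal_comap_of_isIntegral_of_isMaximal (R := A) M)]
      exact ha
    let ρA : ResidueField A →+* A' ⧸ M := Ideal.Quotient.lift (maximalIdeal A)
      ((Ideal.Quotient.mk M).comp (algebraMap A A')) hmA
    let πh : Ah →ₐ[A] A' ⧸ M :=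
      { toRingHom := ρA.comp ((H.proj A (ResidueField A)).toRingHom.comp
          (henselizationEquiv (R := A) Ah).symm.toRingEquiv.toRingHom)
        commutes' := fun a => by
          show ρA (H.proj A (ResidueField A) ((henselizationEquiv (R := A) Ah).symm (algebraMap A Ah a))) = _
          rw [AlgEquiv.commutes, AlgHom.commutes]
          rfl }
    let π : A' ⊗[A] Ah →ₐ[A] A' ⧸ M := Algebra.TensorProduct.lift (Ideal.Quotient.mkₐ A M) πh fun x y => (CommRing.mul_comm (α := A' ⧸ M) _ _ : _)
    have hC : ∀ z, SubSh14.normMap A Ah z ∈ C := fun z => by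
      induction z using TensorProduct.induction_on with
      | zero => rw [map_zero]; exact zero_mem C
      | tmul y h =>
        rw [SubSh14.normMap_tmul]
        exact mul_mem (lam y).2 (Subalgebra.algebraMap_mem C h)
      | add z w hz hw => rw [map_add]; exact add_mem hz hw
    let nC : A' ⊗[A] Ah →+* C := (SubSh14.normMap A Ah).toRingHom.codRestrict C hC
    have hnC : Function.Bijective nC :=
      ⟨fun x y hxy => SubSh14.normMap_injective (congrArg Subtype.val hxy), fun c => by
        obtain ⟨z, hz⟩ := mem_range_normMap_henselization (A := A) Ah c.2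
        exact ⟨z, Subtype.ext hz⟩⟩
    let ψ : C →+* A' ⧸ M := π.toRingHom.comp (RingEquiv.ofBijective nC hnC).symm.toRingHom
    have hψlam : ∀ y, ψ (lam y) = Ideal.Quotient.mk M y := fun y => by
      have h1 : (RingEquiv.ofBijective nC hnC).symm (lam y) = y ⊗ₜ 1 := by
        rw [RingEquiv.symm_apply_eq]
        exact Subtype.ext (by
          show (SubSh14.liftBase A Ah) (y : FractionRing A) = SubSh14.normMap A Ah (y ⊗ₜ 1)
          rw [SubSh14.normMap_tmul, map_one, mul_one])
      show π ((RingEquiv.ofBijective nC hnC).symm (lam y)) = _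
      rw [h1]
      show Ideal.Quotient.mk M y * πh 1 = _
      rw [map_one, mul_one]
    let := Ideal.Quotient.field M
    have hsurj : Function.Surjective ψ := fun q => by
      obtain ⟨y, rfl⟩ := Ideal.Quotient.mk_surjective q
      exact ⟨lam y, hψlam y⟩
    have hN : (RingHom.ker ψ).IsMaximal := RingHom.ker_isMaximal_of_surjective ψ hsurj
    have hM : M = (RingHom.ker ψ).comap lam := by
      ext y
      rw [Ideal.mem_comap, RingHom.mem_ker, hψlam, Ideal.Quotient.eq_zero_iff_mem]
    exact (key' (RingHom.ker ψ) M hM).2 (h _)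

end Groth.Agent.Henz21
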