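import Groth.Agent.Henz21.FiniteLocal
import Mathlib.RingTheory.AdjoinRoot
import Mathlib.RingTheory.DiscreteValuationRing.Basic
import Mathlib.RingTheory.Filtration
import Mathlib.FieldTheory.IsAlgClosed.AlgebraicClosure
import Mathlib.FieldTheory.KummerPolynomial
import Mathlib.LinearAlgebra.FreeModule.PID
import Mathlib.Algebra.CharP.Lemmas
import Mathlib.RingTheory.IntegralClosure.IntegrallyClosed

/-! A discrete valuation ring with perfect closure residue field over a given one. -/

set_option autoImplicit false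
set_option linter.style.haveILetI false

universe u

open IsLocalRing Polynomial

noncomputable section

namespace Groth.Agent.Henz21.PerfRes

variable (R : Type u) [CommRing R] [IsDomain R] [IsDiscreteValuationRing R]

/-- The ambient field. -/
abbrev Kb : Type u := AlgebraicClosure (FractionRing R)

instance faithful : FaithfulSMul R (Kb R) :=
  (faithfulSMul_iff_algebraMap_injective R (Kb R)).mpr (by
    rw [IsScalarTower.algebraMap_eq R (FractionRing R) (Kb R)]
    exact (algebraMap (FractionRing R) (Kb R)).injective.comp (IsFractionRing.injective R (FractionRing R)))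

variable {R}

/-- The good finite subalgebras. -/
structure Good (π : R) (S : Subalgebra R (Kb R)) : Prop where
  finite : Module.Finite R S
  factor : ∀ x : S, x ≠ 0 → ∃ (n : ℕ) (u : Sˣ), x = algebraMap R S π ^ n * (u : S)
  rank : ∃ m : ℕ, Module.finrank R S = ringExpChar (ResidueField R) ^ m
  res : ∀ y : S, ∃ (m : ℕ) (z : R),
    algebraMap R S π ∣ y ^ (ringExpChar (ResidueField R) ^ m) - algebraMap R S z

theorem not_isUnit_of_irreducible {π : R} (hπ : Irreducible π) (S : Subalgebra R (Kb R))
    [Algebra.IsIntegral R S] : ¬ IsUnit (algebraMap R S π) := fun h => by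
  haveI : FaithfulSMul R S := (faithfulSMul_iff_algebraMap_injective R S).mpr fun a b hab =>
    FaithfulSMul.algebraMap_injective R (Kb R) (congrArg Subtype.val hab)
  exact hπ.not_isUnit ((algebraMap_isIntegral_iff.mpr ‹Algebra.IsIntegral R S›).isLocalHom
    (FaithfulSMul.algebraMap_injective R S) |>.map_nonunit π h)

theorem isLocalRing_of_factor {π : R} {S : Subalgebra R (Kb R)}
    (hf : ∀ x : S, x ≠ 0 → ∃ (n : ℕ) (u : Sˣ), x = algebraMap R S π ^ n * (u : S))
    (hu : ¬ IsUnit (algebraMap R S π)) :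
    ∃ _ : IsLocalRing S, maximalIdeal S = Ideal.span {algebraMap R S π} := by
  have hmem : ∀ x : S, x ∈ nonunits S → x ∈ Ideal.span {algebraMap R S π} := fun x hx => by
    rcases eq_or_ne x 0 with rfl | h0
    · exact zero_mem _
    · obtain ⟨n, u, rfl⟩ := hf x h0
      rcases Nat.eq_zero_or_pos n with rfl | hn
      · exact absurd (by simp) hx
      · exact Ideal.mul_mem_right _ _ (Ideal.pow_mem_of_mem _ (Ideal.mem_span_singleton_self _) n hn)
  have hle : ∀ x ∈ Ideal.span {algebraMap R S π}, x ∈ nonunits S := fun x hx hxu =>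
    hu (isUnit_of_dvd_unit (Ideal.mem_span_singleton.mp hx) hxu)
  haveI : IsLocalRing S := IsLocalRing.of_nonunits_add fun a b ha hb =>
    hle _ (add_mem (hmem a ha) (hmem b hb))
  exact ⟨inferInstance, le_antisymm (fun x hx => hmem x hx) (fun x hx => hle x hx)⟩

theorem good_bot {π : R} (hπ : Irreducible π) : Good π (⊥ : Subalgebra R (Kb R)) := by
  have hinj : Function.Injective (algebraMap R (Kb R)) := FaithfulSMul.algebraMap_injective R (Kb R)
  let e : R ≃ₐ[R] (⊥ : Subalgebra R (Kb R)) := (Algebra.botEquivOfInjective hinj).symm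
  refine ⟨Module.Finite.equiv e.toLinearEquiv, fun x hx => ?_, ⟨0, ?_⟩, fun y => ⟨0, e.symm y, ?_⟩⟩
  · obtain ⟨n, u, hu⟩ := IsDiscreteValuationRing.eq_unit_mul_pow_irreducible
      (show e.symm x ≠ 0 by simpa using hx) hπ
    refine ⟨n, Units.map e.toRingEquiv.toMonoidHom u, e.symm.injective ?_⟩
    rw [hu, map_mul, map_pow, AlgEquiv.commutes, Algebra.algebraMap_self, RingHom.id_apply, mul_comm]
    congr 1
    exact (e.symm_apply_apply _).symm
  · rw [← e.toLinearEquiv.finrank_eq, Module.finrank_self, pow_zero]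
  · have : algebraMap R (⊥ : Subalgebra R (Kb R)) (e.symm y) = y := by
      rw [← e.commutes, Algebra.algebraMap_self, RingHom.id_apply, e.apply_symm_apply]
    simp [this]

set_option maxHeartbeats 1000000 in
/-- Adjoining a `p`-th root. -/
theorem good_step {π : R} (hπ : Irreducible π) {S : Subalgebra R (Kb R)} (hS : Good π S) (b : S)
    (hb : ∀ z : S, ¬ algebraMap R S π ∣ z ^ ringExpChar (ResidueField R) - b)
    (α : Kb R) (hα : α ^ ringExpChar (ResidueField R) = (b : Kb R)) :
    ∃ S' : Subalgebra R (Kb R), Good π S' ∧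
      (∀ x : Kb R, x ∈ Algebra.adjoin R ((S : Set (Kb R)) ∪ {α}) → x ∈ S') ∧
      ∀ T : Subalgebra R (Kb R), S ≤ T → α ∈ T → S' ≤ T := by
  classical
  set q := ringExpChar (ResidueField R) with hq
  have key : ∀ (e : ℕ), ExpChar (ResidueField R) e → e = 1 ∨ (e.Prime ∧ (e : ResidueField R) = 0) :=
    fun e he => by
      cases he with
      | zero => exact Or.inl rfl
      | prime hp => exact Or.inr ⟨hp, CharP.cast_eq_zero _ e⟩
  obtain ⟨hp, hq0⟩ : q.Prime ∧ (q : ResidueField R) = 0 :=
    (key q inferInstance).resolve_left fun h1 => hb b (by rw [h1, pow_one, sub_self]; exact dvd_zero _)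
  have hπR : maximalIdeal R = Ideal.span {π} := hπ.maximalIdeal_eq
  have hqπ : π ∣ (q : R) := by
    rw [← Ideal.mem_span_singleton, ← hπR, ← residue_eq_zero_iff, map_natCast, hq0]
  haveI := hS.finite
  haveI : Algebra.IsIntegral R S := Algebra.IsIntegral.of_finite R S
  obtain ⟨_, hmax⟩ := isLocalRing_of_factor hS.factor (not_isUnit_of_irreducible hπ S)
  let f : S[X] := X ^ q - C b
  have hfm : f.Monic := monic_X_pow_sub_C b hp.ne_zero
  let A := AdjoinRoot f
  haveI : Module.Finite S A := hfm.finite_adjoinRoot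
  haveI : Module.Finite R A := Module.Finite.trans S A
  haveI : IsNoetherianRing A := isNoetherianRing_iff.mpr (isNoetherian_of_tower R inferInstance)
  have hev : eval₂ (Algebra.ofId S (Kb R) : S →+* Kb R) α f = 0 := by simp [f, hα]
  let φ : A →ₐ[S] Kb R := AdjoinRoot.liftAlgHom f (Algebra.ofId S (Kb R)) α hev
  -- the residue ring is a field
  have hirr : Irreducible (f.map (residue S)) := by
    rw [Polynomial.map_sub, Polynomial.map_pow, map_X, map_C]
    refine X_pow_sub_C_irreducible_of_prime hp fun y hy => ?_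
    obtain ⟨z, rfl⟩ := residue_surjective y
    refine hb z ?_
    rw [← Ideal.mem_span_singleton, ← hmax, ← residue_eq_zero_iff, map_sub, map_pow, hy, sub_self]
  let J : Ideal A := (maximalIdeal S).map (algebraMap S A)
  have hJ : J.IsMaximal := by
    haveI : Fact (Irreducible (f.map (residue S))) := ⟨hirr⟩
    let ψ : A →+* AdjoinRoot (f.map (residue S)) :=
      AdjoinRoot.lift ((AdjoinRoot.of (f.map (residue S))).comp (residue S))
        (AdjoinRoot.root (f.map (residue S))) (by rw [← eval₂_map, AdjoinRoot.eval₂_root])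
    have hψ : ∀ g : S[X], ψ (AdjoinRoot.mk f g) = AdjoinRoot.mk _ (g.map (residue S)) := fun g => by
      rw [AdjoinRoot.lift_mk, ← eval₂_map]
      exact (AdjoinRoot.aeval_eq _).trans rfl
    have hψs : Function.Surjective ψ := fun y => by
      obtain ⟨g, rfl⟩ := AdjoinRoot.mk_surjective y
      obtain ⟨g, rfl⟩ := Polynomial.map_surjective (residue S) residue_surjective g
      exact ⟨_, hψ g⟩
    have hker : RingHom.ker ψ = J := by
      refine le_antisymm (fun x hx => ?_) (Ideal.map_le_iff_le_comap.mpr fun s hs => ?_)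
      · obtain ⟨g, rfl⟩ := AdjoinRoot.mk_surjective x
        rw [RingHom.mem_ker, hψ, AdjoinRoot.mk_eq_zero] at hx
        obtain ⟨h, hh⟩ := hx
        obtain ⟨h, rfl⟩ := Polynomial.map_surjective (residue S) residue_surjective h
        have : g - f * h ∈ RingHom.ker (mapRingHom (residue S)) := by
          simp [RingHom.mem_ker, hh]
        rw [Polynomial.ker_mapRingHom, ker_residue] at this
        have h2 := Ideal.mem_map_of_mem (AdjoinRoot.mk f) this
        rw [Ideal.map_map, map_sub, map_mul, AdjoinRoot.mk_self, zero_mul, sub_zero] at h2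
        exact h2
      · rw [Ideal.mem_comap, RingHom.mem_ker]
        show ψ (AdjoinRoot.of f s) = 0
        rw [AdjoinRoot.lift_of, RingHom.comp_apply, (residue_eq_zero_iff s).mpr hs, map_zero]
    exact hker ▸ RingHom.ker_isMaximal_of_surjective ψ hψs
  haveI hAl : IsLocalRing A := IsLocalRing.of_unique_max_ideal ⟨J, hJ, fun M hM =>
    (hJ.eq_of_le hM.ne_top (Ideal.map_le_iff_le_comap.mpr
      (eq_maximalIdeal (Ideal.isMaximal_comap_of_isIntegral_of_isMaximal M)).ge)).symm⟩
  have hmA : maximalIdeal A = Ideal.span {algebraMap R A π} := by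
    rw [← eq_maximalIdeal hJ, show J = (maximalIdeal S).map (algebraMap S A) from rfl, hmax,
      Ideal.map_span, Set.image_singleton, ← IsScalarTower.algebraMap_apply]
  have hfac : ∀ a : A, a ≠ 0 → ∃ (n : ℕ) (v : Aˣ), a = algebraMap R A π ^ n * (v : A) := by
    intro a ha
    have hex : ∃ n, a ∉ maximalIdeal A ^ n := by
      by_contra h
      push Not at h
      exact ha (by
        have := Ideal.iInf_pow_eq_bot_of_isLocalRing (maximalIdeal A) (Ideal.IsPrime.ne_top inferInstance)
        rw [← Ideal.mem_bot, ← this]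
        exact Ideal.mem_iInf.mpr h)
    obtain ⟨n, hn⟩ : ∃ n, Nat.find hex = n + 1 :=
      Nat.exists_eq_succ_of_ne_zero fun h0 => by simpa [h0] using Nat.find_spec hex
    have h1 : a ∈ maximalIdeal A ^ n := not_not.mp (Nat.find_min hex (by omega))
    rw [hmA, Ideal.span_singleton_pow, Ideal.mem_span_singleton] at h1
    obtain ⟨v, rfl⟩ := h1
    have hv : IsUnit v := notMem_maximalIdeal.mp fun hv => Nat.find_spec hex (by
      rw [hn, pow_succ]
      exact Ideal.mul_mem_mul (Ideal.pow_mem_pow (hmA ▸ Ideal.mem_span_singleton_self _) n) hv)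
    exact ⟨n, hv.unit, rfl⟩
  have hφπ : φ (algebraMap R A π) = algebraMap R (Kb R) π := (φ.restrictScalars R).commutes π
  have hφinj : Function.Injective φ := (injective_iff_map_eq_zero φ).mpr fun a ha => by
    by_contra h0
    obtain ⟨n, v, rfl⟩ := hfac a h0
    rw [map_mul, map_pow, hφπ, mul_eq_zero, pow_eq_zero_iff'] at ha
    rcases ha with ⟨h, -⟩ | h
    · exact hπ.ne_zero (FaithfulSMul.algebraMap_injective R (Kb R) (by rw [h, map_zero]))
    · exact (v.isUnit.map φ).ne_zero h
  let ψR : A →ₐ[R] Kb R := φ.restrictScalars R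
  let S' : Subalgebra R (Kb R) := ψR.range
  let e : A ≃ₐ[R] S' := AlgEquiv.ofInjective ψR hφinj
  have heπ : e.symm (algebraMap R S' π) = algebraMap R A π := e.symm.commutes π
  have hαS : α ∈ S' := ⟨AdjoinRoot.root f, AdjoinRoot.liftAlgHom_root (p := f) (Algebra.ofId S (Kb R)) α hev⟩
  have hSS : S ≤ S' := fun x hx => ⟨algebraMap S A ⟨x, hx⟩, φ.commutes _⟩
  refine ⟨S', ⟨Module.Finite.equiv e.toLinearEquiv, fun x hx => ?_, ?_, fun y => ?_⟩,
    fun x hx => Algebra.adjoin_le (Set.union_subset hSS (Set.singleton_subset_iff.mpr hαS)) hx,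
    fun T hST hαT => ?_⟩
  · obtain ⟨n, v, hv⟩ := hfac (e.symm x) (by simpa using hx)
    refine ⟨n, Units.map e.toRingEquiv.toMonoidHom v, e.symm.injective ?_⟩
    rw [map_mul, map_pow, heπ, hv]
    congr 1
    exact (e.symm_apply_apply _).symm
  · obtain ⟨m, hm⟩ := hS.rank
    refine ⟨m + 1, ?_⟩
    haveI : Module.Free R S := inferInstance
    haveI : Module.Free S A := hfm.free_adjoinRoot
    rw [← e.toLinearEquiv.finrank_eq, ← Module.finrank_mul_finrank R S A, hm, pow_succ]
    congr 1
    have hB := (AdjoinRoot.powerBasis' hfm).finrank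
    rw [hB]
    exact natDegree_X_pow_sub_C
  · -- residue fields
    have hmod : ∀ a : A, ∃ s : S, algebraMap R A π ∣ a ^ q - algebraMap S A s := by
      intro a
      obtain ⟨g, rfl⟩ := AdjoinRoot.mk_surjective a
      induction g using Polynomial.induction_on with
      | C c => exact ⟨c ^ q, by
          rw [AdjoinRoot.mk_C, map_pow, ← AdjoinRoot.algebraMap_eq, sub_self]; exact dvd_zero _⟩
      | add g h hg hh =>
        obtain ⟨s, hs⟩ := hg
        obtain ⟨t, ht⟩ := hh
        refine ⟨s + t, ?_⟩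
        obtain ⟨c, hc⟩ := exists_add_pow_prime_pow_eq hp (AdjoinRoot.mk f g) (AdjoinRoot.mk f h) 1
        rw [pow_one] at hc
        have hqA : algebraMap R A π ∣ (q : A) := by
          rw [← map_natCast (algebraMap R A)]; exact map_dvd _ hqπ
        have h3 := dvd_add (dvd_add hs ht)
          (((hqA.mul_right (AdjoinRoot.mk f g)).mul_right (AdjoinRoot.mk f h)).mul_right c)
        rw [map_add (AdjoinRoot.mk f), map_add, hc]
        convert h3 using 1
        ring
      | monomial n c _ =>
        refine ⟨c ^ q * b ^ (n + 1), ?_⟩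
        rw [map_mul, map_pow, AdjoinRoot.mk_C, AdjoinRoot.mk_X, mul_pow, ← pow_mul, mul_comm (n+1) q,
          pow_mul, map_mul, map_pow, map_pow, ← AdjoinRoot.algebraMap_eq]
        have : AdjoinRoot.root f ^ q = algebraMap S A b := by
          have h0 := AdjoinRoot.eval₂_root f
          simp only [f, eval₂_sub, eval₂_pow, eval₂_X, eval₂_C] at h0
          exact sub_eq_zero.mp h0
        rw [this, sub_self]
        exact dvd_zero _
    obtain ⟨s, hs⟩ := hmod (e.symm y)
    obtain ⟨m, z, hz⟩ := hS.res s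
    refine ⟨m + 1, z, ?_⟩
    have h1 : algebraMap R A π ∣ algebraMap S A (s ^ q ^ m - algebraMap R S z) := by
      rw [IsScalarTower.algebraMap_apply R S A]
      exact map_dvd _ hz
    have h2 := (hs.trans (sub_dvd_pow_sub_pow _ _ (q ^ m))).add h1
    rw [map_sub, map_pow, ← pow_mul, sub_add_sub_cancel, ← pow_succ', ← IsScalarTower.algebraMap_apply] at h2
    have h3 := map_dvd e.toAlgHom h2
    simpa using h3
  · rintro _ ⟨a, rfl⟩
    obtain ⟨g, rfl⟩ := AdjoinRoot.mk_surjective a
    show φ (AdjoinRoot.mk f g) ∈ T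
    rw [AdjoinRoot.liftAlgHom_mk, eval₂_eq_sum_range]
    exact sum_mem fun i _ => mul_mem (hST (g.coeff i).2) (pow_mem hαT i)

/-- Subalgebras covered by good ones. -/
def IndGood (π : R) (S : Subalgebra R (Kb R)) : Prop :=
  ∀ s : Finset (Kb R), (↑s : Set (Kb R)) ⊆ S → ∃ S₀, Good π S₀ ∧ S₀ ≤ S ∧ (↑s : Set (Kb R)) ⊆ S₀

theorem main [HenselianLocalRing R] :
    ∃ (R' : Type u) (_ : CommRing R') (_ : IsDomain R') (_ : IsDiscreteValuationRing R')
      (_ : HenselianLocalRing R') (_ : Algebra R R'),
      Function.Injective (algebraMap R R') ∧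
      Ideal.map (algebraMap R R') (maximalIdeal R) = maximalIdeal R' ∧
      (∀ s : Finset R', ∃ S : Subalgebra R R', (↑s : Set R') ⊆ ↑S ∧ Module.Finite R S ∧ Module.Free R S ∧
        ∃ m : ℕ, Module.finrank R S = ringExpChar (ResidueField R) ^ m) ∧
      (∀ y : R', ∃ z : R', z ^ ringExpChar (ResidueField R) - y ∈ maximalIdeal R') ∧
      (∀ y : R', ∃ (m : ℕ) (z : R),
        algebraMap R R' z - y ^ (ringExpChar (ResidueField R) ^ m) ∈ maximalIdeal R') := by
  classical
  obtain ⟨π, hπ⟩ := IsDiscreteValuationRing.exists_irreducible R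
  obtain ⟨S, hS⟩ : ∃ S, Maximal (fun S => IndGood (R := R) π S) S := by
    refine zorn_le₀ {S | IndGood (R := R) π S} fun c hc hchain => ?_
    rcases c.eq_empty_or_nonempty with rfl | hne
    · exact ⟨⊥, fun s hs => ⟨⊥, good_bot hπ, le_rfl, hs⟩, fun z hz => absurd hz (Set.notMem_empty z)⟩
    refine ⟨sSup c, fun s hs => ?_, fun z hz => le_sSup hz⟩
    haveI : Nonempty c := hne.to_subtype
    have hdir : Directed (· ≤ ·) (fun S : c => (S : Subalgebra R (Kb R))) := hchain.directed
    have hco : ((sSup c : Subalgebra R (Kb R)) : Set (Kb R)) = ⋃ S : c, ((S : Subalgebra R (Kb R)) : Set (Kb R)) := by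
      rw [sSup_eq_iSup']; exact Subalgebra.coe_iSup_of_directed hdir
    rw [hco] at hs
    obtain ⟨S₁, hS₁⟩ := DirectedOn.exists_mem_subset_of_finset_subset_biUnion
      (c := c) (f := fun S : Subalgebra R (Kb R) => (S : Set (Kb R))) hne
      (fun a ha b hb => by obtain ⟨⟨x, hx⟩, h1, h2⟩ := hdir ⟨a, ha⟩ ⟨b, hb⟩; exact ⟨x, hx, h1, h2⟩)
      (by rw [Set.biUnion_eq_iUnion]; exact hs)
    obtain ⟨S₀, h₀, hle, hsub⟩ := hc hS₁.1 s hS₁.2
    exact ⟨S₀, h₀, hle.trans (le_sSup hS₁.1), hsub⟩
  have hI := hS.prop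
  -- integrality
  haveI : Algebra.IsIntegral R S := ⟨fun x => by
    obtain ⟨S₀, h₀, hle, hsub⟩ := hI {(x : Kb R)} (by simp)
    haveI := h₀.finite
    exact isIntegral_algHom_iff S.val Subtype.val_injective |>.mp
      ((Algebra.IsIntegral.isIntegral (R := R) (⟨(x : Kb R), hsub (by simp)⟩ : S₀)).map S₀.val)⟩
  have hfac : ∀ x : S, x ≠ 0 → ∃ (n : ℕ) (u : Sˣ), x = algebraMap R S π ^ n * (u : S) := by
    intro x hx
    obtain ⟨S₀, h₀, hle, hsub⟩ := hI {(x : Kb R)} (by simp)
    let ι := Subalgebra.inclusion hle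
    obtain ⟨n, u, hu⟩ := h₀.factor ⟨x, hsub (by simp)⟩ fun h => hx (Subtype.ext (show (x : Kb R) = 0 from
      congrArg (fun t : S₀ => (t : Kb R)) h))
    refine ⟨n, Units.map ι.toRingHom.toMonoidHom u, Subtype.ext ?_⟩
    show (x : Kb R) = _
    exact congrArg (fun t : S₀ => (t : Kb R)) hu
  have hπu := not_isUnit_of_irreducible hπ S
  obtain ⟨_, hmax⟩ := isLocalRing_of_factor hfac hπu
  have hπ0 : algebraMap R S π ≠ 0 := fun h =>
    hπ.ne_zero (FaithfulSMul.algebraMap_injective R (Kb R) (by
      rw [map_zero]; exact congrArg Subtype.val h))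
  haveI : IsDiscreteValuationRing S := IsDiscreteValuationRing.ofHasUnitMulPowIrreducibleFactorization
    ⟨algebraMap R S π, irreducible_iff.mpr ⟨hπu, fun a b hab => by
      by_contra hne
      push Not at hne
      have ha : a ∈ Ideal.span {algebraMap R S π} := hmax ▸ (mem_maximalIdeal a).mpr hne.1
      have hb : b ∈ Ideal.span {algebraMap R S π} := hmax ▸ (mem_maximalIdeal b).mpr hne.2
      obtain ⟨a', rfl⟩ := Ideal.mem_span_singleton.mp ha
      obtain ⟨b', rfl⟩ := Ideal.mem_span_singleton.mp hb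
      refine hπu (IsUnit.of_mul_eq_one (a' * b') (mul_left_cancel₀ hπ0 ?_))
      linear_combination -hab⟩,
      fun {x} hx => by
        obtain ⟨n, u, rfl⟩ := hfac x hx
        exact ⟨n, u, rfl⟩⟩
  have hmapm : Ideal.map (algebraMap R S) (maximalIdeal R) = maximalIdeal S := by
    rw [hπ.maximalIdeal_eq, Ideal.map_span, Set.image_singleton, hmax]
  refine ⟨S, inferInstance, inferInstance, inferInstance,
    henselianLocalRing_of_isIntegral (A := R), inferInstance,
    fun a b h => FaithfulSMul.algebraMap_injective R (Kb R) (congrArg Subtype.val h), hmapm, ?_, ?_, ?_⟩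
  · intro s
    obtain ⟨S₀, h₀, hle, hsub⟩ := hI (s.image (fun x : S => (x : Kb R))) (by
      intro x hx
      obtain ⟨y, -, rfl⟩ := Finset.mem_image.mp hx
      exact y.2)
    let e : S₀ ≃ₐ[R] (Subalgebra.inclusion hle).range :=
      AlgEquiv.ofInjective _ (Subalgebra.inclusion_injective hle)
    haveI := h₀.finite
    haveI : Module.Free R S₀ := inferInstance
    refine ⟨(Subalgebra.inclusion hle).range, fun x hx => ?_, Module.Finite.equiv e.toLinearEquiv,
      Module.Free.of_equiv e.toLinearEquiv, ?_⟩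
    · exact ⟨⟨x, hsub (Finset.mem_image_of_mem _ hx)⟩, rfl⟩
    · obtain ⟨m, hm⟩ := h₀.rank
      exact ⟨m, by rw [← e.toLinearEquiv.finrank_eq, hm]⟩
  · intro y
    by_contra hne
    push Not at hne
    obtain ⟨α, hα⟩ := IsAlgClosed.exists_pow_nat_eq (y : Kb R)
      (Nat.pos_of_ne_zero (expChar_ne_zero (ResidueField R) (ringExpChar (ResidueField R))))
    set S' := Algebra.adjoin R ((S : Set (Kb R)) ∪ {α})
    have hSS : S ≤ S' := fun x hx => Algebra.subset_adjoin (Or.inl hx)
    have hS' : IndGood π S' := by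
      intro s hs
      have hall : ∀ x ∈ S', ∃ F : Finset (Kb R), (↑F : Set (Kb R)) ⊆ S ∧
          x ∈ Algebra.adjoin R ((↑F : Set (Kb R)) ∪ {α}) := fun x hx => by
        induction hx using Algebra.adjoin_induction with
        | mem x hx =>
          rcases hx with hx | hx
          · exact ⟨{x}, by simpa using hx, Algebra.subset_adjoin (Or.inl (by simp))⟩
          · exact ⟨∅, by simp, Algebra.subset_adjoin (Or.inr hx)⟩
        | algebraMap r => exact ⟨∅, by simp, Subalgebra.algebraMap_mem _ r⟩
        | add x z _ _ hx hz =>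
          obtain ⟨F, hF, hxF⟩ := hx
          obtain ⟨G, hG, hzG⟩ := hz
          exact ⟨F ∪ G, by simpa using And.intro hF hG, add_mem
            (Algebra.adjoin_mono (Set.union_subset_union_left _ (by simp)) hxF)
            (Algebra.adjoin_mono (Set.union_subset_union_left _ (by simp)) hzG)⟩
        | mul x z _ _ hx hz =>
          obtain ⟨F, hF, hxF⟩ := hx
          obtain ⟨G, hG, hzG⟩ := hz
          exact ⟨F ∪ G, by simpa using And.intro hF hG, mul_mem
            (Algebra.adjoin_mono (Set.union_subset_union_left _ (by simp)) hxF)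
            (Algebra.adjoin_mono (Set.union_subset_union_left _ (by simp)) hzG)⟩
      choose! F hF hxF using hall
      obtain ⟨S₀, h₀, hle, hsub⟩ := hI (insert (y : Kb R) (s.biUnion F)) (by
        intro x hx
        simp only [Finset.coe_insert, Set.mem_insert_iff, Finset.mem_coe, Finset.mem_biUnion] at hx
        rcases hx with rfl | ⟨z, hz, hxz⟩
        · exact y.2
        · exact hF z (hs hz) hxz)
      obtain ⟨S₁, h₁, hbig, hsmall⟩ := good_step hπ h₀ ⟨y, hsub (by simp)⟩ (fun z hz => by
        refine hne (Subalgebra.inclusion hle z) ?_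
        rw [hmax, Ideal.mem_span_singleton]
        exact map_dvd (Subalgebra.inclusion hle) hz) α hα
      refine ⟨S₁, h₁, hsmall S' (hle.trans hSS) (Algebra.subset_adjoin (Or.inr rfl)), fun x hx => hbig x ?_⟩
      refine Algebra.adjoin_mono (Set.union_subset_union_left _ ?_) (hxF x (hs hx))
      intro z hz
      exact hsub (by simp only [Finset.coe_insert, Set.mem_insert_iff, Finset.mem_coe, Finset.mem_biUnion];
                     exact Or.inr ⟨x, hx, hz⟩)
    have hαS : α ∈ S := hS.2 hS' hSS (Algebra.subset_adjoin (Or.inr rfl))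
    refine hne ⟨α, hαS⟩ ?_
    have : (⟨α, hαS⟩ : S) ^ ringExpChar (ResidueField R) - y = 0 := Subtype.ext (by
      simp [hα])
    rw [this]; exact zero_mem _
  · intro y
    obtain ⟨S₀, h₀, hle, hsub⟩ := hI {(y : Kb R)} (by simp)
    obtain ⟨m, z, hz⟩ := h₀.res ⟨y, hsub (by simp)⟩
    refine ⟨m, z, ?_⟩
    rw [hmax, Ideal.mem_span_singleton]
    have := (map_dvd (Subalgebra.inclusion hle) hz).neg_right
    simp only [map_sub, map_pow, AlgHom.commutes, neg_sub] at this
    exact this

end Groth.Agent.Henz21.PerfRes
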