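import Groth.Prelude.Def_FlatCA
import Mathlib.RingTheory.Idempotents
import Mathlib.RingTheory.Noetherian.Nilpotent
import Mathlib.RingTheory.Flat.EquationalCriterion
import Mathlib.RingTheory.Nakayama
import Mathlib.RingTheory.KrullDimension.Basic
import Mathlib.LinearAlgebra.Matrix.ToLin

/-! Limits of systems of finite flat modules along surjections with nil kernels. -/

set_option autoImplicit false
set_option linter.style.haveILetI false

universe u

namespace Groth.Agent.Henz21

/-- A matrix with nilpotent entries is nilpotent. -/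
theorem isNilpotent_matrix {A : Type u} [CommRing A] {r : ℕ} (M : Matrix (Fin r) (Fin r) A)
    (h : ∀ i j, IsNilpotent (M i j)) : IsNilpotent M := by
  let J := Ideal.span (Set.range fun p : Fin r × Fin r => M p.1 p.2)
  obtain ⟨k, hk⟩ := (Ideal.FG.isNilpotent_iff_le_nilradical (Submodule.fg_span (Set.finite_range _))
    (I := J)).mpr (Ideal.span_le.mpr (by rintro _ ⟨p, rfl⟩; exact h p.1 p.2))
  have hpow : ∀ n i j, (M ^ n) i j ∈ J ^ n := by
    intro n
    induction n with
    | zero => intro i j; simp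
    | succ n ih =>
      intro i j
      rw [pow_succ M n, pow_succ J n, Matrix.mul_apply]
      exact Ideal.sum_mem _ fun l _ => Ideal.mul_mem_mul (ih i l) (Ideal.subset_span ⟨(l, j), rfl⟩)
  refine ⟨k, Matrix.ext fun i j => ?_⟩
  simpa [hk] using hpow k i j

/-- Compatible families in a sequence of surjections lift any given element of level zero. -/
theorem exists_compatible {X : ℕ → Type u} (f : ∀ n, X (n + 1) → X n)
    (hf : ∀ n, Function.Surjective (f n)) (a : X 0) :
    ∃ x : ∀ n, X n, x 0 = a ∧ ∀ n, f n (x (n + 1)) = x n :=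
  ⟨fun n => Nat.rec a (fun m y => (hf m y).choose) n, rfl, fun n => (hf n _).choose_spec⟩

/-- The projections of a limit of a sequence of surjections are surjective. -/
theorem surjective_of_isRingLimit {A : Type u} [CommRing A] (n : ℕ) :
    ∀ (An : ℕ → Type u) [∀ n, CommRing (An n)] (t : ∀ n, An (n + 1) →+* An n) (π : ∀ n, A →+* An n),
      (∀ n, Function.Surjective (t n)) → FlatCA.IsRingLimit A An t π → Function.Surjective (π n) := by
  induction n with
  | zero =>
    intro An _ t π ht hA a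
    obtain ⟨x, hx0, hx⟩ := exists_compatible (fun n => (t n : An (n + 1) → An n)) ht a
    obtain ⟨c, hc⟩ := hA.2.2 x hx
    exact ⟨c, (hc 0).trans hx0⟩
  | succ n ih =>
    intro An _ t π ht hA
    refine ih (fun n => An (n + 1)) (fun n => t (n + 1)) (fun n => π (n + 1)) (fun n => ht (n + 1))
      ⟨fun n => hA.1 (n + 1), fun a b h => hA.2.1 a b fun m => ?_, fun x hx => ?_⟩
    · cases m with
      | zero =>
        rw [← RingHom.congr_fun (hA.1 0) a, ← RingHom.congr_fun (hA.1 0) b]
        exact congrArg (t 0) (h 0)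
      | succ m => exact h m
    · let x' : ∀ m, An m := fun m => Nat.casesOn m (t 0 (x 0)) x
      obtain ⟨a, ha⟩ := hA.2.2 x' (fun m => by cases m with
        | zero => rfl
        | succ m => exact hx m)
      exact ⟨a, fun m => ha (m + 1)⟩

variable {A B M N : Type u} [CommRing A] [CommRing B] [AddCommGroup M] [Module A M]
  [AddCommGroup N] [Module B N] {t : A →+* B} {r : ℕ}

/-- An idempotent splitting a surjection onto a finite flat module lifts. -/
theorem exists_idempotent_lift_step (ht : Function.Surjective t)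
    (hnil : ∀ a, t a = 0 → IsNilpotent a) [Module.Flat A M] [Module.Finite A M]
    (u : M →ₛₗ[t] N) (hu : LinearMap.ker u = RingHom.ker t • (⊤ : Submodule A M))
    (q : (Fin r → A) →ₗ[A] M) (q' : (Fin r → B) →ₗ[B] N)
    (hq : Function.Surjective q) (hcomm : ∀ y, u (q y) = q' (t ∘ y))
    (E : (Fin r → B) →ₗ[B] (Fin r → B)) (hE : E ∘ₗ E = E) (hqE : ∀ y, q' (E y) = q' y)
    (hEk : ∀ y, q' y = 0 → E y = 0) :
    ∃ E' : (Fin r → A) →ₗ[A] (Fin r → A), E' ∘ₗ E' = E' ∧ (∀ y, q (E' y) = q y) ∧
      (∀ y, q y = 0 → E' y = 0) ∧ ∀ y, t ∘ (E' y) = E (t ∘ y) := by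
  classical
  let T : Matrix (Fin r) (Fin r) A →+* Matrix (Fin r) (Fin r) B := t.mapMatrix
  have hTnil : ∀ X ∈ RingHom.ker T, IsNilpotent X := fun X hX =>
    isNilpotent_matrix X fun i j => hnil _ (congrFun (congrFun hX i) j)
  obtain ⟨ε, hε, hTε⟩ := exists_isIdempotentElem_eq_of_ker_isNilpotent T hTnil (LinearMap.toMatrix' E)
    (by
      choose g hg using ht
      exact ⟨(LinearMap.toMatrix' E).map g, Matrix.ext fun i j => hg _⟩)
    (by rw [IsIdempotentElem, ← LinearMap.toMatrix'_comp, hE])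
  let e : (Fin r → A) →ₗ[A] (Fin r → A) := Matrix.toLin' ε
  have hee : ∀ y, e (e y) = e y := fun y => by
    show (Matrix.toLin' ε ∘ₗ Matrix.toLin' ε) y = _
    rw [← Matrix.toLin'_mul, hε.eq]
  have hte : ∀ y, t ∘ (e y) = E (t ∘ y) := fun y => by
    rw [← Matrix.toLin'_toMatrix' E, ← hTε]
    ext i
    simp [e, T, RingHom.map_mulVec]
  have hsur : Function.Surjective (q ∘ₗ e) := by
    intro m
    have hjac : RingHom.ker t ≤ Ideal.jacobson ⊥ := fun a ha =>
      Ideal.jacobson_bot (R := A) ▸ nilradical_le_jacobson A (hnil a ha)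
    refine Submodule.le_of_le_smul_of_le_jacobson_bot Module.Finite.fg_top hjac (N' := ⊤)
      (N := LinearMap.range (q ∘ₗ e)) ?_ (Submodule.mem_top (x := m))
    rintro m -
    obtain ⟨y, rfl⟩ := hq m
    refine Submodule.mem_sup.mpr ⟨q (e y), ⟨y, rfl⟩, q y - q (e y), ?_, add_sub_cancel _ _⟩
    rw [← hu, LinearMap.mem_ker, map_sub, hcomm, hcomm, hte, hqE, sub_self]
  have hinj : ∀ x, e x = x → q x = 0 → x = 0 := by
    intro x hex hqx
    obtain ⟨k, a, y, hya, hax⟩ := Module.Flat.exists_factorization_of_apply_eq_zero_of_free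
      (f := x) (x := q ∘ₗ e) (show q (e x) = 0 by rw [hex]; exact hqx)
    obtain ⟨y', hy'⟩ := Module.projective_lifting_property (q ∘ₗ e) y hsur
    let θ := e ∘ₗ (LinearMap.id - y' ∘ₗ a) ∘ₗ e
    have hθx : θ x = x := by simp [θ, hex, hax]
    have hθq : ∀ z, q (θ z) = 0 := fun z => by
      show (q ∘ₗ e) (e z - y' (a (e z))) = 0
      rw [map_sub]
      have h1 : (q ∘ₗ e) (y' (a (e z))) = y (a (e z)) := LinearMap.congr_fun hy' _
      have h2 : (q ∘ₗ e) (e z) = y (a (e z)) := LinearMap.congr_fun hya _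
      rw [h1, h2, sub_self]
    have hθt : ∀ z, t ∘ (θ z) = 0 := fun z => by
      have h1 : t ∘ (θ z) = E (t ∘ (θ z)) := by
        conv_lhs => rw [show θ z = e (θ z) from (hee _).symm]
        exact hte _
      rw [h1]
      exact hEk _ (by rw [← hcomm, hθq, map_zero])
    obtain ⟨n, hn⟩ := isNilpotent_matrix (LinearMap.toMatrix' θ) fun i j => hnil _ (by
      rw [LinearMap.toMatrix'_apply]
      exact congrFun (hθt _) i)
    have hfix : ∀ n, Matrix.mulVec (LinearMap.toMatrix' θ ^ n) x = x := by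
      intro n
      induction n with
      | zero => simp
      | succ n ih => rw [pow_succ', ← Matrix.mulVec_mulVec, ih, LinearMap.toMatrix'_mulVec, hθx]
    rw [← hfix n, hn, Matrix.zero_mulVec]
  obtain ⟨σ, hσ⟩ := Module.projective_lifting_property (q ∘ₗ e) q hsur
  have hqσ : ∀ y, q (e (σ y)) = q y := LinearMap.congr_fun hσ
  have huniq : ∀ y w, e w = w → q w = q y → e (σ y) = w := fun y w hw hqw => by
    refine sub_eq_zero.mp (hinj _ ?_ ?_)
    · rw [map_sub, hee, hw]
    · rw [map_sub, hqσ, hqw, sub_self]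
  refine ⟨e ∘ₗ σ, LinearMap.ext fun y => huniq _ _ (hee _) ?_, hqσ, fun y hy => ?_, fun y => ?_⟩
  · rfl
  · exact huniq y 0 (map_zero e) (by rw [hy, map_zero])
  · show t ∘ (e (σ y)) = _
    rw [hte]
    have h1 : q' (E (t ∘ σ y)) = q' (t ∘ y) := by
      rw [hqE, ← hcomm, ← hcomm, ← hqσ y, hcomm, hcomm, hte, hqE]
    have h2 := hEk (E (t ∘ σ y) - t ∘ y) (by rw [map_sub, h1, sub_self])
    rwa [map_sub, show E (E (t ∘ σ y)) = E (t ∘ σ y) from LinearMap.congr_fun hE _, sub_eq_zero] at h2

/-- The limit of a system of finite flat modules which is projective at the bottom. -/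
theorem exists_projective_limit (A : Type u) [CommRing A] (An : ℕ → Type u)
    [∀ n, CommRing (An n)] (t : ∀ n, An (n + 1) →+* An n) (π : ∀ n, A →+* An n)
    (ht : ∀ n, Function.Surjective (t n)) (hnil : ∀ n (x : An (n + 1)), t n x = 0 → IsNilpotent x)
    (hA : FlatCA.IsRingLimit A An t π)
    (M : ℕ → Type u) [∀ n, AddCommGroup (M n)] [∀ n, Module (An n) (M n)]
    (u : ∀ n, M (n + 1) →ₛₗ[t n] M n) [Module.Projective (An 0) (M 0)]
    (hfin : ∀ n, Module.Finite (An n) (M n)) (hflat : ∀ n, Module.Flat (An n) (M n))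
    (hu : ∀ n, Function.Surjective (u n) ∧
      LinearMap.ker (u n) = RingHom.ker (t n) • (⊤ : Submodule (An (n + 1)) (M (n + 1)))) :
    ∃ (P : Type u) (_ : AddCommGroup P) (_ : Module A P) (p : ∀ n, P →ₛₗ[π n] M n),
      Module.Finite A P ∧ Module.Projective A P ∧ (∀ n (x : P), u n (p (n + 1) x) = p n x) ∧
      (∀ n, Function.Surjective (p n) ∧
        LinearMap.ker (p n) = RingHom.ker (π n) • (⊤ : Submodule A P)) ∧
      (∀ x : (∀ n, M n), (∀ n, u n (x (n + 1)) = x n) → ∃! q : P, ∀ n, p n q = x n) := by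
  classical
  haveI := hfin
  haveI := hflat
  obtain ⟨r, s, hs⟩ := Module.Finite.exists_fin (R := An 0) (M := M 0)
  choose g hg0 hgc using fun i => exists_compatible (fun n => (u n : M (n + 1) → M n))
    (fun n => (hu n).1) (s i)
  let q : ∀ n, (Fin r → An n) →ₗ[An n] M n := fun n => Fintype.linearCombination (An n) fun i => g i n
  have hcomm : ∀ n (y : Fin r → An (n + 1)), u n (q (n + 1) y) = q n (t n ∘ y) := fun n y => by
    simp [q, Fintype.linearCombination_apply, map_smulₛₗ, hgc]
  have hq : ∀ n, Function.Surjective (q n) := by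
    intro n
    induction n with
    | zero =>
      rw [← LinearMap.range_eq_top, Fintype.range_linearCombination]
      rw [show (fun i => g i 0) = s from funext hg0]
      exact hs
    | succ n ih =>
      intro m
      have hjac : RingHom.ker (t n) ≤ Ideal.jacobson ⊥ := fun a ha =>
        Ideal.jacobson_bot (R := An (n + 1)) ▸ nilradical_le_jacobson _ (hnil n a ha)
      refine Submodule.le_of_le_smul_of_le_jacobson_bot Module.Finite.fg_top hjac (N' := ⊤)
        (N := LinearMap.range (q (n + 1))) ?_ (Submodule.mem_top (x := m))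
      rintro m -
      obtain ⟨y, hy⟩ := ih (u n m)
      choose gl hgl using ht n
      refine Submodule.mem_sup.mpr ⟨q (n + 1) (gl ∘ y), ⟨_, rfl⟩, m - q (n + 1) (gl ∘ y), ?_,
        add_sub_cancel _ _⟩
      rw [← (hu n).2, LinearMap.mem_ker, map_sub, hcomm,
        show t n ∘ gl ∘ y = y from funext fun i => hgl _, hy, sub_self]
  let Good : ∀ n, ((Fin r → An n) →ₗ[An n] (Fin r → An n)) → Prop := fun n E =>
    E ∘ₗ E = E ∧ (∀ y, q n (E y) = q n y) ∧ ∀ y, q n y = 0 → E y = 0
  obtain ⟨E, hE, hEt⟩ : ∃ E : ∀ n, (Fin r → An n) →ₗ[An n] (Fin r → An n),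
      (∀ n, Good n (E n)) ∧ ∀ n y, t n ∘ (E (n + 1) y) = E n (t n ∘ y) := by
    obtain ⟨σ, hσ⟩ := Module.projective_lifting_property (q 0) LinearMap.id (hq 0)
    have hσ' : ∀ m, q 0 (σ m) = m := LinearMap.congr_fun hσ
    have h0 : Good 0 (σ ∘ₗ q 0) :=
      ⟨LinearMap.ext fun y => congrArg σ (hσ' _), fun y => hσ' _, fun y hy => by simp [hy]⟩
    have step : ∀ n (E : {E // Good n E}), ∃ E' : {E' // Good (n + 1) E'},
        ∀ y, t n ∘ (E'.1 y) = E.1 (t n ∘ y) := fun n ⟨E, h1, h2, h3⟩ => by
      obtain ⟨E', a, b, c, d⟩ := exists_idempotent_lift_step (ht n) (hnil n) (u n) (hu n).2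
        (q (n + 1)) (q n) (hq _) (hcomm n) E h1 h2 h3
      exact ⟨⟨E', a, b, c⟩, d⟩
    choose nx hnx using step
    let F : ∀ n, {E // Good n E} := fun n => Nat.rec ⟨_, h0⟩ (fun m E => nx m E) n
    exact ⟨fun n => (F n).1, fun n => (F n).2, fun n => hnx n (F n)⟩
  have hπt : ∀ n (y : Fin r → A), t n ∘ (π (n + 1) ∘ y) = π n ∘ y := fun n y =>
    funext fun i => RingHom.congr_fun (hA.1 n) (y i)
  choose w hw using fun i j => hA.2.2 (fun n => E n (Pi.single i 1) j) fun n => by
    rw [show t n (E (n + 1) (Pi.single i 1) j) = (t n ∘ E (n + 1) (Pi.single i 1)) j from rfl, hEt]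
    have hsing : t n ∘ (Pi.single i (1 : An (n + 1))) = Pi.single i 1 := funext fun k => by
      simp [Pi.single_apply, apply_ite (t n)]
    rw [hsing]
  let L : (Fin r → A) →ₗ[A] (Fin r → A) := Fintype.linearCombination A w
  have hL : ∀ n y, π n ∘ (L y) = E n (π n ∘ y) := fun n y => by
    ext j
    rw [LinearMap.pi_apply_eq_sum_univ (E n) (π n ∘ y)]
    have hsingle : ∀ i : Fin r, (Pi.single i 1 : Fin r → An n) = fun j => if i = j then 1 else 0 :=
      fun i => funext fun j => by simp [Pi.single_apply, eq_comm]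
    simp [L, Fintype.linearCombination_apply, hw, hsingle]
  have hext : ∀ y z : Fin r → A, (∀ n, π n ∘ y = π n ∘ z) → y = z := fun y z h =>
    funext fun i => hA.2.1 _ _ fun n => congrFun (h n) i
  have hLL : ∀ y, L (L y) = L y := fun y => hext _ _ fun n => by
    rw [hL, hL]; exact LinearMap.congr_fun (hE n).1 _
  have hfix : ∀ x : LinearMap.range L, L x.1 = x.1 := fun x => by
    obtain ⟨y, hy⟩ := x.2
    rw [← hy, hLL]
  let p : ∀ n, LinearMap.range L →ₛₗ[π n] M n := fun n =>
    { toFun := fun x => q n (π n ∘ x.1)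
      map_add' := fun x y => by
        rw [← map_add]; congr 1; ext i; simp
      map_smul' := fun a x => by
        rw [← map_smul]; congr 1; ext i; simp }
  refine ⟨LinearMap.range L, inferInstance, inferInstance, p, Module.Finite.range L,
    Module.Projective.of_split (LinearMap.range L).subtype L.rangeRestrict
      (LinearMap.ext fun x => Subtype.ext (hfix x)),
    fun n x => by
      show u n (q (n + 1) (π (n + 1) ∘ x.1)) = q n (π n ∘ x.1)
      rw [hcomm, hπt], fun n => ⟨fun m => ?_, le_antisymm ?_ ?_⟩, fun x hx => ?_⟩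
  · obtain ⟨y, rfl⟩ := hq n m
    choose gl hgl using surjective_of_isRingLimit n An t π ht hA
    refine ⟨⟨L (gl ∘ y), _, rfl⟩, ?_⟩
    show q n (π n ∘ L (gl ∘ y)) = q n y
    rw [hL, (hE n).2.1, show π n ∘ gl ∘ y = y from funext fun i => hgl _]
  · intro x hx
    have h1 : π n ∘ x.1 = 0 := by
      rw [← hfix x, hL]; exact (hE n).2.2 _ hx
    have h2 : x = ∑ i, x.1 i • L.rangeRestrict (Pi.single i 1) := Subtype.ext (by
      rw [Submodule.coe_sum]
      conv_lhs => rw [← hfix x, LinearMap.pi_apply_eq_sum_univ L x.1]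
      refine Finset.sum_congr rfl fun i _ => ?_
      show x.1 i • L _ = x.1 i • L _
      congr 2
      ext k
      simp [Pi.single_apply, eq_comm])
    rw [h2]
    exact Submodule.sum_mem _ fun i _ => Submodule.smul_mem_smul (congrFun h1 i) trivial
  · refine Submodule.smul_le.mpr fun a ha x _ => ?_
    rw [LinearMap.mem_ker, map_smulₛₗ, RingHom.mem_ker.mp ha, zero_smul]
  · choose y hy using fun n => hq n (x n)
    have hcompat : ∀ n, t n ∘ (E (n + 1) (y (n + 1))) = E n (y n) := fun n => by
      rw [hEt]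
      exact sub_eq_zero.mp (by
        rw [← map_sub]
        exact (hE n).2.2 _ (by rw [map_sub, ← hcomm, hy, hy, hx, sub_self]))
    choose Y hY using fun i => hA.2.2 (fun n => E n (y n) i) fun n => congrFun (hcompat n) i
    have hY' : ∀ n, π n ∘ Y = E n (y n) := fun n => funext fun i => hY i n
    have hmem : L Y = Y := hext _ _ fun n => by
      rw [hL, hY']; exact LinearMap.congr_fun (hE n).1 _
    refine ⟨⟨Y, Y, hmem⟩, fun n => ?_, fun z hz => ?_⟩
    · show q n (π n ∘ Y) = x n
      rw [hY', (hE n).2.1, hy]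
    · refine Subtype.ext (hext _ _ fun n => ?_)
      rw [← hfix z, hL, show π n ∘ Y = E n (π n ∘ Y) by rw [← hL, hmem]]
      refine sub_eq_zero.mp ?_
      rw [← map_sub]
      refine (hE n).2.2 _ ?_
      rw [map_sub, sub_eq_zero, show q n (π n ∘ z.1) = x n from hz n, hY', (hE n).2.1, hy]

end Groth.Agent.Henz21
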