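import Mathlib.RingTheory.TensorProduct.Maps
import Mathlib.RingTheory.LocalRing.ResidueField.Instances
import Mathlib.FieldTheory.PurelyInseparable.Basic
import Mathlib.FieldTheory.IsAlgClosed.AlgebraicClosure
import Mathlib.RingTheory.Ideal.GoingUp
import Mathlib.Algebra.CharP.Lemmas

/-! Tensor products with integral local algebras with purely inseparable residue field. -/

set_option autoImplicit false
set_option linter.style.haveILetI false

universe u

open IsLocalRing TensorProduct

namespace Groth.Agent.Henz21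

variable {R A B : Type u} [CommRing R] [IsLocalRing R] [CommRing A] [IsLocalRing A] [Algebra R A]
  [IsLocalHom (algebraMap R A)] [CommRing B] [IsLocalRing B] [Algebra R B]
  [IsLocalHom (algebraMap R B)]

/-- The ideal of the closed fibres. -/
def closedIdeal (R A B : Type u) [CommRing R] [CommRing A] [IsLocalRing A] [Algebra R A]
    [CommRing B] [IsLocalRing B] [Algebra R B] : Ideal (A ⊗[R] B) :=
  (maximalIdeal A).map (Algebra.TensorProduct.includeLeftRingHom : A →+* A ⊗[R] B) ⊔
    (maximalIdeal B).map (Algebra.TensorProduct.includeRight : B →ₐ[R] A ⊗[R] B).toRingHom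

variable [Algebra.IsIntegral R A]

theorem isIntegral_includeRight :
    (Algebra.TensorProduct.includeRight : B →ₐ[R] A ⊗[R] B).toRingHom.IsIntegral := by
  intro z
  induction z using TensorProduct.induction_on with
  | zero => exact RingHom.isIntegralElem_zero _
  | tmul a b =>
    obtain ⟨p, hp, hp'⟩ := Algebra.IsIntegral.isIntegral (R := R) a
    have h1 : (Algebra.TensorProduct.includeRight :
        B →ₐ[R] A ⊗[R] B).toRingHom.IsIntegralElem (a ⊗ₜ[R] (1 : B)) := by
      refine ⟨p.map (algebraMap R B), hp.map _, ?_⟩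
      rw [Polynomial.eval₂_map]
      have h2 := Polynomial.hom_eval₂ p (algebraMap R A)
        (Algebra.TensorProduct.includeLeftRingHom : A →+* A ⊗[R] B) a
      rw [hp', map_zero] at h2
      rw [h2]
      congr 1
      exact RingHom.ext fun x =>
        ((Algebra.TensorProduct.includeRight : B →ₐ[R] A ⊗[R] B).commutes x)
    have h2 : (a ⊗ₜ[R] b : A ⊗[R] B) = (a ⊗ₜ 1) * ((1 : A) ⊗ₜ b) := by
      rw [Algebra.TensorProduct.tmul_mul_tmul, mul_one, one_mul]
    rw [h2]
    exact RingHom.IsIntegralElem.mul _ h1 (RingHom.isIntegralElem_map _)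
  | add x y hx hy => exact RingHom.IsIntegralElem.add _ hx hy

theorem comap_maximal (M : Ideal (A ⊗[R] B)) [M.IsMaximal] :
    M.comap (Algebra.TensorProduct.includeRight : B →ₐ[R] A ⊗[R] B).toRingHom = maximalIdeal B :=
  eq_maximalIdeal (Ideal.isMaximal_comap_of_isIntegral_of_isMaximal' _ isIntegral_includeRight M)

theorem closedIdeal_le (M : Ideal (A ⊗[R] B)) [M.IsMaximal] : closedIdeal R A B ≤ M := by
  refine sup_le (Ideal.map_le_iff_le_comap.mpr ?_)
    (Ideal.map_le_iff_le_comap.mpr (comap_maximal M).ge)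
  let P := M.comap (Algebra.TensorProduct.includeLeftRingHom : A →+* A ⊗[R] B)
  have hP : P.comap (algebraMap R A) = maximalIdeal R := by
    have h1 : ((Algebra.TensorProduct.includeLeftRingHom : A →+* A ⊗[R] B)).comp (algebraMap R A) =
        (Algebra.TensorProduct.includeRight : B →ₐ[R] A ⊗[R] B).toRingHom.comp (algebraMap R B) :=
      RingHom.ext fun x => ((Algebra.TensorProduct.algebraMap_apply x).symm.trans
        ((Algebra.TensorProduct.includeRight : B →ₐ[R] A ⊗[R] B).commutes x).symm)
    rw [Ideal.comap_comap, h1, ← Ideal.comap_comap, comap_maximal]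
    exact ((local_hom_TFAE (algebraMap R B)).out 0 4).mp ‹IsLocalHom (algebraMap R B)›
  haveI : P.IsPrime := inferInstance
  have : P.IsMaximal :=
    Ideal.isMaximal_of_isIntegral_of_isMaximal_comap P (hP ▸ maximalIdeal.isMaximal R)
  exact (eq_maximalIdeal this).ge

variable [IsPurelyInseparable (ResidueField R) (ResidueField A)]

theorem closedIdeal_ne_top : closedIdeal R A B ≠ ⊤ := by
  let K := AlgebraicClosure (ResidueField B)
  letI : Algebra (ResidueField R) K :=
    ((algebraMap (ResidueField B) K).comp (ResidueField.map (algebraMap R B))).toAlgebra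
  let θA : ResidueField A →ₐ[ResidueField R] K := IsAlgClosed.lift
  let fA : A →+* K := θA.toRingHom.comp (residue A)
  let fB : B →+* K := (algebraMap (ResidueField B) K).comp (residue B)
  have hc : ∀ r, fA (algebraMap R A r) = fB (algebraMap R B r) := fun r => by
    show θA (algebraMap (ResidueField R) (ResidueField A) (residue R r)) = _
    rw [AlgHom.commutes]
    rfl
  letI : Algebra R K := (fB.comp (algebraMap R B)).toAlgebra
  let fA' : A →ₐ[R] K := { fA with commutes' := hc }
  let fB' : B →ₐ[R] K := { fB with commutes' := fun r => rfl }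
  intro h
  have hle : closedIdeal R A B ≤ RingHom.ker (Algebra.TensorProduct.productMap fA' fB').toRingHom := by
    refine sup_le (Ideal.map_le_iff_le_comap.mpr fun a ha => ?_)
      (Ideal.map_le_iff_le_comap.mpr fun b hb => ?_)
    · rw [Ideal.mem_comap, RingHom.mem_ker]
      show Algebra.TensorProduct.productMap fA' fB' (a ⊗ₜ 1) = 0
      rw [Algebra.TensorProduct.productMap_apply_tmul, map_one, mul_one]
      show θA (residue A a) = 0
      rw [(residue_eq_zero_iff a).mpr ha, map_zero]
    · rw [Ideal.mem_comap, RingHom.mem_ker]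
      show Algebra.TensorProduct.productMap fA' fB' (1 ⊗ₜ b) = 0
      rw [Algebra.TensorProduct.productMap_apply_tmul, map_one, one_mul]
      show algebraMap _ K (residue B b) = 0
      rw [(residue_eq_zero_iff b).mpr hb, map_zero]
  exact RingHom.ker_ne_top _ (top_le_iff.mp (h ▸ hle))

/-- Up to a power of the exponential characteristic, every element comes from `B` modulo the
closed fibres. -/
theorem exists_pow_sub_mem (x : A ⊗[R] B) :
    ∃ (n : ℕ) (b : B),
      x ^ (ringExpChar (ResidueField B)) ^ n - (1 : A) ⊗ₜ[R] b ∈ closedIdeal R A B := by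
  set q := ringExpChar (ResidueField B)
  haveI : ExpChar (ResidueField B) q := ringExpChar.expChar _
  haveI : ExpChar (ResidueField R) q :=
    (RingHom.expChar_iff (ResidueField.map (algebraMap R B)) (RingHom.injective _) q).mpr inferInstance
  set J := closedIdeal R A B
  let π := Ideal.Quotient.mk J
  let ι : B →+* (A ⊗[R] B) ⧸ J :=
    π.comp (Algebra.TensorProduct.includeRight : B →ₐ[R] A ⊗[R] B).toRingHom
  have hι : ∀ b ∈ maximalIdeal B, ι b = 0 := fun b hb =>
    Ideal.Quotient.eq_zero_iff_mem.mpr (Submodule.mem_sup_right (Ideal.mem_map_of_mem _ hb))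
  haveI : Nontrivial ((A ⊗[R] B) ⧸ J) := Ideal.Quotient.nontrivial_iff.mpr closedIdeal_ne_top
  let ι' : ResidueField B →+* (A ⊗[R] B) ⧸ J := Ideal.Quotient.lift _ ι hι
  haveI : ExpChar ((A ⊗[R] B) ⧸ J) q := expChar_of_injective_ringHom ι'.injective q
  suffices h : ∃ (n : ℕ) (b : B), π x ^ q ^ n = ι b by
    obtain ⟨n, b, h⟩ := h
    exact ⟨n, b, Ideal.Quotient.eq.mp (by rw [map_pow]; exact h)⟩
  induction x using TensorProduct.induction_on with
  | zero => exact ⟨0, 0, by simp⟩
  | tmul a b =>
    obtain ⟨n, r, hr⟩ := IsPurelyInseparable.pow_mem (ResidueField R) q (residue A a)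
    obtain ⟨r, rfl⟩ := residue_surjective r
    refine ⟨n, algebraMap R B r * b ^ q ^ n, ?_⟩
    have h1 : a ^ q ^ n - algebraMap R A r ∈ maximalIdeal A := by
      rw [← residue_eq_zero_iff, map_sub, map_pow, sub_eq_zero, ← hr]
      rfl
    have h2 : π ((a ^ q ^ n) ⊗ₜ[R] (1 : B)) = π (algebraMap R A r ⊗ₜ[R] (1 : B)) :=
      Ideal.Quotient.eq.mpr (by
        rw [← TensorProduct.sub_tmul]
        exact Submodule.mem_sup_left (Ideal.mem_map_of_mem _ h1))
    calc π (a ⊗ₜ[R] b) ^ q ^ n = π ((a ^ q ^ n) ⊗ₜ[R] (1 : B)) * ι (b ^ q ^ n) := by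
          rw [← map_pow, Algebra.TensorProduct.tmul_pow]
          show _ = _ * π ((1 : A) ⊗ₜ (b ^ q ^ n))
          rw [← map_mul, Algebra.TensorProduct.tmul_mul_tmul, mul_one, one_mul]
      _ = ι (algebraMap R B r) * ι (b ^ q ^ n) := by
          rw [h2]
          congr 1
          exact congrArg π ((Algebra.TensorProduct.algebraMap_apply r).symm.trans
            ((Algebra.TensorProduct.includeRight : B →ₐ[R] A ⊗[R] B).commutes r).symm)
      _ = _ := (map_mul ι _ _).symm
  | add x y hx hy =>
    obtain ⟨n, b, hb⟩ := hx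
    obtain ⟨m, c, hc⟩ := hy
    refine ⟨n + m, b ^ q ^ m + c ^ q ^ n, ?_⟩
    rw [map_add, map_add, add_pow_expChar_pow, map_pow ι, map_pow ι, ← hb, ← hc]
    congr 1 <;> rw [← pow_mul, pow_add]
    rw [mul_comm]

theorem mem_iff_of_isMaximal (M : Ideal (A ⊗[R] B)) [M.IsMaximal] (x : A ⊗[R] B) {n : ℕ} {b : B}
    (h : x ^ (ringExpChar (ResidueField B)) ^ n - (1 : A) ⊗ₜ[R] b ∈ closedIdeal R A B) :
    x ∈ M ↔ b ∈ maximalIdeal B := by
  rw [← comap_maximal M, Ideal.mem_comap]
  show _ ↔ (1 : A) ⊗ₜ[R] b ∈ M
  have h' := closedIdeal_le M h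
  constructor
  · intro hx
    have := M.sub_mem (Ideal.pow_mem_of_mem M hx _
      (Nat.pow_pos (n := n) (expChar_pos (ResidueField B) (ringExpChar (ResidueField B))))) h'
    simpa using this
  · intro hb
    exact ‹M.IsMaximal›.isPrime.mem_of_pow_mem _ (by simpa using M.add_mem h' hb)

theorem isLocalRing_tensorProduct : IsLocalRing (A ⊗[R] B) := by
  obtain ⟨M, hM, -⟩ := Ideal.exists_le_maximal _ (closedIdeal_ne_top (R := R) (A := A) (B := B))
  refine IsLocalRing.of_unique_max_ideal ⟨M, hM, fun M' hM' => ?_⟩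
  ext x
  obtain ⟨n, b, h⟩ := exists_pow_sub_mem x
  rw [mem_iff_of_isMaximal M' x h, mem_iff_of_isMaximal M x h]

end Groth.Agent.Henz21
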