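import Groth.Agent.Henz21.LocalLift
import Groth.Agent.Henz21.FiniteEtaleLift
import Groth.Agent.Hens22.Stability
import Groth.Agent.EtAlg23.HenselBasic
import Mathlib.AlgebraicGeometry.Morphisms.Etale
import Mathlib.FieldTheory.IsSepClosed
import Mathlib.RingTheory.Etale.Field

/-! Strictly henselian rings are those over which etale morphisms have sections. -/

universe u

open IsLocalRing AlgebraicGeometry CategoryTheory

noncomputable section

namespace Groth.Agent.Henz21

variable {A : Type u} [CommRing A]

/-- A prime of an etale algebra over the closed point of a strictly henselian ring has a section. -/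
theorem exists_retraction_at [HenselianLocalRing A] [IsSepClosed (ResidueField A)]
    {S : Type u} [CommRing S] [Algebra A S] [Algebra.Etale A S] (q : Ideal S) [q.IsPrime]
    (hq : q.comap (algebraMap A S) = maximalIdeal A) :
    ∃ g : S →ₐ[A] A, (maximalIdeal A).comap g.toRingHom = q := by
  haveI : q.LiesOver (maximalIdeal A) := ⟨hq.symm⟩
  haveI : Algebra.IsUnramifiedAt A q :=
    Algebra.FormallyUnramified.comp A S (Localization.AtPrime q)
  let _ := Localization.AtPrime.algebraOfLiesOver (maximalIdeal A) q
  haveI : Algebra.IsSeparable (maximalIdeal A).ResidueField q.ResidueField :=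
    ((Algebra.isUnramifiedAt_iff_map_eq A (maximalIdeal A) q).mp inferInstance).1
  let ι : ResidueField A →+* (maximalIdeal A).ResidueField :=
    algebraMap (A ⧸ maximalIdeal A) (maximalIdeal A).ResidueField
  have hι : Function.Bijective ι := Ideal.bijective_algebraMap_quotient_residueField _
  haveI : IsSepClosed (maximalIdeal A).ResidueField := by
    let e := RingEquiv.ofBijective ι hι
    refine IsSepClosed.of_exists_root _ fun p hp hirr hsep => ?_
    obtain ⟨x, hx⟩ := IsSepClosed.exists_root (p.map e.symm.toRingHom) (by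
      rw [Polynomial.degree_map]
      exact (Polynomial.degree_pos_of_irreducible hirr).ne') hsep.map
    refine ⟨e x, e.symm.injective ?_⟩
    rw [Polynomial.IsRoot.def, Polynomial.eval_map] at hx
    rw [map_zero, ← hx]
    show e.symm.toRingHom (p.eval (e x)) = _
    rw [← Polynomial.eval₂_at_apply]
    simp
  have hsurj : Function.Surjective (algebraMap (maximalIdeal A).ResidueField q.ResidueField) :=
    (IsSepClosed.algebraMap_surjective _ _)
  let e' := RingEquiv.ofBijective (algebraMap (maximalIdeal A).ResidueField q.ResidueField)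
    ⟨RingHom.injective _, hsurj⟩
  let σr : S →+* ResidueField A := ((RingEquiv.ofBijective ι hι).symm.toRingHom.comp
    e'.symm.toRingHom).comp (algebraMap S q.ResidueField)
  have hσ : ∀ a, σr (algebraMap A S a) = residue A a := fun a => by
    show (RingEquiv.ofBijective ι hι).symm
      (e'.symm (algebraMap S q.ResidueField (algebraMap A S a))) = _
    rw [← IsScalarTower.algebraMap_apply, RingEquiv.symm_apply_eq, RingEquiv.symm_apply_eq]
    show algebraMap A q.ResidueField a = algebraMap (maximalIdeal A).ResidueField q.ResidueField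
      (algebraMap (A ⧸ maximalIdeal A) (maximalIdeal A).ResidueField
        (algebraMap A (A ⧸ maximalIdeal A) a))
    rw [← IsScalarTower.algebraMap_apply A (A ⧸ maximalIdeal A) (maximalIdeal A).ResidueField,
      ← IsScalarTower.algebraMap_apply A (maximalIdeal A).ResidueField q.ResidueField]
  let σ : S →ₐ[A] ResidueField A := { σr with commutes' := hσ }
  obtain ⟨g, hg, -⟩ := existsUnique_lift σ
  refine ⟨g, ?_⟩
  ext s
  rw [Ideal.mem_comap, ← residue_eq_zero_iff]
  have h1 : residue A (g s) = σr s := DFunLike.congr_fun hg s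
  show residue A (g s) = 0 ↔ s ∈ q
  rw [h1]
  simp [σr, map_eq_zero_iff, Ideal.algebraMap_residueField_eq_zero]

theorem exists_section [HenselianLocalRing A] [IsSepClosed (ResidueField A)]
    (X : Scheme.{u}) (f : X ⟶ Spec (CommRingCat.of A)) [Etale f] (x : X)
    (hx : f.base x = closedPoint A) :
    ∃ u : Spec (CommRingCat.of A) ⟶ X, u ≫ f = 𝟙 _ ∧ u.base (closedPoint A) = x := by
  obtain ⟨U, hU, hxU, -⟩ :=
    exists_isAffineOpen_mem_and_subset (U := (⊤ : X.Opens)) (x := x) trivial
  obtain ⟨y, hy⟩ : x ∈ Set.range hU.fromSpec.base := by rw [hU.range_fromSpec]; exact hxU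
  let φ := Spec.preimage (hU.fromSpec ≫ f)
  have hφ : Spec.map φ = hU.fromSpec ≫ f := Spec.map_preimage _
  have het : φ.hom.Etale := by
    rw [← HasRingHomProperty.Spec_iff (P := @Etale), hφ]
    infer_instance
  let _ : Algebra A Γ(X, U) := φ.hom.toAlgebra
  haveI : Algebra.Etale A Γ(X, U) := het
  have hq : y.asIdeal.comap (algebraMap A Γ(X, U)) = maximalIdeal A := by
    have h1 : (Spec.map φ).base y = closedPoint A := by
      rw [hφ]
      show f.base (hU.fromSpec.base y) = _
      rw [hy, hx]
    exact congrArg PrimeSpectrum.asIdeal h1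
  haveI : y.asIdeal.IsPrime := y.isPrime
  obtain ⟨g, hg⟩ := exists_retraction_at y.asIdeal hq
  refine ⟨Spec.map (CommRingCat.ofHom g.toRingHom) ≫ hU.fromSpec, ?_, ?_⟩
  · rw [Category.assoc, ← hφ, ← Spec.map_comp]
    have : φ ≫ CommRingCat.ofHom g.toRingHom = 𝟙 _ :=
      CommRingCat.hom_ext (RingHom.ext g.commutes)
    rw [this, Spec.map_id]
  · show hU.fromSpec.base ((Spec.map (CommRingCat.ofHom g.toRingHom)).base (closedPoint A)) = x
    rw [show (Spec.map (CommRingCat.ofHom g.toRingHom)).base (closedPoint A) = y from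
      PrimeSpectrum.ext hg, hy]

/-- Sections of etale morphisms through all points give a strictly henselian ring. -/
theorem henselian_sepClosed_of_sections [IsLocalRing A]
    (h : ∀ (X : Scheme.{u}) (f : X ⟶ Spec (CommRingCat.of A)), Etale f →
      ∀ x : X, f.base x = closedPoint A →
        ∃ u : Spec (CommRingCat.of A) ⟶ X, u ≫ f = 𝟙 _ ∧ u.base (closedPoint A) = x) :
    HenselianLocalRing A ∧ IsSepClosed (ResidueField A) := by
  have key : ∀ (S : Type u) [CommRing S] [Algebra A S] [Algebra.Etale A S] (q : Ideal S)
      [q.IsPrime], q.comap (algebraMap A S) = maximalIdeal A →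
      ∃ g : S →ₐ[A] A, (maximalIdeal A).comap g.toRingHom = q := by
    intro S _ _ _ q _ hq
    obtain ⟨u, hu, hu'⟩ := h (Spec (CommRingCat.of S))
      (Spec.map (CommRingCat.ofHom (algebraMap A S)))
      ((HasRingHomProperty.Spec_iff (P := @Etale)).mpr (RingHom.etale_algebraMap.mpr inferInstance))
      ⟨q, inferInstance⟩ (PrimeSpectrum.ext hq)
    let ψ := Spec.preimage u
    have hψ : Spec.map ψ = u := Spec.map_preimage _
    have h2 : CommRingCat.ofHom (algebraMap A S) ≫ ψ = 𝟙 _ := by
      apply Spec.map_injective
      rw [Spec.map_comp, hψ, hu, Spec.map_id]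
    refine ⟨{ ψ.hom with commutes' := RingHom.congr_fun (congrArg CommRingCat.Hom.hom h2) }, ?_⟩
    rw [← hψ] at hu'
    exact congrArg PrimeSpectrum.asIdeal hu'
  have hh : HenselianRing A (maximalIdeal A) :=
    Hens22.henselianRing_of_lift _ (by rw [jacobson_eq_maximalIdeal _ bot_ne_top])
      fun S _ _ _ σ => by
        haveI : (RingHom.ker σ).IsPrime := RingHom.ker_isPrime _
        obtain ⟨g, hg⟩ := key S (RingHom.ker σ) (by
          ext a
          rw [Ideal.mem_comap, RingHom.mem_ker, AlgHom.commutes]
          exact Ideal.Quotient.eq_zero_iff_mem)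
        refine ⟨g, AlgHom.ext fun s => ?_⟩
        obtain ⟨a, ha⟩ := Ideal.Quotient.mk_surjective (σ s)
        have h1 : s - algebraMap A S a ∈ RingHom.ker σ := by
          rw [RingHom.mem_ker, map_sub, AlgHom.commutes, ← ha]
          exact sub_self _
        rw [← hg, Ideal.mem_comap, ← Ideal.Quotient.eq_zero_iff_mem] at h1
        show Ideal.Quotient.mk (maximalIdeal A) (g s) = σ s
        rw [← ha, ← sub_eq_zero]
        simpa using h1
  refine ⟨EtAlg23.henselianLocalRing_of_henselianRing A, ?_⟩
  refine IsSepClosed.of_exists_root _ fun p hp hirr hsep => ?_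
  haveI : Fact (Irreducible p) := ⟨hirr⟩
  let l := AdjoinRoot p
  haveI : FiniteDimensional (ResidueField A) l := hp.finite_adjoinRoot
  haveI : Algebra.IsSeparable (ResidueField A) l := by
    have hroot : IsSeparable (ResidueField A) (AdjoinRoot.root p) :=
      hsep.of_dvd (minpoly.dvd _ _ ((AdjoinRoot.aeval_eq p).trans AdjoinRoot.mk_self))
    have hs := (IntermediateField.isSeparable_adjoin_simple_iff_isSeparable _ _).mpr hroot
    have htop : IntermediateField.adjoin (ResidueField A) {AdjoinRoot.root p} = ⊤ := by
      refine IntermediateField.toSubalgebra_injective ?_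
      rw [IntermediateField.top_toSubalgebra, ← top_le_iff, ← AdjoinRoot.adjoinRoot_eq_top]
      exact IntermediateField.algebra_adjoin_le_adjoin _ _
    rw [htop] at hs
    exact AlgEquiv.Algebra.isSeparable IntermediateField.topEquiv
  obtain ⟨E, hE, hEl, hEA, hEloc, hfin, het, ⟨e⟩⟩ := exists_finite_etale_local_lift (A := A) l
  obtain ⟨g, hg⟩ := key E (maximalIdeal E) (((local_hom_TFAE (algebraMap A E)).out 0 4).mp hEloc)
  haveI : IsLocalHom g.toRingHom := ⟨fun x hx => by
    rw [← notMem_maximalIdeal, ← hg]
    exact notMem_maximalIdeal.mpr hx⟩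
  let ρ : ResidueField E →+* ResidueField A := ResidueField.map g.toRingHom
  have hρ : ∀ a, ρ (algebraMap (ResidueField A) (ResidueField E) a) = a := fun a => by
    obtain ⟨a, rfl⟩ := residue_surjective a
    show ResidueField.map g.toRingHom (residue E (algebraMap A E a)) = _
    rw [ResidueField.map_residue]
    exact congrArg _ (g.commutes a)
  refine ⟨ρ (e.symm (AdjoinRoot.root p)), ?_⟩
  have h0 : Polynomial.aeval (e.symm (AdjoinRoot.root p)) p = 0 := by
    refine (Polynomial.aeval_algHom_apply e.symm.toAlgHom (AdjoinRoot.root p) p).trans ?_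
    simp [AdjoinRoot.aeval_eq]
  have := congrArg ρ h0
  rw [map_zero, Polynomial.aeval_def, Polynomial.hom_eval₂,
    show ρ.comp (algebraMap (ResidueField A) (ResidueField E)) = RingHom.id _ from RingHom.ext hρ,
    Polynomial.eval₂_id] at this
  exact this

end Groth.Agent.Henz21
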