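import Mathlib
import Groth.Agent.Henz21.SepDegree
import Groth.Agent.Henz21.EtalePart
import Groth.Agent.Hensel20.Criteria

/-!
On each branch, an intermediate ring with finite separable residue extensions in its normalization
is contained in a finite algebra over its ind-étale part.
-/

universe u

open IsLocalRing Polynomial

namespace Groth.Agent.Henz21

set_option maxHeartbeats 8000000 in
set_option synthInstance.maxHeartbeats 80000 in
/-- The key step. -/
theorem exists_generator_mod_branch {A S : Type u} [CommRing A] [HenselianLocalRing A] [IsNoetherianRing A]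
    [CommRing S] [IsLocalRing S] [Algebra A S] [IsLocalHom (algebraMap A S)]
    [Hensel.IsStrictHenselization A S] (D : Type u) [CommRing D] [Algebra A D] [Algebra D S]
    [IsScalarTower A D S] [FaithfulSMul D S] [IsReduced D] [IsLocalRing D]
    [IsLocalHom (algebraMap D S)] [IsArtinianRing (FractionRing D)]
    (D₀ : Subalgebra A S) (hle : ∀ e ∈ D₀, ∃ d : D, algebraMap D S d = e)
    (hres : ∀ d : D, ∃ e ∈ D₀, residue S e = residue S (algebraMap D S d))
    (hfin : ∀ (M : Ideal (integralClosure D (FractionRing D))) [M.IsMaximal],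
      FiniteDimensional (Subfield.closure (Set.range ((algebraMap (integralClosure D (FractionRing D))
        M.ResidueField).comp (algebraMap D (integralClosure D (FractionRing D))))))
        (separableClosure (Subfield.closure (Set.range ((algebraMap (integralClosure D (FractionRing D))
        M.ResidueField).comp (algebraMap D (integralClosure D (FractionRing D)))))) M.ResidueField))
    {Q : Ideal S} (hQ : Q ∈ minimalPrimes S) :
    ∃ c : S, ∀ d : D, ∃ r ∈ Algebra.adjoin D₀ ({c} : Set S), algebraMap D S d - r ∈ Q := by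
  classical
  have : Q.IsPrime := hQ.1.1
  have hint := isIntegral_strictHenselization (A := A) (S := S)
  have hDint : Algebra.IsIntegral D S :=
    ⟨fun x => (Algebra.IsIntegral.isIntegral (R := A) x).tower_top⟩
  have : HenselianLocalRing S := Hensel.IsStrictHenselization.henselian (R := A)
  have hsc : IsSepClosure (ResidueField A) (ResidueField S) := Hensel.IsStrictHenselization.isSepClosure
  have := hsc.sep_closed
  have : IsReduced (FractionRing D) :=
    isReduced_localizationPreserves (nonZeroDivisors D) _ inferInstance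
  set P := Q.comap (algebraMap D S) with hP
  have hPmin : P ∈ minimalPrimes D := comap_mem_minimalPrimes (A := A) D hQ
  have : P.IsPrime := hPmin.1.1
  have hdisj : Disjoint (nonZeroDivisors D : Set D) (P : Set D) :=
    Set.disjoint_left.2 fun x hx hxP =>
      (Set.disjoint_left.1 (Ideal.disjoint_nonZeroDivisors_of_mem_minimalPrimes hPmin) hxP) hx
  set 𝔭 := P.map (algebraMap D (FractionRing D)) with h𝔭
  have : 𝔭.IsPrime := IsLocalization.isPrime_of_isPrime_disjoint (nonZeroDivisors D) _ P inferInstance hdisj
  have h𝔭c : 𝔭.comap (algebraMap D (FractionRing D)) = P :=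
    IsLocalization.comap_map_of_isPrime_disjoint (nonZeroDivisors D) _ inferInstance hdisj
  have : 𝔭.IsMaximal := IsArtinianRing.isMaximal_of_isPrime 𝔭
  let := Ideal.Quotient.field 𝔭
  let K := FractionRing (S ⧸ Q)
  let iS : (S ⧸ Q) →ₐ[D] K := IsScalarTower.toAlgHom D (S ⧸ Q) K
  have hiS : Function.Injective iS := IsFractionRing.injective (S ⧸ Q) K
  have hunit : ∀ d : nonZeroDivisors D, IsUnit (algebraMap D K d) := fun d => isUnit_iff_ne_zero.2 fun h => by
    rw [IsScalarTower.algebraMap_apply D (S ⧸ Q) K] at h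
    have := (map_eq_zero_iff _ hiS).1 h
    exact Set.disjoint_left.1 hdisj d.2
      (show algebraMap D S d ∈ Q from Ideal.Quotient.eq_zero_iff_mem.1 this)
  let F : FractionRing D →+* K := IsLocalization.lift hunit
  have hF : ∀ z ∈ 𝔭, F z = 0 := by
    intro z hz
    rw [← RingHom.mem_ker]
    refine (Ideal.map_le_iff_le_comap.2 fun d hd => ?_) hz
    rw [Ideal.mem_comap, RingHom.mem_ker, IsLocalization.lift_eq,
      IsScalarTower.algebraMap_apply D (S ⧸ Q) K,
      show algebraMap D (S ⧸ Q) d = 0 from Ideal.Quotient.eq_zero_iff_mem.2 hd, map_zero]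
  let jL : (FractionRing D ⧸ 𝔭) →ₐ[D] K :=
    { Ideal.Quotient.lift 𝔭 F hF with
      commutes' := fun d => IsLocalization.lift_eq hunit d }
  have hjL : Function.Injective jL := jL.toRingHom.injective
  have hLint : ∀ z : FractionRing D ⧸ 𝔭, jL z ∈ iS.range → IsIntegral D z := by
    rintro z ⟨w, hw⟩
    have hSQ : Algebra.IsIntegral D (S ⧸ Q) := inferInstance
    refine (isIntegral_algHom_iff jL hjL).1 ?_
    rw [← show iS w = jL z from hw]
    exact (Algebra.IsIntegral.isIntegral w).map iS
  let C₀ : Subalgebra D (FractionRing D ⧸ 𝔭) := iS.range.comap jL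
  let σ : C₀ →ₐ[D] (S ⧸ Q) := (AlgEquiv.ofInjective iS hiS).symm.toAlgHom.comp
    ((jL.comp C₀.val).codRestrict iS.range fun z => z.2)
  have hσ : ∀ z : C₀, iS (σ z) = jL z := fun z =>
    congrArg Subtype.val ((AlgEquiv.ofInjective iS hiS).apply_symm_apply ⟨jL z, z.2⟩)
  -- the residue map on the subring
  have : IsLocalHom (algebraMap A D) := by
    obtain ⟨_, -, h, -⟩ := isLocal_subalgebra (A := A) (S := S) D
    exact h
  have : IsLocalHom (Ideal.Quotient.mk Q) := IsLocalHom.of_surjective _ Ideal.Quotient.mk_surjective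
  let resQ : (S ⧸ Q) →+* ResidueField S := Ideal.Quotient.lift Q (residue S)
    (fun x hx => (residue_eq_zero_iff x).2 (le_maximalIdeal ‹Q.IsPrime›.ne_top hx))
  let ρ : C₀ →+* ResidueField S := resQ.comp σ.toRingHom
  have hρD : ∀ d : D, ρ (algebraMap D C₀ d) = residue S (algebraMap D S d) := fun d => by
    show resQ (σ (algebraMap D C₀ d)) = _
    rw [AlgHom.commutes]
    rfl
  set m₀ := RingHom.ker ρ with hm₀
  have : m₀.IsPrime := RingHom.ker_isPrime ρ
  let Cb := integralClosure D (FractionRing D ⧸ 𝔭)
  let inc : C₀ →ₐ[D] Cb := C₀.val.codRestrict _ fun z => hLint _ z.2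
  letI : Algebra C₀ Cb := inc.toRingHom.toAlgebra
  have : IsScalarTower D C₀ Cb := IsScalarTower.of_algebraMap_eq fun d => (inc.commutes d).symm
  have : Algebra.IsIntegral C₀ Cb := Algebra.IsIntegral.tower_top D
  have hincinj : Function.Injective (algebraMap C₀ Cb) := fun x y h =>
    Subtype.ext (congrArg (fun z : Cb => (z : FractionRing D ⧸ 𝔭)) h)
  obtain ⟨N, -, hNp, hN⟩ := Ideal.exists_ideal_over_prime_of_isIntegral (S := Cb) m₀ ⊥
    (by rw [← RingHom.ker_eq_comap_bot, (RingHom.injective_iff_ker_eq_bot _).1 hincinj]; exact bot_le)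
  have hDalg : Algebra.IsIntegral A D := ⟨fun x =>
    (isIntegral_algHom_iff (IsScalarTower.toAlgHom A D S) (FaithfulSMul.algebraMap_injective D S)).1
      (Algebra.IsIntegral.isIntegral _)⟩
  have hND : N.comap (algebraMap D Cb) = maximalIdeal D := by
    rw [IsScalarTower.algebraMap_eq D C₀ Cb, ← Ideal.comap_comap, hN]
    ext d
    rw [Ideal.mem_comap, hm₀, RingHom.mem_ker, hρD, residue_eq_zero_iff]
    exact (IsLocalRing.mem_maximalIdeal _).trans ((not_congr (isUnit_map_iff (algebraMap D S) d)).trans
      (IsLocalRing.mem_maximalIdeal d).symm)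
  have : N.IsMaximal := Ideal.isMaximal_of_isIntegral_of_isMaximal_comap (R := D) N
    (hND ▸ maximalIdeal.isMaximal D)
  let π : integralClosure D (FractionRing D) →+* Cb :=
    ((Ideal.Quotient.mkₐ D 𝔭).comp (integralClosure D (FractionRing D)).val).toRingHom.codRestrict Cb
      fun y => IsIntegral.map (Ideal.Quotient.mkₐ D 𝔭) y.2
  have hπsurj : Function.Surjective π := fun z => by
    obtain ⟨y, hy⟩ := exists_integral_lift D 𝔭 z.2
    exact ⟨y, Subtype.ext hy⟩
  set M := N.comap π with hM
  have : M.IsMaximal := Ideal.comap_isMaximal_of_surjective π hπsurj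
  have hπD : ∀ d : D, π (algebraMap D _ d) = algebraMap D Cb d := fun d => Subtype.ext rfl
  -- the bound
  let θ := algebraMap (integralClosure D (FractionRing D)) M.ResidueField
  have hθ : RingHom.ker θ = M := by
    ext x; exact Ideal.algebraMap_residueField_eq_zero
  have hkerD : RingHom.ker (θ.comp (algebraMap D _)) = maximalIdeal D := by
    rw [← RingHom.comap_ker, hθ, hM, Ideal.comap_comap,
      show π.comp (algebraMap D _) = algebraMap D Cb from RingHom.ext hπD, hND]
  set k₀ := Subfield.closure (Set.range (θ.comp (algebraMap D _))) with hk₀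
  let g₀ : ResidueField D →+* k₀ := Ideal.Quotient.lift (maximalIdeal D)
    ((θ.comp (algebraMap D _)).codRestrict k₀ fun d => Subfield.subset_closure ⟨d, rfl⟩)
    (fun d hd => Subtype.ext (by rw [← hkerD] at hd; exact hd))
  have hg₀ : Function.Surjective g₀ := by
    rintro ⟨z, hz⟩
    have hz' : z ∈ (k₀ : Set M.ResidueField) := hz
    rw [hk₀, coe_closure_range_of_isField _ hkerD] at hz'
    obtain ⟨d, rfl⟩ := hz'
    exact ⟨residue D d, rfl⟩
  let gD : D →+* k₀ := g₀.comp (residue D)
  have : FiniteDimensional k₀ (separableClosure k₀ M.ResidueField) := hfin M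
  have : IsScalarTower (ResidueField A) (ResidueField D) (ResidueField S) := by
    refine IsScalarTower.of_algebraMap_eq fun x => ?_
    obtain ⟨r, rfl⟩ := residue_surjective x
    exact congrArg (residue S) (IsScalarTower.algebraMap_apply A D S r)
  have := hsc.separable
  have : Algebra.IsSeparable (ResidueField D) (ResidueField S) :=
    ⟨fun z => IsSeparable.tower_top (ResidueField D) (Algebra.IsSeparable.isSeparable (ResidueField A) z)⟩
  have hbound : ∀ c : C₀, (minpoly (ResidueField D) (ρ c)).natDegree ≤
      Module.finrank k₀ (separableClosure k₀ M.ResidueField) := by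
    intro c
    have hsepρ : IsSeparable (ResidueField D) (ρ c) := Algebra.IsSeparable.isSeparable _ _
    obtain ⟨hD, hhD, -, hhDm⟩ := Polynomial.lifts_and_degree_eq_and_monic
      (f := residue D) (p := minpoly (ResidueField D) (ρ c))
      ((Polynomial.lifts_iff_coeff_lifts _).2 fun n => residue_surjective _)
      (minpoly.monic hsepρ.isIntegral)
    have hρcomp : ρ.comp (algebraMap D C₀) = (ResidueField.map (algebraMap D S)).comp (residue D) :=
      RingHom.ext fun d => hρD d
    obtain ⟨y, hy⟩ := hπsurj (algebraMap C₀ Cb c)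
    have hiff : ∀ p : D[X], eval₂ (algebraMap D _) y p ∈ M ↔ aeval (ρ c) (p.map (residue D)) = 0 := by
      intro p
      rw [hM, Ideal.mem_comap, hom_eval₂, hy,
        show π.comp (algebraMap D _) = (algebraMap C₀ Cb).comp (algebraMap D C₀) from
          RingHom.ext fun d => (hπD d).trans (IsScalarTower.algebraMap_apply D C₀ Cb d),
        ← hom_eval₂, ← Ideal.mem_comap, hN, hm₀, RingHom.mem_ker, hom_eval₂, hρcomp, ← eval₂_map]
      rfl
    have h1 : eval₂ (algebraMap D _) y hD ∈ M := (hiff hD).2 (by rw [hhD]; exact minpoly.aeval _ _)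
    have hsep' : IsSeparable k₀ (θ y) := by
      have hp : ((minpoly (ResidueField D) (ρ c)).map g₀).Separable :=
        Polynomial.Separable.map (hsepρ : (minpoly (ResidueField D) (ρ c)).Separable)
      refine Polynomial.Separable.of_dvd hp (minpoly.dvd k₀ _ ?_)
      have h2 : θ (eval₂ (algebraMap D _) y hD) = 0 := by rwa [← RingHom.mem_ker, hθ]
      rw [hom_eval₂] at h2
      rw [aeval_def, eval₂_map, ← hhD, eval₂_map]
      exact h2
    obtain ⟨p', hp', -, hp'm⟩ := Polynomial.lifts_and_degree_eq_and_monic
      (f := gD) (p := minpoly k₀ (θ y))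
      ((Polynomial.lifts_iff_coeff_lifts _).2 fun n => (hg₀.comp residue_surjective) _)
      (minpoly.monic hsep'.isIntegral)
    have h2 : aeval (ρ c) (p'.map (residue D)) = 0 := by
      rw [← hiff, ← hθ, RingHom.mem_ker, hom_eval₂,
        show θ.comp (algebraMap D _) = (algebraMap k₀ M.ResidueField).comp gD from rfl, ← eval₂_map, hp']
      exact minpoly.aeval _ _
    calc (minpoly (ResidueField D) (ρ c)).natDegree ≤ (p'.map (residue D)).natDegree :=
          natDegree_le_of_dvd (minpoly.dvd _ _ h2) (hp'm.map _).ne_zero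
      _ = (minpoly k₀ (θ y)).natDegree := by rw [hp'm.natDegree_map, ← hp', hp'm.natDegree_map]
      _ ≤ _ := by
        rw [show θ y = ((⟨θ y, mem_separableClosure_iff.2 hsep'⟩ : separableClosure k₀ M.ResidueField) :
          M.ResidueField) from rfl, ← IntermediateField.minpoly_eq]
        exact minpoly.natDegree_le _
  -- a generator of the residue field of the branch
  let Fa : Subalgebra (ResidueField D) (ResidueField S) :=
    { ρ.range.toSubsemiring with
      algebraMap_mem' := fun x => by
        obtain ⟨d, rfl⟩ := residue_surjective x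
        exact ⟨algebraMap D C₀ d, hρD d⟩ }
  let F : IntermediateField (ResidueField D) (ResidueField S) := Fa.toIntermediateField fun x hx =>
    Subalgebra.inv_mem_of_algebraic (x := ⟨x, hx⟩) Fa
      (Algebra.IsAlgebraic.isAlgebraic (R := ResidueField D) x)
  have : Algebra.IsSeparable (ResidueField D) F := Algebra.isSeparable_tower_bot_of_isSeparable _ F (ResidueField S)
  have : FiniteDimensional (ResidueField D) F := finiteDimensional_of_natDegree_le _ F
      (Module.finrank k₀ (separableClosure k₀ M.ResidueField)) fun z => by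
    obtain ⟨c, hc⟩ := (show (z : ResidueField S) ∈ ρ.range from z.2)
    rw [IntermediateField.minpoly_eq, ← hc]
    exact hbound c
  obtain ⟨z₀, hz₀⟩ := Field.exists_primitive_element (ResidueField D) F
  obtain ⟨c₀, hc₀⟩ := (show (z₀ : ResidueField S) ∈ ρ.range from z₀.2)
  obtain ⟨c, hc⟩ := Ideal.Quotient.mk_surjective (σ c₀)
  have hcres : residue S c = ρ c₀ := congrArg resQ hc
  refine ⟨c, fun dx => ?_⟩
  set x := algebraMap D S dx with hxdef
  -- the finite algebra
  let R' : Subalgebra A S := (Algebra.adjoin D₀ ({c} : Set S)).restrictScalars A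
  obtain ⟨hR'loc, hR'S, hAR', -⟩ := isLocal_subalgebra (A := A) (S := S) R'
  have : Algebra.IsIntegral A R' := ⟨fun y =>
    (isIntegral_algHom_iff R'.val Subtype.val_injective).1 (Algebra.IsIntegral.isIntegral _)⟩
  have : HenselianLocalRing R' := henselianLocalRing_of_isIntegral (A := A)
  let J : IntermediateField (ResidueField D) (ResidueField S) :=
    (algebraMap (ResidueField R') (ResidueField S)).fieldRange.toIntermediateField fun k => by
      obtain ⟨d, rfl⟩ := residue_surjective k
      obtain ⟨e, he, hed⟩ := hres d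
      exact ⟨residue R' ⟨e, Subalgebra.algebraMap_mem (Algebra.adjoin D₀ ({c} : Set S)) ⟨e, he⟩⟩, hed⟩
  have hρJ : ∀ c₁ : C₀, ρ c₁ ∈ Set.range (algebraMap (ResidueField R') (ResidueField S)) := by
    intro c₁
    let z : F := ⟨ρ c₁, c₁, rfl⟩
    have hz : (z : ResidueField S) ∈
        IntermediateField.lift (IntermediateField.adjoin (ResidueField D) ({z₀} : Set F)) :=
      (IntermediateField.mem_lift z).2 (hz₀ ▸ IntermediateField.mem_top)
    rw [IntermediateField.lift_adjoin_simple, ← hc₀, ← hcres] at hz
    exact (IntermediateField.adjoin_simple_le_iff (K := J)).2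
      ⟨residue R' ⟨c, Algebra.self_mem_adjoin_singleton _ c⟩, rfl⟩ hz
  -- the equations over the finite algebra
  obtain ⟨E, a, f₀, hxE, hEloc, hEhom, hEt, hEfin, hEadj, hf₀, hfa, hfsep⟩ :=
    exists_monogenic_stage (A := A) ({x} : Finset S)
  obtain ⟨Px, hPx⟩ : ∃ Px : A[X], aeval a Px = x := by
    have hx' : x ∈ Algebra.adjoin A ({a} : Set S) := hEadj ▸ hxE (Finset.mem_singleton_self x)
    rw [Algebra.adjoin_singleton_eq_range_aeval] at hx'
    exact hx'
  have hintbar : IsIntegral (ResidueField R') (residue S a) := by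
    have : IsScalarTower (ResidueField A) (ResidueField R') (ResidueField S) := by
      refine IsScalarTower.of_algebraMap_eq fun y => ?_
      obtain ⟨r, rfl⟩ := residue_surjective y
      exact congrArg (residue S) (IsScalarTower.algebraMap_apply A R' S r)
    exact (Algebra.IsSeparable.isSeparable (ResidueField A) (residue S a)).isIntegral.tower_top
  set q := minpoly (ResidueField R') (residue S a) with hq
  have hevres : ∀ p : R'[X], aeval (residue S a) (p.map (residue R')) = residue S (aeval a p) := by
    intro p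
    rw [aeval_def, eval₂_map, aeval_def, hom_eval₂]
    rfl
  let fR : R'[X] := f₀.map (algebraMap A R')
  have hfRa : aeval a fR = 0 := by rw [aeval_map_algebraMap, hfa]
  have hfRsep : (fR.map (residue R')).Separable := by
    rw [Polynomial.map_map, show (residue R').comp (algebraMap A R') =
      (ResidueField.map (algebraMap A R')).comp (residue A) from RingHom.ext fun y => rfl, ← Polynomial.map_map]
    exact hfsep.map
  obtain ⟨h₀, hh₀⟩ : q ∣ fR.map (residue R') :=
    minpoly.dvd _ _ (by rw [hevres, hfRa, map_zero])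
  have hqm : q.Monic := minpoly.monic hintbar
  have hcop : IsCoprime q h₀ := (hh₀ ▸ hfRsep).isCoprime
  obtain ⟨gR, hR, hfac, hgRm, hgRq, hhRh⟩ :=
    Hensel20.exists_factor_lift (I := maximalIdeal R') fR q h₀ hqm hcop hh₀
  have hgRa : aeval a gR = 0 := by
    have h1 : aeval a gR * aeval a hR = 0 := by rw [← map_mul, ← hfac, hfRa]
    have h2 : IsUnit (aeval a hR) := by
      rw [← residue_ne_zero_iff_isUnit, ← hevres]
      intro h3
      obtain ⟨u, v, huv⟩ := hcop
      have h4 := congrArg (aeval (residue S a)) huv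
      rw [map_add, map_mul, map_mul, map_one, hq, minpoly.aeval, mul_zero, zero_add,
        show aeval (residue S a) h₀ = 0 from by rw [← hhRh]; exact h3, mul_zero] at h4
      exact zero_ne_one h4
    exact h2.mul_left_eq_zero.1 h1
  let P' : R'[X] := Px.map (algebraMap A R') %ₘ gR
  have hP'a : aeval a P' = x := by
    rw [aeval_modByMonic_eq_self_of_root hgRa, aeval_map_algebraMap, hPx]
  have hP'deg : P'.degree < q.degree := by
    refine (degree_modByMonic_lt _ hgRm).trans_le (le_of_eq ?_)
    rw [show q = gR.map (residue R') from hgRq.symm, hgRm.degree_map]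
  -- independence over the branch
  letI : Algebra (FractionRing D ⧸ 𝔭) K := jL.toRingHom.toAlgebra
  have : IsScalarTower D (FractionRing D ⧸ 𝔭) K := IsScalarTower.of_algebraMap_eq fun d => (jL.commutes d).symm
  let jS : S →+* K := iS.toRingHom.comp (Ideal.Quotient.mk Q)
  have hjD : jS.comp (algebraMap D S) = algebraMap D K := RingHom.ext fun d => iS.commutes d
  have hR'L : ∀ r ∈ R', jS r ∈ jL.toRingHom.range := by
    intro r hr
    induction (show r ∈ Algebra.adjoin D₀ ({c} : Set S) from hr) using Algebra.adjoin_induction with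
    | mem y hy =>
      rw [Set.mem_singleton_iff.1 hy]
      exact ⟨c₀, by rw [show jS c = iS (Ideal.Quotient.mk Q c) from rfl, hc, hσ]; rfl⟩
    | algebraMap e =>
      obtain ⟨d, hd⟩ := hle e e.2
      exact ⟨algebraMap D _ d, (jL.commutes d).trans ((RingHom.congr_fun hjD d).symm.trans (congrArg jS hd))⟩
    | add y z hy hz h1 h2 => rw [map_add]; exact add_mem (h1 hy) (h2 hz)
    | mul y z hy hz h1 h2 => rw [map_mul]; exact mul_mem (h1 hy) (h2 hz)
  set α : K := jS a with hα
  have hjA : jS.comp (algebraMap A S) = algebraMap A K := RingHom.ext fun y => rfl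
  have hαA : ∀ p : A[X], aeval α (p.map (algebraMap A K)) = jS (aeval a p) := fun p => by
    rw [aeval_def, eval₂_map, aeval_def, hom_eval₂, hjA]
    rfl
  set fK := f₀.map (algebraMap A K) with hfK
  have hfLK : (f₀.map (algebraMap A (FractionRing D ⧸ 𝔭))).map jL.toRingHom = fK := by
    rw [Polynomial.map_map]
    congr 1
    refine RingHom.ext fun y => ?_
    rw [RingHom.comp_apply, IsScalarTower.algebraMap_apply A D (FractionRing D ⧸ 𝔭)]
    exact (jL.commutes _).trans (IsScalarTower.algebraMap_apply A D K y).symm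
  have hf₀α : aeval α (f₀.map (algebraMap A (FractionRing D ⧸ 𝔭))) = 0 := by
    rw [aeval_def, show algebraMap (FractionRing D ⧸ 𝔭) K = jL.toRingHom from rfl, ← eval_map, hfLK,
      ← map_zero jS, ← hfa, ← hαA, hfK, aeval_def, Algebra.algebraMap_self, eval₂_id]
  have hαint : IsIntegral (FractionRing D ⧸ 𝔭) α := ⟨_, hf₀.map _, by rw [← aeval_def]; exact hf₀α⟩
  set g := minpoly (FractionRing D ⧸ 𝔭) α with hg
  have hfS : ((f₀.map (algebraMap A S)).map (residue S)).Separable := by
    rw [Polynomial.map_map,
      show (residue S).comp (algebraMap A S) = (ResidueField.map (algebraMap A S)).comp (residue A) from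
        RingHom.ext fun x => rfl, ← Polynomial.map_map]
    exact hfsep.map
  have hgdvd : g.map jL.toRingHom ∣ fK := hfLK ▸ Polynomial.map_dvd jL.toRingHom (minpoly.dvd _ _ hf₀α)
  have hsplit : fK.Splits := by
    rw [hfK, ← hjA, ← Polynomial.map_map]
    exact (splits_of_separable (hf₀.map _) hfS).map jS
  have hcoeff : ∀ i, g.coeff i ∈ C₀ := by
    have hgm : (g.map jL.toRingHom).Monic := (minpoly.monic hαint).map _
    have hlifts : g.map jL.toRingHom ∈ Polynomial.lifts iS.toRingHom := by
      rw [(hsplit.of_dvd (hf₀.map _).ne_zero hgdvd).eq_prod_roots_of_monic hgm]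
      refine Subsemiring.multiset_prod_mem _ _ fun p hp => ?_
      obtain ⟨z, hz, rfl⟩ := Multiset.mem_map.1 hp
      have hzf : z ∈ fK.roots := Multiset.mem_of_le (roots.le_of_dvd (hf₀.map _).ne_zero hgdvd) hz
      obtain ⟨w, rfl⟩ := root_mem_range jS (hf₀.map (algebraMap A S)) hfS (z := z)
        (by rw [Polynomial.map_map, hjA]; exact (mem_roots'.1 hzf).2)
      refine ⟨X - C (Ideal.Quotient.mk Q w), ?_⟩
      simp [jS]
    intro i
    obtain ⟨w, hw⟩ := (Polynomial.lifts_iff_coeff_lifts _).1 hlifts i
    rw [coeff_map] at hw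
    exact ⟨w, hw⟩
  have hqg : q.degree ≤ g.degree := by
    have hglift : g ∈ Polynomial.lifts C₀.val.toRingHom :=
      (Polynomial.lifts_iff_coeff_lifts _).2 fun i => ⟨⟨_, hcoeff i⟩, rfl⟩
    obtain ⟨g₁, hg₁, hg₁deg, hg₁m⟩ := Polynomial.lifts_and_degree_eq_and_monic hglift (minpoly.monic hαint)
    have hg₁a : eval₂ σ.toRingHom (Ideal.Quotient.mk Q a) g₁ = 0 := by
      apply hiS
      show iS.toRingHom (eval₂ σ.toRingHom (Ideal.Quotient.mk Q a) g₁) = iS 0
      rw [hom_eval₂, map_zero, show iS.toRingHom.comp σ.toRingHom = jL.toRingHom.comp C₀.val.toRingHom from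
        RingHom.ext hσ, ← eval₂_map, hg₁]
      exact minpoly.aeval _ α
    have hres' : eval₂ ρ (residue S a) g₁ = 0 := by
      have h := congrArg resQ hg₁a
      rw [hom_eval₂, map_zero] at h
      exact h
    have hlow : g₁.map ρ ∈ Polynomial.lifts (algebraMap (ResidueField R') (ResidueField S)) :=
      (Polynomial.lifts_iff_coeff_lifts _).2 fun i => by rw [coeff_map]; exact hρJ _
    obtain ⟨g₂, hg₂, hg₂deg, hg₂m⟩ := Polynomial.lifts_and_degree_eq_and_monic hlow (hg₁m.map ρ)
    have h5 : aeval (residue S a) g₂ = 0 := by rw [aeval_def, ← eval_map, hg₂, eval_map]; exact hres'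
    have h6 := minpoly.degree_le_of_ne_zero (ResidueField R') _ hg₂m.ne_zero h5
    rwa [hg₂deg, hg₁m.degree_map, hg₁deg] at h6
  obtain ⟨G, hG, hGdeg⟩ := Polynomial.exists_degree_eq_of_mem_lifts
    (f := jL.toRingHom) (p := P'.map (jS.comp R'.val.toRingHom))
    ((Polynomial.lifts_iff_coeff_lifts _).2 fun i => by
      rw [coeff_map]
      exact hR'L _ (P'.coeff i).2)
  have hzero : G - C (algebraMap D _ dx) = 0 := by
    by_contra hne
    have hroot : aeval α (G - C (algebraMap D (FractionRing D ⧸ 𝔭) dx)) = 0 := by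
      rw [map_sub, aeval_C, aeval_def, show algebraMap (FractionRing D ⧸ 𝔭) K = jL.toRingHom from rfl,
        ← eval_map, hG, eval_map, show jL.toRingHom (algebraMap D _ dx) = jS x from
          (jL.commutes _).trans (RingHom.congr_fun hjD dx).symm, ← hom_eval₂, sub_eq_zero]
      exact congrArg jS hP'a
    have h1 := hqg.trans (minpoly.degree_le_of_ne_zero _ α hne hroot)
    refine absurd h1 (not_le.2 ((degree_sub_le _ _).trans_lt (max_lt ?_ ?_)))
    · rw [hGdeg]; exact degree_map_le.trans_lt hP'deg
    · exact degree_C_le.trans_lt (minpoly.degree_pos hintbar)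
  refine ⟨(P'.coeff 0 : S), (P'.coeff 0).2, ?_⟩
  rw [← Ideal.Quotient.eq_zero_iff_mem]
  apply hiS
  rw [map_zero]
  show jS (x - (P'.coeff 0 : S)) = 0
  rw [map_sub, sub_eq_zero, show jS (P'.coeff 0 : S) = jL.toRingHom (G.coeff 0) from by
    rw [← coeff_map, hG, coeff_map]; rfl, sub_eq_zero.1 hzero, coeff_C_zero]
  exact ((jL.commutes _).trans (RingHom.congr_fun hjD dx).symm).symm

end Groth.Agent.Henz21
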