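import Mathlib
import Groth.Agent.Henz21.SepFiniteBranch

/-!
Noetherian intermediate rings of the strict henselization and finiteness of the separable residue
extensions of their normalizations.
-/

universe u

open IsLocalRing Polynomial

namespace Groth.Agent.Henz21

variable {A S : Type u} [CommRing A] [HenselianLocalRing A] [IsNoetherianRing A] [IsReduced A]
  [CommRing S] [IsLocalRing S] [Algebra A S] [IsLocalHom (algebraMap A S)]
  [Hensel.IsStrictHenselization A S]
  (D : Type u) [CommRing D] [Algebra A D] [Algebra D S] [IsScalarTower A D S] [FaithfulSMul D S]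

include A in
/-- An intermediate ring is reduced with Artinian total fraction ring. -/
theorem isReduced_and_artinian_intermediate :
    IsReduced S ∧ IsReduced D ∧ IsArtinianRing (FractionRing D) := by
  have hS : IsReduced S :=
    (Hensel20.isReduced_iff_of_equiv (strictHenselizationEquiv (R := A) S)).2 inferInstance
  have hD : IsReduced D :=
    isReduced_of_injective (algebraMap D S) (FaithfulSMul.algebraMap_injective D S)
  refine ⟨hS, hD, SubSh14.isArtinianRing_fractionRing D ?_⟩
  have : IsNoetherianRing S := isNoetherianRing_strictHenselization A S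
  refine ((minimalPrimes.finite_of_isNoetherianRing S).image (Ideal.comap (algebraMap D S))).subset
    fun P hP => ?_
  obtain ⟨Q₀, hQ₀, -, hQ₀P⟩ := Ideal.exists_comap_eq_of_mem_minimalPrimes (f := algebraMap D S) (I := ⊥) P (by
    rwa [← RingHom.ker_eq_comap_bot,
      (RingHom.injective_iff_ker_eq_bot _).1 (FaithfulSMul.algebraMap_injective D S)])
  obtain ⟨Q, hQ, hQle⟩ := Ideal.exists_minimalPrimes_le (I := (⊥ : Ideal S)) (J := Q₀) bot_le
  have : Q.IsPrime := hQ.1.1
  refine ⟨Q, hQ, ?_⟩
  have hle : Q.comap (algebraMap D S) ≤ P := hQ₀P ▸ Ideal.comap_mono hQle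
  exact le_antisymm hle (hP.2 ⟨Ideal.IsPrime.comap _, bot_le⟩ hle)

set_option maxHeartbeats 1000000 in
set_option synthInstance.maxHeartbeats 80000 in
include A S in
/-- Noetherian intermediate rings have finite separable residue extensions. -/
theorem finiteDimensional_separableClosure [IsNoetherianRing D]
    (M : Ideal (integralClosure D (FractionRing D))) [M.IsMaximal] :
    FiniteDimensional (Subfield.closure (Set.range ((algebraMap (integralClosure D (FractionRing D))
      M.ResidueField).comp (algebraMap D (integralClosure D (FractionRing D))))))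
      (separableClosure (Subfield.closure (Set.range ((algebraMap (integralClosure D (FractionRing D))
      M.ResidueField).comp (algebraMap D (integralClosure D (FractionRing D)))))) M.ResidueField) := by
  classical
  obtain ⟨-, hDred, hDart⟩ := isReduced_and_artinian_intermediate (A := A) (S := S) D
  obtain ⟨_, hDS, hAD, hDSint⟩ := isLocal_subalgebra (A := A) (S := S) D
  have hint := isIntegral_strictHenselization (A := A) (S := S)
  have : Algebra.IsIntegral A D := ⟨fun x =>
    (isIntegral_algHom_iff (IsScalarTower.toAlgHom A D S) (FaithfulSMul.algebraMap_injective D S)).1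
      (Algebra.IsIntegral.isIntegral _)⟩
  have : HenselianLocalRing D := henselianLocalRing_of_isIntegral (A := A)
  have : IsReduced (FractionRing D) :=
    isReduced_localizationPreserves (nonZeroDivisors D) _ inferInstance
  let D' := integralClosure D (FractionRing D)
  have hfin : {I : Ideal (FractionRing D) | I.IsPrime}.Finite := IsArtinianRing.setOfPred_isPrime_finite _
  obtain ⟨𝔭, h𝔭mem, h𝔭M⟩ : ∃ 𝔭 ∈ hfin.toFinset, Ideal.comap (D'.val : D' →+* FractionRing D) 𝔭 ≤ M := by
    refine (Ideal.IsPrime.inf_le' (inferInstance : M.IsPrime)).1 fun y hy => ?_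
    have : (y : FractionRing D) = 0 := by
      have hn : IsNilpotent (y : FractionRing D) := nilpotent_iff_mem_prime.2 fun J hJ =>
        (Submodule.mem_finsetInf.1 hy) J (hfin.mem_toFinset.2 hJ)
      exact hn.eq_zero
    rw [show y = 0 from Subtype.ext this]
    exact M.zero_mem
  have : 𝔭.IsPrime := hfin.mem_toFinset.1 h𝔭mem
  have : 𝔭.IsMaximal := IsArtinianRing.isMaximal_of_isPrime 𝔭
  let := Ideal.Quotient.field 𝔭
  let I : Ideal D' := Ideal.comap (D'.val : D' →+* FractionRing D) 𝔭
  have : I.IsPrime := Ideal.IsPrime.comap _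
  set P := 𝔭.comap (algebraMap D (FractionRing D)) with hP
  have : P.IsPrime := Ideal.IsPrime.comap _
  have hker : RingHom.ker (algebraMap D (FractionRing D ⧸ 𝔭)) = P := by
    ext d
    exact Ideal.Quotient.eq_zero_iff_mem
  have hsurj : ∀ l : FractionRing D ⧸ 𝔭, ∃ a b : D, b ∉ P ∧
      l * algebraMap D (FractionRing D ⧸ 𝔭) b = algebraMap D (FractionRing D ⧸ 𝔭) a := by
    intro l
    obtain ⟨z, rfl⟩ := Ideal.Quotient.mk_surjective l
    obtain ⟨⟨a, b⟩, hab⟩ := IsLocalization.surj (nonZeroDivisors D) z
    refine ⟨a, b, fun hb => Ideal.IsPrime.ne_top' (I := 𝔭)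
      (Ideal.eq_top_of_isUnit_mem _ hb (IsLocalization.map_units (FractionRing D) b)), ?_⟩
    exact congrArg (Ideal.Quotient.mk 𝔭) hab
  refine finiteDimensional_of_natDegree_le _ _
    ((P.map (algebraMap D (StrictHenselization D))).minimalPrimes).ncard fun x => ?_
  rw [IntermediateField.minpoly_eq]
  obtain ⟨hkerD, hD, y, hhDm, hsepD, hyI, hθy, hirr, hdeg⟩ :=
    exists_root_lift I M h𝔭M (x : M.ResidueField) (mem_separableClosure_iff.1 x.2)
  have hlroot : aeval (Ideal.Quotient.mk 𝔭 (y : FractionRing D)) hD = 0 := by
    rw [show Ideal.Quotient.mk 𝔭 (y : FractionRing D) = (Ideal.Quotient.mkₐ D 𝔭) (y : FractionRing D) from rfl,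
      aeval_algHom_apply, show (y : FractionRing D) = D'.val y from rfl, aeval_algHom_apply,
      Ideal.Quotient.mkₐ_eq_mk, Ideal.Quotient.eq_zero_iff_mem]
    exact hyI
  rw [← hdeg]
  exact natDegree_le_ncard_minimalPrimes P hker hsurj hhDm hsepD hirr hlroot

set_option maxHeartbeats 1000000 in
set_option synthInstance.maxHeartbeats 80000 in
include S in
/-- Finite separable residue extensions of the normalization imply Noetherian. -/
theorem isNoetherianRing_of_finiteDimensional_separableClosure (D₀ : Subalgebra A S)
    (hD₀ : IsNoetherianRing D₀) (hle : ∀ e ∈ D₀, ∃ d : D, algebraMap D S d = e)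
    (hres : ∀ d : D, ∃ e ∈ D₀, residue S e = residue S (algebraMap D S d))
    (hfin : ∀ (M : Ideal (integralClosure D (FractionRing D))) [M.IsMaximal],
      FiniteDimensional (Subfield.closure (Set.range ((algebraMap (integralClosure D (FractionRing D))
        M.ResidueField).comp (algebraMap D (integralClosure D (FractionRing D))))))
        (separableClosure (Subfield.closure (Set.range ((algebraMap (integralClosure D (FractionRing D))
        M.ResidueField).comp (algebraMap D (integralClosure D (FractionRing D)))))) M.ResidueField)) :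
    IsNoetherianRing D := by
  classical
  obtain ⟨hSred, hDred, hDart⟩ := isReduced_and_artinian_intermediate (A := A) (S := S) D
  obtain ⟨_, hDS, hAD, hDSint⟩ := isLocal_subalgebra (A := A) (S := S) D
  have hint := isIntegral_strictHenselization (A := A) (S := S)
  have : IsNoetherianRing S := isNoetherianRing_strictHenselization A S
  have : Finite (minimalPrimes S) := (minimalPrimes.finite_of_isNoetherianRing S).to_subtype
  have hinj : Function.Injective (algebraMap D S) := FaithfulSMul.algebraMap_injective D S
  choose c hc using fun Q : minimalPrimes S =>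
    exists_generator_mod_branch (A := A) D D₀ hle hres hfin Q.2
  choose d hd using fun e : D₀ => hle e e.2
  let j : D₀ →+* D :=
    { toFun := d
      map_one' := hinj ((hd 1).trans (map_one (algebraMap D S)).symm)
      map_mul' := fun x y => hinj ((hd _).trans (by rw [map_mul, hd, hd]; rfl))
      map_zero' := hinj ((hd 0).trans (map_zero (algebraMap D S)).symm)
      map_add' := fun x y => hinj ((hd _).trans (by rw [map_add, hd, hd]; rfl)) }
  letI : Algebra D₀ D := j.toAlgebra
  have : IsScalarTower D₀ D S := IsScalarTower.of_algebraMap_eq fun e => (hd e).symm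
  let Φ : D →ₗ[D₀] ∀ Q : minimalPrimes S, S ⧸ (Q : Ideal S) :=
    (LinearMap.pi fun Q : minimalPrimes S => (Ideal.Quotient.mkₐ D₀ (Q : Ideal S)).toLinearMap).comp
      (IsScalarTower.toAlgHom D₀ D S).toLinearMap
  have hΦ : Function.Injective Φ := by
    rw [injective_iff_map_eq_zero]
    intro x hx
    apply hinj
    rw [map_zero]
    refine (isNilpotent_iff_eq_zero).1 (nilpotent_iff_mem_prime.2 fun J hJ => ?_)
    obtain ⟨Q, hQ, hQJ⟩ := Ideal.exists_minimalPrimes_le (I := (⊥ : Ideal S)) (J := J) bot_le
    exact hQJ (Ideal.Quotient.eq_zero_iff_mem.1 (congrFun hx ⟨Q, hQ⟩))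
  let N : Submodule D₀ (∀ Q : minimalPrimes S, S ⧸ (Q : Ideal S)) :=
    Submodule.pi Set.univ fun Q =>
      (Algebra.adjoin D₀ ({c Q} : Set S)).toSubmodule.map (Ideal.Quotient.mkₐ D₀ (Q : Ideal S)).toLinearMap
  have hN : N.FG := Submodule.fg_pi fun Q =>
    (((Algebra.IsIntegral.isIntegral (R := A) (c Q)).tower_top (A := D₀)).fg_adjoin_singleton).map _
  have hmem : ∀ x, Φ x ∈ N := by
    intro x Q _
    obtain ⟨r, hr, hxr⟩ := hc Q x
    refine ⟨r, hr, ?_⟩
    exact (Ideal.Quotient.eq.2 hxr).symm
  have : IsNoetherian D₀ N := isNoetherian_of_fg_of_noetherian N hN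
  have : IsNoetherian D₀ D := isNoetherian_of_injective (Φ.codRestrict N hmem)
    fun x y h => hΦ (congrArg Subtype.val h)
  exact isNoetherianRing_iff.2 (isNoetherian_of_tower D₀ this)

end Groth.Agent.Henz21
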