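import Mathlib
import Groth.Agent.Henz21.Unique
import Groth.Agent.Henz21.Quotient

/-! Quotients of strict henselizations. -/

set_option autoImplicit false
universe u

open IsLocalRing

namespace Groth.Agent.Henz21

/-- A proper quotient of a local ring is local. -/
theorem isLocalRing_quot {S : Type u} [CommRing S] [IsLocalRing S] {I : Ideal S} (hI : I ≠ ⊤) :
    ∃ _ : IsLocalRing (S ⧸ I), IsLocalHom (Ideal.Quotient.mk I) := by
  have : Nontrivial (S ⧸ I) := Ideal.Quotient.nontrivial_iff.2 hI
  exact ⟨.of_surjective' (Ideal.Quotient.mk I) Ideal.Quotient.mk_surjective,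
    IsLocalHom.of_surjective _ Ideal.Quotient.mk_surjective⟩

/-- The quotient of a strict henselization is a strict henselization of the quotient. -/
theorem isStrictHenselization_quotient (L S : Type u) [CommRing L] [IsLocalRing L] [CommRing S]
    [IsLocalRing S] [Algebra L S] [IsLocalHom (algebraMap L S)] [hS : Hensel.IsStrictHenselization L S]
    (I : Ideal L) (hI : I ≠ ⊤) :
    ∃ (_ : IsLocalRing (L ⧸ I)) (_ : IsLocalRing (S ⧸ I.map (algebraMap L S)))
      (_ : IsLocalHom (algebraMap (L ⧸ I) (S ⧸ I.map (algebraMap L S)))),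
      Hensel.IsStrictHenselization (L ⧸ I) (S ⧸ I.map (algebraMap L S)) := by
  have := hS.henselian
  have hJ : I.map (algebraMap L S) ≠ ⊤ := fun h => by
    have h1 : (maximalIdeal L).map (algebraMap L S) = ⊤ :=
      top_le_iff.1 (h.ge.trans (Ideal.map_mono (le_maximalIdeal hI)))
    exact (maximalIdeal.isMaximal S).ne_top (top_le_iff.1 (h1.ge.trans ((local_hom_TFAE _).out 0 2 |>.1 ‹_›)))
  obtain ⟨hl, hlm⟩ := isLocalRing_quot hI
  obtain ⟨hl', hlm'⟩ := isLocalRing_quot hJ
  have hloc : IsLocalHom (algebraMap (L ⧸ I) (S ⧸ I.map (algebraMap L S))) := ⟨fun x hx => by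
    obtain ⟨a, rfl⟩ := Ideal.Quotient.mk_surjective x
    exact (isUnit_of_map_unit (algebraMap L S) a (isUnit_of_map_unit (Ideal.Quotient.mk _) _ hx)).map _⟩
  refine ⟨hl, hl', hloc, ⟨henselianLocalRing_of_surjective (Ideal.Quotient.mk (I.map (algebraMap L S)))
    Ideal.Quotient.mk_surjective, ?_, ?_⟩⟩
  · let e1 : ResidueField L ≃+* ResidueField (L ⧸ I) := RingEquiv.ofBijective
      (ResidueField.map (Ideal.Quotient.mk I)) ⟨RingHom.injective _, fun y => by
        obtain ⟨z, rfl⟩ := residue_surjective y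
        obtain ⟨a, rfl⟩ := Ideal.Quotient.mk_surjective z
        exact ⟨residue L a, rfl⟩⟩
    let e2 : ResidueField S ≃+* ResidueField (S ⧸ I.map (algebraMap L S)) := RingEquiv.ofBijective
      (ResidueField.map (Ideal.Quotient.mk (I.map (algebraMap L S)))) ⟨RingHom.injective _, fun y => by
        obtain ⟨z, rfl⟩ := residue_surjective y
        obtain ⟨a, rfl⟩ := Ideal.Quotient.mk_surjective z
        exact ⟨residue S a, rfl⟩⟩
    have hsc := hS.isSepClosure
    have := hsc.separable
    refine ⟨IsSepClosed.of_exists_root _ fun p hp _ hsep => ?_, Algebra.IsSeparable.of_equiv_equiv e1 e2 ?_⟩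
    · have := hsc.sep_closed
      have hd : (p.map e2.symm.toRingHom).degree ≠ 0 := by
        rw [Polynomial.degree_map]
        exact (Polynomial.degree_pos_of_irreducible ‹_›).ne'
      obtain ⟨x, hx⟩ := IsSepClosed.exists_root (p.map e2.symm.toRingHom) hd hsep.map
      refine ⟨e2 x, e2.symm.injective ?_⟩
      rw [map_zero, Polynomial.IsRoot.def, Polynomial.eval_map] at *
      rw [← hx]
      show e2.symm.toRingHom (Polynomial.eval (e2 x) p) = _
      rw [← Polynomial.eval₂_at_apply]
      congr 1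
      exact e2.symm_apply_apply x
    · refine RingHom.ext fun x => ?_
      obtain ⟨a, rfl⟩ := residue_surjective x
      rfl
  · intro T _ _ f _ τ hτ
    have : IsLocalHom (f.comp (Ideal.Quotient.mk I)) := RingHom.isLocalHom_comp _ _
    let τ0 : ResidueField S →+* ResidueField T :=
      τ.comp (ResidueField.map (Ideal.Quotient.mk (I.map (algebraMap L S))))
    have hτ0 : τ0.comp (ResidueField.map (algebraMap L S)) = ResidueField.map (f.comp (Ideal.Quotient.mk I)) := by
      refine RingHom.ext fun y => ?_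
      obtain ⟨a, rfl⟩ := residue_surjective y
      exact RingHom.congr_fun hτ (residue (L ⧸ I) (Ideal.Quotient.mk I a))
    obtain ⟨g, ⟨hg1, hg2⟩, hgu⟩ := hS.universal T (f.comp (Ideal.Quotient.mk I)) τ0 hτ0
    have hker : ∀ x ∈ I.map (algebraMap L S), g x = 0 := fun x hx => by
      rw [← RingHom.mem_ker]
      refine (Ideal.map_le_iff_le_comap.2 fun a ha => ?_) hx
      rw [Ideal.mem_comap, RingHom.mem_ker, ← RingHom.comp_apply, hg1, RingHom.comp_apply,
        Ideal.Quotient.eq_zero_iff_mem.2 ha, map_zero]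
    refine ⟨Ideal.Quotient.lift _ g hker, ⟨RingHom.ext fun x => ?_, fun x => ?_⟩, fun g' hg' => ?_⟩
    · obtain ⟨a, rfl⟩ := Ideal.Quotient.mk_surjective x
      exact RingHom.congr_fun hg1 a
    · obtain ⟨a, rfl⟩ := Ideal.Quotient.mk_surjective x
      exact hg2 a
    · refine Ideal.Quotient.ringHom_ext (RingHom.ext fun a => ?_)
      have h := hgu (g'.comp (Ideal.Quotient.mk _)) ⟨RingHom.ext fun b => ?_, fun b => hg'.2 (Ideal.Quotient.mk _ b)⟩
      · exact RingHom.congr_fun h a
      · exact RingHom.congr_fun hg'.1 (Ideal.Quotient.mk I b)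

end Groth.Agent.Henz21
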