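import Groth.Agent.Henz21.SmoothUnibranch
import Groth.Agent.Henz21.Quotient
import Groth.Agent.Henz21.FiniteLocal
import Groth.Agent.Henz21.FaithfullyFlat
import Groth.Agent.Henz21.StrictQuotient
import Groth.Agent.Props58.GeomUnibranch
import Groth.Agent.VarNormal.TensorSep
import Groth.Agent.FBase64.TensorField
import Mathlib.LinearAlgebra.TensorProduct.RightExactness
import Mathlib.RingTheory.RingHom.Flat
import Mathlib.RingTheory.Ideal.GoingDown

/-!
Branches of a tensor product of henselian local algebras over an algebraically closed field.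
-/

set_option autoImplicit false
set_option linter.style.haveILetI false

universe u

open IsLocalRing
open scoped TensorProduct

noncomputable section

namespace Groth.Agent.Henz21.TensorBranch

/-- Flat maps pull minimal primes back to minimal primes. -/
theorem comap_mem_minimalPrimes {R S : Type u} [CommRing R] [CommRing S] {f : R →+* S} (hf : f.Flat)
    {P : Ideal S} (hP : P ∈ minimalPrimes S) : P.comap f ∈ minimalPrimes R := by
  let := f.toAlgebra
  have : Module.Flat R S := hf
  have := hP.1.1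
  refine ⟨⟨inferInstance, bot_le⟩, fun p hp hle => ?_⟩
  have := hp.1
  have : P.LiesOver (P.comap (algebraMap R S)) := ⟨rfl⟩
  obtain ⟨Q, hQP, hQ, hQp⟩ := Ideal.exists_ideal_le_liesOver_of_le (Q := P)
    (show p ≤ P.comap (algebraMap R S) from hle)
  have hQe : Q = P := le_antisymm hQP (hP.2 ⟨hQ, bot_le⟩ hQP)
  rw [← hQe]
  exact hQp.over.ge

variable {k : Type u} [Field k] [IsAlgClosed k]

omit [IsAlgClosed k] in
theorem flat_includeLeft {A B : Type u} [CommRing A] [CommRing B] [Algebra k A] [Algebra k B] :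
    (Algebra.TensorProduct.includeLeft : A →ₐ[k] A ⊗[k] B).toRingHom.Flat :=
  RingHom.flat_algebraMap_iff.2 (inferInstance : Module.Flat A (A ⊗[k] B))

omit [IsAlgClosed k] in
theorem flat_includeRight {A B : Type u} [CommRing A] [CommRing B] [Algebra k A] [Algebra k B] :
    (Algebra.TensorProduct.includeRight : B →ₐ[k] A ⊗[k] B).toRingHom.Flat := by
  have h : (Algebra.TensorProduct.includeRight : B →ₐ[k] A ⊗[k] B).toRingHom =
      (Algebra.TensorProduct.comm k B A).toAlgHom.toRingHom.comp
        (Algebra.TensorProduct.includeLeft : B →ₐ[k] B ⊗[k] A).toRingHom :=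
    RingHom.ext fun b => rfl
  rw [h]
  exact flat_includeLeft.comp (RingHom.Flat.of_bijective (Algebra.TensorProduct.comm k B A).bijective)

/-- The residue field of a local ring integral over one with residue field `k` is `k`. -/
theorem exists_sub_mem_of_integral {D N : Type u} [CommRing D] [IsLocalRing D] [CommRing N]
    [IsLocalRing N] [Algebra k D] [Algebra k N] [Algebra D N] [IsScalarTower k D N]
    [Algebra.IsIntegral D N] [IsLocalHom (algebraMap D N)]
    (hD : Function.Surjective ((residue D).comp (algebraMap k D))) (x : N) :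
    ∃ c : k, x - algebraMap k N c ∈ maximalIdeal N := by
  have hint : Algebra.IsIntegral k (ResidueField N) := by
    refine ⟨fun y => ?_⟩
    obtain ⟨y, rfl⟩ := residue_surjective y
    obtain ⟨P, hP, hP0⟩ := Algebra.IsIntegral.isIntegral (R := D) y
    let g : k →+* ResidueField D := (residue D).comp (algebraMap k D)
    have hg : Function.Bijective g := ⟨g.injective, hD⟩
    let e := RingEquiv.ofBijective g hg
    refine ⟨(P.map (residue D)).map e.symm.toRingHom, (hP.map _).map _, ?_⟩
    have hcomp : ((algebraMap k (ResidueField N)).comp e.symm.toRingHom).comp (residue D) =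
        (residue N).comp (algebraMap D N) := by
      refine RingHom.ext fun d => ?_
      obtain ⟨c, hc⟩ := hD (residue D d)
      have h1 : e.symm (residue D d) = c := e.symm_apply_eq.2 hc.symm
      show algebraMap k (ResidueField N) (e.symm (residue D d)) = _
      rw [h1, IsScalarTower.algebraMap_apply k N (ResidueField N), IsScalarTower.algebraMap_apply k D N]
      have h2 := congrArg (ResidueField.map (algebraMap D N)) hc
      rw [RingHom.comp_apply, ResidueField.map_residue, ResidueField.map_residue] at h2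
      exact h2
    rw [Polynomial.eval₂_map, Polynomial.eval₂_map, hcomp, ← Polynomial.hom_eval₂, hP0, map_zero]
  obtain ⟨c, hc⟩ := (IsAlgClosed.algebraMap_bijective_of_isIntegral (k := k)
    (K := ResidueField N)).2 (residue N x)
  refine ⟨c, (residue_eq_zero_iff _).1 ?_⟩
  rw [map_sub, ← hc, sub_eq_zero, IsScalarTower.algebraMap_apply k N (ResidueField N)]
  rfl

/-- Properties of the normalization of a quotient domain of a henselian local algebra with residue
field `k`. -/
theorem exists_model {A : Type u} [CommRing A] [HenselianLocalRing A] [Algebra k A]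
    (hA : Function.Surjective ((residue A).comp (algebraMap k A))) (p : Ideal A) [p.IsPrime] :
    ∃ (N : Type u) (_ : CommRing N) (_ : IsDomain N) (_ : IsLocalRing N) (_ : IsIntegrallyClosed N)
      (_ : Algebra k N) (f : A →ₐ[k] N), f.toRingHom.IsIntegral ∧ RingHom.ker f = p ∧
      (∀ n, ∃ a b : A, b ∉ p ∧ n * f b = f a) ∧
      (maximalIdeal N).comap f.toRingHom = maximalIdeal A ∧
      ∀ n, ∃ c : k, n - algebraMap k N c ∈ maximalIdeal N := by
  let D := A ⧸ p
  haveI : IsLocalRing D := IsLocalRing.of_surjective' (Ideal.Quotient.mk p) Ideal.Quotient.mk_surjective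
  haveI : HenselianLocalRing D :=
    henselianLocalRing_of_surjective (Ideal.Quotient.mk p) Ideal.Quotient.mk_surjective
  let N := SmoothUnib.N D
  haveI : IsIntegrallyClosed N := SmoothUnib.isIntegrallyClosed_N D
  haveI : IsLocalRing N := SmoothUnib.isLocalRing_of_integral_henselian D N
  have hinj : Function.Injective (algebraMap D N) := SmoothUnib.injective_N D
  have hint : Algebra.IsIntegral D N := inferInstance
  haveI : IsLocalHom (algebraMap D N) := (algebraMap_isIntegral_iff.mpr hint).isLocalHom hinj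
  haveI : IsLocalHom (Ideal.Quotient.mk p) := IsLocalHom.of_surjective _ Ideal.Quotient.mk_surjective
  let f : A →ₐ[k] N := (IsScalarTower.toAlgHom k D N).comp (Ideal.Quotient.mkₐ k p)
  have hf : f.toRingHom = (algebraMap D N).comp (Ideal.Quotient.mk p) := rfl
  have hD : Function.Surjective ((residue D).comp (algebraMap k D)) := by
    intro y
    obtain ⟨z, rfl⟩ := residue_surjective y
    obtain ⟨a, rfl⟩ := Ideal.Quotient.mk_surjective z
    obtain ⟨c, hc⟩ := hA (residue A a)
    refine ⟨c, ?_⟩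
    have h2 := congrArg (ResidueField.map (Ideal.Quotient.mk p)) hc
    rw [RingHom.comp_apply, ResidueField.map_residue, ResidueField.map_residue] at h2
    exact h2
  refine ⟨N, inferInstance, inferInstance, inferInstance, inferInstance, inferInstance, f, ?_, ?_, ?_, ?_, ?_⟩
  · rw [hf]
    exact (RingHom.isIntegral_of_surjective _ Ideal.Quotient.mk_surjective).trans _ _
      (algebraMap_isIntegral_iff.mpr hint)
  · ext a
    show algebraMap D N (Ideal.Quotient.mk p a) = 0 ↔ a ∈ p
    rw [map_eq_zero_iff _ hinj, Ideal.Quotient.eq_zero_iff_mem]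
  · intro n
    obtain ⟨u, v, hv, huv⟩ := IsFractionRing.div_surjective (A := D) (n : FractionRing D)
    obtain ⟨a, rfl⟩ := Ideal.Quotient.mk_surjective u
    obtain ⟨b, rfl⟩ := Ideal.Quotient.mk_surjective v
    refine ⟨a, b, fun hb => nonZeroDivisors.ne_zero hv (Ideal.Quotient.eq_zero_iff_mem.2 hb),
      Subtype.ext ?_⟩
    show (n : FractionRing D) * algebraMap D (FractionRing D) (Ideal.Quotient.mk p b) =
      algebraMap D (FractionRing D) (Ideal.Quotient.mk p a)
    rw [← huv, div_mul_cancel₀ _ (IsFractionRing.to_map_ne_zero_of_mem_nonZeroDivisors hv)]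
  · rw [hf, ← Ideal.comap_comap, maximalIdeal_comap, maximalIdeal_comap]
  · exact exists_sub_mem_of_integral hD

variable {A B : Type u} [CommRing A] [CommRing B] [Algebra k A] [Algebra k B]

omit [IsAlgClosed k] in
/-- A tensor product of injective maps over a field is injective. -/
theorem injective_map {A' B' : Type u} [CommRing A'] [CommRing B'] [Algebra k A'] [Algebra k B']
    (φ : A →ₐ[k] A') (ψ : B →ₐ[k] B') (hφ : Function.Injective φ) (hψ : Function.Injective ψ) :
    Function.Injective (Algebra.TensorProduct.map φ ψ) := by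
  have h1 : Function.Injective (Algebra.TensorProduct.map φ (AlgHom.id k B)) :=
    Module.Flat.rTensor_preserves_injective_linearMap φ.toLinearMap hφ
  have h2 : Function.Injective (Algebra.TensorProduct.map (AlgHom.id k A') ψ) :=
    Module.Flat.lTensor_preserves_injective_linearMap ψ.toLinearMap hψ
  have h3 : Algebra.TensorProduct.map φ ψ =
      (Algebra.TensorProduct.map (AlgHom.id k A') ψ).comp (Algebra.TensorProduct.map φ (AlgHom.id k B)) :=
    Algebra.TensorProduct.ext rfl rfl
  rw [h3]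
  exact h2.comp h1

omit [IsAlgClosed k] in
/-- The kernel of the map to a tensor product, over a field. -/
theorem ker_map_le {A' B' : Type u} [CommRing A'] [CommRing B'] [Algebra k A'] [Algebra k B']
    (φ : A →ₐ[k] A') (ψ : B →ₐ[k] B') :
    RingHom.ker (Algebra.TensorProduct.map φ ψ) ≤
      (RingHom.ker φ).map (Algebra.TensorProduct.includeLeft : A →ₐ[k] A ⊗[k] B) ⊔
        (RingHom.ker ψ).map (Algebra.TensorProduct.includeRight : B →ₐ[k] A ⊗[k] B) := by
  let π₁ := Ideal.Quotient.mkₐ k (RingHom.ker φ)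
  let π₂ := Ideal.Quotient.mkₐ k (RingHom.ker ψ)
  have h : Algebra.TensorProduct.map φ ψ =
      (Algebra.TensorProduct.map (Ideal.kerLiftAlg φ) (Ideal.kerLiftAlg ψ)).comp
        (Algebra.TensorProduct.map π₁ π₂) := Algebra.TensorProduct.ext
    (AlgHom.ext fun a => by simp [π₁, π₂]) (AlgHom.ext fun a => by simp [π₁, π₂])
  intro z hz
  rw [RingHom.mem_ker, h, AlgHom.comp_apply] at hz
  have hz' : z ∈ RingHom.ker (Algebra.TensorProduct.map π₁ π₂) := injective_map _ _
    (Ideal.kerLiftAlg_injective φ) (Ideal.kerLiftAlg_injective ψ) (hz.trans (map_zero _).symm)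
  rw [Algebra.TensorProduct.map_ker π₁ π₂ (Ideal.Quotient.mkₐ_surjective k _)
    (Ideal.Quotient.mkₐ_surjective k _)] at hz'
  rwa [show RingHom.ker π₁ = RingHom.ker φ from Ideal.ext fun a => Ideal.Quotient.eq_zero_iff_mem,
    show RingHom.ker π₂ = RingHom.ker ψ from Ideal.ext fun a => Ideal.Quotient.eq_zero_iff_mem] at hz'

omit [IsAlgClosed k] in
/-- A prime with traces `p` and `q` contains the kernel of the map to the models. -/
theorem ker_map_le_of_le {A' B' : Type u} [CommRing A'] [CommRing B'] [Algebra k A'] [Algebra k B']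
    (φ : A →ₐ[k] A') (ψ : B →ₐ[k] B') (P : Ideal (A ⊗[k] B))
    (h₁ : RingHom.ker φ ≤ P.comap (Algebra.TensorProduct.includeLeft : A →ₐ[k] A ⊗[k] B).toRingHom)
    (h₂ : RingHom.ker ψ ≤ P.comap (Algebra.TensorProduct.includeRight : B →ₐ[k] A ⊗[k] B).toRingHom) :
    RingHom.ker (Algebra.TensorProduct.map φ ψ) ≤ P :=
  (ker_map_le φ ψ).trans (sup_le (Ideal.map_le_iff_le_comap.2 h₁) (Ideal.map_le_iff_le_comap.2 h₂))

omit [IsAlgClosed k] in
/-- A normal domain integral and birational over `T / ker`, with a unique prime over `𝔪` and the same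
residue field, shows that the local ring of `T / ker` at `𝔪` is geometrically unibranch. -/
theorem isGeomUnibranch_of_integral_model {T N : Type u} [CommRing T] [CommRing N] [IsDomain N]
    [IsIntegrallyClosed N] [Algebra T N] [Algebra.IsIntegral T N] (𝔪 : Ideal T) [𝔪.IsPrime]
    (P₀ : Ideal T) (hP₀ : P₀ = RingHom.ker (algebraMap T N)) (hle : P₀ ≤ 𝔪) (J : Ideal N)
    (huniq : ∀ Q : Ideal N, Q.IsPrime → Q.comap (algebraMap T N) = 𝔪 → Q = J)
    (hbir : ∀ z : N, ∃ a b : T, b ∉ P₀ ∧ z * algebraMap T N b = algebraMap T N a)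
    (hres : ∀ z : N, ∃ t : T, z - algebraMap T N t ∈ J)
    [IsLocalRing (Localization.AtPrime 𝔪 ⧸ P₀.map (algebraMap T (Localization.AtPrime 𝔪)))] :
    CAlg2.IsGeomUnibranch
      (Localization.AtPrime 𝔪 ⧸ P₀.map (algebraMap T (Localization.AtPrime 𝔪))) := by
  subst hP₀
  haveI hP₀ : (RingHom.ker (algebraMap T N)).IsPrime := RingHom.ker_isPrime _
  let S := Algebra.algebraMapSubmonoid N 𝔪.primeCompl
  let C := Localization S
  let φ : Localization.AtPrime 𝔪 →+* C :=
    IsLocalization.map C (algebraMap T N) (show 𝔪.primeCompl ≤ S.comap _ from 𝔪.primeCompl.le_comap_map)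
  have hφi : φ.IsIntegral :=
    isIntegral_localization (R := T) (S := N) (M := 𝔪.primeCompl) (Rₘ := Localization.AtPrime 𝔪) (Sₘ := C)
  have hS0 : S ≤ nonZeroDivisors N := by
    rintro _ ⟨t, ht, rfl⟩
    exact mem_nonZeroDivisors_of_ne_zero fun h => ht (hle h)
  haveI : IsDomain C := IsLocalization.isDomain_of_le_nonZeroDivisors (R := N) _ hS0
  haveI : IsIntegrallyClosed C := isIntegrallyClosed_of_isLocalization C S hS0
  have hNC : Function.Injective (algebraMap N C) := IsLocalization.injective C hS0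
  have hker : RingHom.ker φ =
      (RingHom.ker (algebraMap T N)).map (algebraMap T (Localization.AtPrime 𝔪)) := by
    refine le_antisymm (fun x hx => ?_) (Ideal.map_le_iff_le_comap.2 fun t ht => ?_)
    · obtain ⟨t, s, rfl⟩ := IsLocalization.exists_mk'_eq 𝔪.primeCompl x
      rw [RingHom.mem_ker] at hx
      simp only [φ, IsLocalization.map_mk'] at hx
      have h1 : algebraMap N C (algebraMap T N t) = 0 := by
        rw [← IsLocalization.mk'_spec C (algebraMap T N t)
          (⟨algebraMap T N s, s, s.2, rfl⟩ : S), hx, zero_mul]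
      rw [IsLocalization.mk'_eq_mul_mk'_one]
      exact Ideal.mul_mem_right _ _ (Ideal.mem_map_of_mem _ (hNC (h1.trans (map_zero _).symm)))
    · show φ (algebraMap T (Localization.AtPrime 𝔪) t) = 0
      rw [IsLocalization.map_eq]
      exact (congrArg (algebraMap N C) (ht : algebraMap T N t = 0)).trans (map_zero _)
  have hlift : ∀ a ∈ (RingHom.ker (algebraMap T N)).map (algebraMap T (Localization.AtPrime 𝔪)), φ a = 0 :=
    fun a ha => (hker.symm.le ha : a ∈ RingHom.ker φ)
  let φ₁ := Ideal.Quotient.lift _ φ hlift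
  have hφ₁ : Function.Injective φ₁ := (injective_iff_map_eq_zero _).2 fun x hx => by
    obtain ⟨x, rfl⟩ := Ideal.Quotient.mk_surjective x
    exact Ideal.Quotient.eq_zero_iff_mem.2 (hker.le hx)
  have hmax : ∀ M : Ideal C, M.IsMaximal → M.comap (algebraMap N C) = J := by
    intro M hM
    refine huniq _ inferInstance ?_
    have h1 : (M.comap φ).IsMaximal := Ideal.isMaximal_comap_of_isIntegral_of_isMaximal' φ hφi M
    have h2 := congrArg (Ideal.comap (algebraMap T (Localization.AtPrime 𝔪))) (eq_maximalIdeal h1)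
    rw [Ideal.comap_comap, show φ.comp (algebraMap T (Localization.AtPrime 𝔪)) =
      (algebraMap N C).comp (algebraMap T N) from
      IsLocalization.map_comp _, ← Ideal.comap_comap] at h2
    exact h2.trans (IsLocalization.AtPrime.under_maximalIdeal (Localization.AtPrime 𝔪) 𝔪)
  haveI : Nontrivial C := hNC.nontrivial
  haveI : IsLocalRing C := by
    obtain ⟨M, hM⟩ := Ideal.exists_maximal C
    exact IsLocalRing.of_unique_max_ideal ⟨M, hM, fun M' hM' => by
      rw [← IsLocalization.map_under S C M', ← IsLocalization.map_under S C M,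
        show M'.under N = J from hmax M' hM', show M.under N = J from hmax M hM]⟩
  haveI : IsDomain (Localization.AtPrime 𝔪 ⧸
      (RingHom.ker (algebraMap T N)).map (algebraMap T (Localization.AtPrime 𝔪))) := hφ₁.isDomain φ₁
  refine E4O.isGeomUnibranch_of_model (RingHom.id _) Function.surjective_id
    (le_of_eq_of_le ((RingHom.injective_iff_ker_eq_bot _).1 Function.injective_id) bot_le)
    φ₁ hφ₁ (fun c => ?_) (fun c => ?_) fun c => ?_
  · obtain ⟨P, hP, hP0⟩ := hφi c
    refine ⟨P.map _, hP.map (Ideal.Quotient.mk _), ?_⟩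
    rw [Polynomial.eval₂_map]
    exact hP0
  · obtain ⟨z, ⟨_, t, ht, rfl⟩, rfl⟩ := IsLocalization.exists_mk'_eq S c
    obtain ⟨a, b, hb, e⟩ := hbir z
    refine ⟨Ideal.Quotient.mk _ (algebraMap T _ a), Ideal.Quotient.mk _ (algebraMap T _ (t * b)),
      fun h => ?_, ?_⟩
    · have h1 : φ (algebraMap T _ (t * b)) = 0 := hlift _ (Ideal.Quotient.eq_zero_iff_mem.1 h)
      rw [IsLocalization.map_eq] at h1
      have h2 : algebraMap T N (t * b) = 0 := hNC (h1.trans (map_zero _).symm)
      exact (hP₀.mem_or_mem (h2 : t * b ∈ RingHom.ker (algebraMap T N))).elim (fun h => ht (hle h)) hb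
    · show _ * φ (algebraMap T _ (t * b)) = φ (algebraMap T _ a)
      rw [IsLocalization.map_eq, IsLocalization.map_eq, map_mul (algebraMap T N), map_mul, ← mul_assoc,
        IsLocalization.mk'_spec, ← map_mul, e]
  · obtain ⟨z, ⟨_, s, hs, rfl⟩, rfl⟩ := IsLocalization.exists_mk'_eq S c
    obtain ⟨t, ht⟩ := hres z
    refine ⟨0, Ideal.Quotient.mk _ (IsLocalization.mk' (Localization.AtPrime 𝔪) t (⟨s, hs⟩ : 𝔪.primeCompl)), ?_⟩
    rw [pow_zero, pow_one]
    show IsLocalization.mk' C z _ - φ (IsLocalization.mk' (Localization.AtPrime 𝔪) t (⟨s, hs⟩ : 𝔪.primeCompl)) ∈ _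
    simp only [φ, IsLocalization.map_mk']
    have h1 : algebraMap N C (z - algebraMap T N t) ∈ maximalIdeal C := by
      rw [← hmax (maximalIdeal C) inferInstance] at ht
      exact ht
    rw [map_sub] at h1
    rw [IsLocalization.mk'_eq_mul_mk'_one z, IsLocalization.mk'_eq_mul_mk'_one (algebraMap T N t), ← sub_mul]
    exact Ideal.mul_mem_right _ _ h1

variable [HenselianLocalRing A] [HenselianLocalRing B]

set_option maxHeartbeats 1000000 in
/-- The component over a pair of primes: it is prime, has these traces, and the local ring at the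
closed point is geometrically unibranch. -/
theorem component (hA : Function.Surjective ((residue A).comp (algebraMap k A)))
    (hB : Function.Surjective ((residue B).comp (algebraMap k B))) (p : Ideal A) [p.IsPrime]
    (q : Ideal B) [q.IsPrime] (𝔪 : Ideal (A ⊗[k] B)) [𝔪.IsPrime]
    (h𝔪 : 𝔪 = (maximalIdeal A).map (Algebra.TensorProduct.includeLeft : A →ₐ[k] A ⊗[k] B) ⊔
      (maximalIdeal B).map (Algebra.TensorProduct.includeRight : B →ₐ[k] A ⊗[k] B)) :
    ∃ P₀ : Ideal (A ⊗[k] B), P₀.IsPrime ∧ P₀ ≤ 𝔪 ∧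
      P₀.comap (Algebra.TensorProduct.includeLeft : A →ₐ[k] A ⊗[k] B).toRingHom = p ∧
      P₀.comap (Algebra.TensorProduct.includeRight : B →ₐ[k] A ⊗[k] B).toRingHom = q ∧
      (∀ P : Ideal (A ⊗[k] B),
        p ≤ P.comap (Algebra.TensorProduct.includeLeft : A →ₐ[k] A ⊗[k] B).toRingHom →
        q ≤ P.comap (Algebra.TensorProduct.includeRight : B →ₐ[k] A ⊗[k] B).toRingHom → P₀ ≤ P) ∧
      ∀ [IsLocalRing (Localization.AtPrime 𝔪 ⧸ P₀.map (algebraMap _ (Localization.AtPrime 𝔪)))],
        CAlg2.IsGeomUnibranch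
          (Localization.AtPrime 𝔪 ⧸ P₀.map (algebraMap _ (Localization.AtPrime 𝔪))) := by
  obtain ⟨N₁, _, _, _, _, _, f₁, hi₁, hk₁, hb₁, hc₁, hr₁⟩ := exists_model hA p
  obtain ⟨N₂, _, _, _, _, _, f₂, hi₂, hk₂, hb₂, hc₂, hr₂⟩ := exists_model hB q
  let T := A ⊗[k] B
  let N := N₁ ⊗[k] N₂
  haveI : IsDomain N := FBase64.isDomain_tensor_of_isAlgClosed k N₁ N₂
  haveI := FBase64.isGeometricallyReduced_of_perfectField (k := k) (A := FractionRing N₁)
  haveI := FBase64.isGeometricallyReduced_of_perfectField (k := k) (A := FractionRing N₂)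
  have hnorm : EGA4.IsNormalRing N := VarNormal.isNormalRing_tensor_sep N₁ N₂
  haveI : IsIntegrallyClosed N :=
    IsIntegrallyClosed.of_localization_maximal fun P _ => (hnorm P).2
  let ι : T →ₐ[k] N := Algebra.TensorProduct.map f₁ f₂
  letI : Algebra T N := ι.toRingHom.toAlgebra
  -- integrality
  have hι : Algebra.IsIntegral T N := by
    have h1 : ∀ a : N₁, IsIntegral T (a ⊗ₜ[k] (1 : N₂) : N) := fun a => by
      obtain ⟨P, hP, hP0⟩ := hi₁ a
      refine ⟨P.map (Algebra.TensorProduct.includeLeft : A →ₐ[k] T).toRingHom, hP.map _, ?_⟩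
      rw [Polynomial.eval₂_map, show (algebraMap T N).comp
        (Algebra.TensorProduct.includeLeft : A →ₐ[k] T).toRingHom =
          (Algebra.TensorProduct.includeLeft : N₁ →ₐ[k] N).toRingHom.comp f₁.toRingHom from
          RingHom.ext fun x => congrArg (f₁ x ⊗ₜ[k] ·) (map_one f₂)]
      have := congrArg (Algebra.TensorProduct.includeLeft : N₁ →ₐ[k] N).toRingHom hP0
      rw [map_zero, Polynomial.hom_eval₂] at this
      exact this
    have h2 : ∀ b : N₂, IsIntegral T ((1 : N₁) ⊗ₜ[k] b : N) := fun b => by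
      obtain ⟨P, hP, hP0⟩ := hi₂ b
      refine ⟨P.map (Algebra.TensorProduct.includeRight : B →ₐ[k] T).toRingHom, hP.map _, ?_⟩
      rw [Polynomial.eval₂_map, show (algebraMap T N).comp
        (Algebra.TensorProduct.includeRight : B →ₐ[k] T).toRingHom =
          (Algebra.TensorProduct.includeRight : N₂ →ₐ[k] N).toRingHom.comp f₂.toRingHom from
          RingHom.ext fun x => congrArg (· ⊗ₜ[k] f₂ x) (map_one f₁)]
      have := congrArg (Algebra.TensorProduct.includeRight : N₂ →ₐ[k] N).toRingHom hP0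
      rw [map_zero, Polynomial.hom_eval₂] at this
      exact this
    refine ⟨fun z => ?_⟩
    induction z using TensorProduct.induction_on with
    | zero => exact isIntegral_zero
    | tmul a b =>
      have : (a ⊗ₜ[k] b : N) = (a ⊗ₜ 1) * (1 ⊗ₜ b) := by simp
      rw [this]
      exact (h1 a).mul (h2 b)
    | add x y hx hy => exact hx.add hy
  -- the kernel
  let P₀ : Ideal T := RingHom.ker ι.toRingHom
  have hP₀ : P₀.IsPrime := RingHom.ker_isPrime _
  have hleft : P₀.comap (Algebra.TensorProduct.includeLeft : A →ₐ[k] T).toRingHom = p := by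
    rw [← hk₁]
    ext a
    show ι (a ⊗ₜ 1) = 0 ↔ f₁ a = 0
    rw [Algebra.TensorProduct.map_tmul, map_one]
    exact map_eq_zero_iff (Algebra.TensorProduct.includeLeft : N₁ →ₐ[k] N)
      (Algebra.TensorProduct.includeLeft_injective (algebraMap k N₂).injective)
  have hright : P₀.comap (Algebra.TensorProduct.includeRight : B →ₐ[k] T).toRingHom = q := by
    rw [← hk₂]
    ext b
    show ι (1 ⊗ₜ b) = 0 ↔ f₂ b = 0
    rw [Algebra.TensorProduct.map_tmul, map_one]
    exact map_eq_zero_iff (Algebra.TensorProduct.includeRight : N₂ →ₐ[k] N)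
      (Algebra.TensorProduct.includeRight_injective (algebraMap k N₁).injective)
  have hle : ∀ P : Ideal T,
      p ≤ P.comap (Algebra.TensorProduct.includeLeft : A →ₐ[k] T).toRingHom →
      q ≤ P.comap (Algebra.TensorProduct.includeRight : B →ₐ[k] T).toRingHom → P₀ ≤ P :=
    fun P h₁ h₂ => ker_map_le_of_le f₁ f₂ P (hk₁.le.trans h₁) (hk₂.le.trans h₂)
  have h𝔪₁ : maximalIdeal A ≤ 𝔪.comap (Algebra.TensorProduct.includeLeft : A →ₐ[k] T).toRingHom :=
    Ideal.map_le_iff_le_comap.1 (h𝔪 ▸ le_sup_left)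
  have h𝔪₂ : maximalIdeal B ≤ 𝔪.comap (Algebra.TensorProduct.includeRight : B →ₐ[k] T).toRingHom :=
    Ideal.map_le_iff_le_comap.1 (h𝔪 ▸ le_sup_right)
  have hP₀m : P₀ ≤ 𝔪 := hle 𝔪 ((le_maximalIdeal (Ideal.IsPrime.ne_top ‹_›)).trans h𝔪₁)
    ((le_maximalIdeal (Ideal.IsPrime.ne_top ‹_›)).trans h𝔪₂)
  refine ⟨P₀, hP₀, hP₀m, hleft, hright, hle, fun {_} => ?_⟩
  -- the local normal model
  let J : Ideal N := (maximalIdeal N₁).map (Algebra.TensorProduct.includeLeft : N₁ →ₐ[k] N) ⊔
      (maximalIdeal N₂).map (Algebra.TensorProduct.includeRight : N₂ →ₐ[k] N)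
  have hJ : ∀ z : N, ∃ c : k, z - algebraMap k N c ∈ J := by
    intro z
    induction z using TensorProduct.induction_on with
    | zero => exact ⟨0, by simp⟩
    | tmul a b =>
      obtain ⟨c, hc⟩ := hr₁ a
      obtain ⟨d, hd⟩ := hr₂ b
      refine ⟨c * d, ?_⟩
      have h1 : (Algebra.TensorProduct.includeLeft : N₁ →ₐ[k] N) (a - algebraMap k N₁ c) ∈ J :=
        Ideal.mem_sup_left (Ideal.mem_map_of_mem _ hc)
      have h2 : (Algebra.TensorProduct.includeRight : N₂ →ₐ[k] N) (b - algebraMap k N₂ d) ∈ J :=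
        Ideal.mem_sup_right (Ideal.mem_map_of_mem _ hd)
      rw [map_sub, AlgHom.commutes] at h1 h2
      simp only [Algebra.TensorProduct.includeLeft_apply, Algebra.TensorProduct.includeRight_apply] at h1 h2
      have h3 := J.add_mem (J.mul_mem_right ((1 : N₁) ⊗ₜ[k] b) h1) (J.mul_mem_left (algebraMap k N c) h2)
      convert h3 using 1
      rw [map_mul, show (a ⊗ₜ[k] b : N) = (a ⊗ₜ 1) * (1 ⊗ₜ b) by simp]
      ring
    | add x y hx hy =>
      obtain ⟨c, hc⟩ := hx
      obtain ⟨d, hd⟩ := hy
      exact ⟨c + d, by rw [map_add, add_sub_add_comm]; exact J.add_mem hc hd⟩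
  have huniq : ∀ Q : Ideal N, Q.IsPrime → Q.comap (algebraMap T N) = 𝔪 → Q = J := by
    intro Q hQ hQ𝔪
    haveI := hQ
    have e1 : maximalIdeal N₁ ≤ Q.comap (Algebra.TensorProduct.includeLeft : N₁ →ₐ[k] N).toRingHom := by
      let Q₁ := Q.comap (Algebra.TensorProduct.includeLeft : N₁ →ₐ[k] N).toRingHom
      have h1 : maximalIdeal A ≤ Q₁.comap f₁.toRingHom := by
        intro a ha
        have h2 := h𝔪₁ ha
        rw [Ideal.mem_comap, ← hQ𝔪, Ideal.mem_comap, RingHom.algebraMap_toAlgebra] at h2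
        have e : ι (a ⊗ₜ 1) = f₁ a ⊗ₜ[k] (1 : N₂) := congrArg (f₁ a ⊗ₜ[k] ·) (map_one f₂)
        show f₁ a ⊗ₜ[k] (1 : N₂) ∈ Q
        rw [← e]; exact h2
      have h3 : (Q₁.comap f₁.toRingHom).IsMaximal := by
        rw [← (maximalIdeal.isMaximal A).eq_of_le (Ideal.IsPrime.ne_top inferInstance) h1]
        infer_instance
      let := f₁.toRingHom.toAlgebra
      haveI : Algebra.IsIntegral A N₁ := algebraMap_isIntegral_iff.1 hi₁
      exact (eq_maximalIdeal (Ideal.isMaximal_of_isIntegral_of_isMaximal_comap (R := A) Q₁ h3)).ge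
    have e2 : maximalIdeal N₂ ≤ Q.comap (Algebra.TensorProduct.includeRight : N₂ →ₐ[k] N).toRingHom := by
      let Q₂ := Q.comap (Algebra.TensorProduct.includeRight : N₂ →ₐ[k] N).toRingHom
      have h1 : maximalIdeal B ≤ Q₂.comap f₂.toRingHom := by
        intro a ha
        have h2 := h𝔪₂ ha
        rw [Ideal.mem_comap, ← hQ𝔪, Ideal.mem_comap, RingHom.algebraMap_toAlgebra] at h2
        have e : ι (1 ⊗ₜ a) = (1 : N₁) ⊗ₜ[k] f₂ a := congrArg (· ⊗ₜ[k] f₂ a) (map_one f₁)
        show (1 : N₁) ⊗ₜ[k] f₂ a ∈ Q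
        rw [← e]; exact h2
      have h3 : (Q₂.comap f₂.toRingHom).IsMaximal := by
        rw [← (maximalIdeal.isMaximal B).eq_of_le (Ideal.IsPrime.ne_top inferInstance) h1]
        infer_instance
      let := f₂.toRingHom.toAlgebra
      haveI : Algebra.IsIntegral B N₂ := algebraMap_isIntegral_iff.1 hi₂
      exact (eq_maximalIdeal (Ideal.isMaximal_of_isIntegral_of_isMaximal_comap (R := B) Q₂ h3)).ge
    have hJQ : J ≤ Q := sup_le (Ideal.map_le_iff_le_comap.2 e1) (Ideal.map_le_iff_le_comap.2 e2)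
    refine le_antisymm (fun z hz => ?_) hJQ
    obtain ⟨c, hc⟩ := hJ z
    rcases eq_or_ne c 0 with rfl | hc0
    · simpa using hc
    · refine absurd ?_ hQ.ne_top
      refine Ideal.eq_top_of_isUnit_mem _ ?_ ((Ne.isUnit hc0).map (algebraMap k N))
      have := Q.sub_mem hz (hJQ hc)
      rwa [sub_sub_cancel] at this
  haveI := hι
  refine isGeomUnibranch_of_integral_model 𝔪 P₀ rfl hP₀m J huniq ?_ fun z => ?_
  · intro z
    induction z using TensorProduct.induction_on with
    | zero => exact ⟨0, 1, fun h => hP₀.ne_top ((Ideal.eq_top_iff_one _).2 h), by simp⟩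
    | tmul n m =>
      obtain ⟨a₁, b₁, hb1, e₁⟩ := hb₁ n
      obtain ⟨a₂, b₂, hb2, e₂⟩ := hb₂ m
      refine ⟨a₁ ⊗ₜ a₂, b₁ ⊗ₜ b₂, ?_, ?_⟩
      · rw [show (b₁ ⊗ₜ[k] b₂ : T) = (b₁ ⊗ₜ 1) * (1 ⊗ₜ b₂) by simp]
        intro h
        rcases hP₀.mem_or_mem h with h | h
        · exact hb1 (hleft.le h)
        · exact hb2 (hright.le h)
      · show (n ⊗ₜ[k] m : N) * (f₁ b₁ ⊗ₜ[k] f₂ b₂) = f₁ a₁ ⊗ₜ[k] f₂ a₂
        rw [Algebra.TensorProduct.tmul_mul_tmul, e₁, e₂]
    | add x y hx hy =>
      obtain ⟨a, b, hb, e⟩ := hx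
      obtain ⟨a', b', hb', e'⟩ := hy
      refine ⟨a * b' + a' * b, b * b', fun h => (hP₀.mem_or_mem h).elim hb hb', ?_⟩
      rw [map_add, map_mul, map_mul, map_mul, ← e, ← e']
      ring
  · obtain ⟨c, hc⟩ := hJ z
    refine ⟨algebraMap k T c, ?_⟩
    rwa [show algebraMap T N (algebraMap k T c) = algebraMap k N c from ι.commutes c]

end Groth.Agent.Henz21.TensorBranch
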