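import Groth.Agent.Henz21.SmoothUnibranch
import Groth.Agent.Henz21.BaseChangeHenz
import Groth.Agent.Henz21.StrictQuotient
import Groth.Agent.LimTop61.ShQuot
import Groth.Agent.Henz21.TensorBranch
import Groth.Agent.Props58.GeomUnibranch
import Groth.Agent.Ega11.UnibranchPoints
import Groth.Agent.S13598
import Groth.Agent.Hensel20.HenzBasic
import Groth.Agent.Henz21.EssFtHenz
import Mathlib.RingTheory.TensorProduct.Quotient
import Mathlib.RingTheory.Localization.Ideal
import Mathlib.RingTheory.Smooth.Flat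

/-!
Branches along smooth morphisms.
-/

set_option autoImplicit false
set_option linter.style.haveILetI false

universe u

open IsLocalRing
open scoped TensorProduct

noncomputable section

namespace Groth.Agent.Henz21.SmoothBranches

/-- A faithfully flat map whose fibres over minimal primes have one minimal prime preserves the number
of minimal primes. -/
theorem encard_minimalPrimes_eq_of_fibres {A E : Type u} [CommRing A] [CommRing E] [Algebra A E]
    [Module.FaithfullyFlat A E]
    (h : ∀ P ∈ minimalPrimes A, Subsingleton (minimalPrimes (E ⧸ P.map (algebraMap A E)))) :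
    (minimalPrimes A).encard = (minimalPrimes E).encard := by
  have hmem : ∀ Q ∈ minimalPrimes E, Q.comap (algebraMap A E) ∈ minimalPrimes A := fun Q hQ =>
    TensorBranch.comap_mem_minimalPrimes (RingHom.flat_algebraMap_iff.2 inferInstance) hQ
  have hinj : Set.InjOn (Ideal.comap (algebraMap A E)) (minimalPrimes E) := by
    intro Q hQ Q' hQ' he
    let P := Q.comap (algebraMap A E)
    let I := P.map (algebraMap A E)
    have := h P (hmem Q hQ)
    have key : ∀ r ∈ minimalPrimes E, r.comap (algebraMap A E) = P →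
        I ≤ r ∧ r.map (Ideal.Quotient.mk I) ∈ minimalPrimes (E ⧸ I) := by
      intro r hr hrP
      haveI := hr.1.1
      have hIr : I ≤ r := Ideal.map_le_iff_le_comap.2 hrP.ge
      refine ⟨hIr, ⟨Ideal.map_isPrime_of_surjective Ideal.Quotient.mk_surjective
        (by rw [Ideal.mk_ker]; exact hIr), bot_le⟩, fun s hs hsr => ?_⟩
      have h3 : s.comap (Ideal.Quotient.mk I) ≤ r := by
        refine (Ideal.comap_mono hsr).trans ?_
        rw [Ideal.comap_map_of_surjective _ Ideal.Quotient.mk_surjective, ← RingHom.ker_eq_comap_bot,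
          Ideal.mk_ker]
        exact sup_le le_rfl hIr
      exact (Ideal.map_mono (hr.2 ⟨hs.1.comap _, bot_le⟩ h3)).trans Ideal.map_comap_le
    obtain ⟨hI₁, hm₁⟩ := key Q hQ rfl
    obtain ⟨hI₂, hm₂⟩ := key Q' hQ' he.symm
    have h5 : Q.map (Ideal.Quotient.mk I) = Q'.map (Ideal.Quotient.mk I) :=
      congrArg Subtype.val (Subsingleton.elim (α := minimalPrimes (E ⧸ I)) ⟨_, hm₁⟩ ⟨_, hm₂⟩)
    have h6 := congrArg (Ideal.comap (Ideal.Quotient.mk I)) h5
    rwa [Ideal.comap_map_of_surjective _ Ideal.Quotient.mk_surjective,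
      Ideal.comap_map_of_surjective _ Ideal.Quotient.mk_surjective, ← RingHom.ker_eq_comap_bot,
      Ideal.mk_ker, sup_eq_left.2 hI₁, sup_eq_left.2 hI₂] at h6
  rw [← hinj.encard_image]
  congr 1
  refine subset_antisymm (fun P hP => ?_) (Set.image_subset_iff.2 hmem)
  haveI := hP.1.1
  obtain ⟨z, hz⟩ := PrimeSpectrum.comap_surjective_of_faithfullyFlat (A := A) (B := E) ⟨P, inferInstance⟩
  obtain ⟨r, hr, hrz⟩ := Ideal.exists_minimalPrimes_le (I := (⊥ : Ideal E)) (J := z.asIdeal) bot_le
  haveI := hr.1.1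
  have h1 : r.comap (algebraMap A E) ≤ P :=
    (Ideal.comap_mono hrz).trans (congrArg PrimeSpectrum.asIdeal hz).le
  exact ⟨r, hr, le_antisymm h1 (hP.2 ⟨inferInstance, bot_le⟩ h1)⟩

/-- The fibre over a prime `P` of the local ring of a smooth algebra at a point over the closed point,
as a localization of a smooth algebra over `Rh ⧸ P`. -/
theorem exists_fibre_equiv {Rh R' : Type u} [CommRing Rh] [CommRing R'] [Algebra Rh R'] (P : Ideal Rh)
    (Q : Ideal R') [Q.IsPrime] (hPQ : P.map (algebraMap Rh R') ≤ Q) :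
    ∃ (Q₁ : Ideal (R' ⧸ P.map (algebraMap Rh R'))) (_ : Q₁.IsPrime),
      Q₁.comap (Ideal.Quotient.mk (P.map (algebraMap Rh R'))) = Q ∧
      Nonempty (Localization.AtPrime Q₁ ≃+*
        Localization.AtPrime Q ⧸ P.map (algebraMap Rh (Localization.AtPrime Q))) := by
  let I := P.map (algebraMap Rh R')
  let L := Localization.AtPrime Q
  have hPI : P.map (algebraMap Rh L) = I.map (algebraMap R' L) := by
    rw [Ideal.map_map, ← IsScalarTower.algebraMap_eq]
  rw [hPI]
  let Q₁ := Q.map (Ideal.Quotient.mk I)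
  have hc : Q₁.comap (Ideal.Quotient.mk I) = Q := by
    rw [Ideal.comap_map_of_surjective _ Ideal.Quotient.mk_surjective, ← RingHom.ker_eq_comap_bot,
      Ideal.mk_ker, sup_eq_left.2 hPQ]
  haveI : Q₁.IsPrime := Ideal.map_isPrime_of_surjective Ideal.Quotient.mk_surjective
    (by rw [Ideal.mk_ker]; exact hPQ)
  have hM : Algebra.algebraMapSubmonoid (R' ⧸ I) Q.primeCompl = Q₁.primeCompl := by
    ext x
    refine ⟨?_, fun hx => ?_⟩
    · rintro ⟨y, hy, rfl⟩ hmem
      exact hy (hc.le hmem)
    · obtain ⟨y, rfl⟩ := Ideal.Quotient.mk_surjective x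
      exact ⟨y, fun hy => hx (Ideal.mem_map_of_mem _ hy), rfl⟩
  haveI : IsLocalization Q₁.primeCompl (L ⧸ I.map (algebraMap R' L)) := hM ▸ inferInstance
  exact ⟨Q₁, inferInstance, hc,
    ⟨(IsLocalization.algEquiv Q₁.primeCompl (Localization.AtPrime Q₁) (L ⧸ I.map (algebraMap R' L))).toRingEquiv⟩⟩

/-- The fibres over minimal primes of the local ring of a smooth algebra over a strictly henselian
ring are geometrically unibranch. -/
theorem fibre_geomUnibranch {Rh R' : Type u} [CommRing Rh] [HenselianLocalRing Rh]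
    [IsSepClosed (ResidueField Rh)] [CommRing R'] [Algebra Rh R'] [Algebra.Smooth Rh R']
    (P : Ideal Rh) [P.IsPrime] (Q : Ideal R') [Q.IsPrime]
    (hQ : (maximalIdeal Rh).map (algebraMap Rh R') ≤ Q)
    [IsLocalRing (Localization.AtPrime Q ⧸ P.map (algebraMap Rh (Localization.AtPrime Q)))] :
    CAlg2.IsGeomUnibranch (Localization.AtPrime Q ⧸ P.map (algebraMap Rh (Localization.AtPrime Q))) := by
  let D := Rh ⧸ P
  haveI : IsLocalRing D := IsLocalRing.of_surjective' (Ideal.Quotient.mk P) Ideal.Quotient.mk_surjective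
  haveI : HenselianLocalRing D :=
    henselianLocalRing_of_surjective (Ideal.Quotient.mk P) Ideal.Quotient.mk_surjective
  haveI : IsLocalHom (Ideal.Quotient.mk P) := IsLocalHom.of_surjective _ Ideal.Quotient.mk_surjective
  haveI : IsSepClosed (ResidueField D) := LimTop61.isSepClosed_of_ringEquiv
    (RingEquiv.ofBijective (ResidueField.map (Ideal.Quotient.mk P))
      ⟨RingHom.injective _, LimTop61.surjective_residueFieldMap _ Ideal.Quotient.mk_surjective⟩)
  haveI : Algebra.Smooth D (R' ⧸ P.map (algebraMap Rh R')) :=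
    Algebra.Smooth.of_equiv (Algebra.TensorProduct.quotIdealMapEquivQuotTensor R' P).symm
  have hPQ : P.map (algebraMap Rh R') ≤ Q :=
    (Ideal.map_mono (le_maximalIdeal (Ideal.IsPrime.ne_top ‹_›))).trans hQ
  obtain ⟨Q₁, _, hc, ⟨e⟩⟩ := exists_fibre_equiv P Q hPQ
  refine Ega11.UnibranchPoints.isGeomUnibranch_of_ringEquiv e (SmoothUnib.main D _ Q₁ ?_).2
  rw [Ideal.map_le_iff_le_comap]
  intro x hx
  obtain ⟨x, rfl⟩ := Ideal.Quotient.mk_surjective x
  have h1 : algebraMap Rh R' x ∈ Q := hQ (Ideal.mem_map_of_mem _ (by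
    rw [mem_maximalIdeal, mem_nonunits_iff] at hx ⊢
    exact fun hu => hx (hu.map _)))
  rw [← hc] at h1
  exact h1

/-- The number of minimal primes of strict henselizations is preserved by smooth maps. -/
theorem encard_strict {R S Ash Bsh : Type u} [CommRing R] [CommRing S] [Algebra R S]
    [Algebra.Smooth R S] (q : Ideal S) [q.IsPrime] (p : Ideal R) [p.IsPrime] [q.LiesOver p]
    [CommRing Ash] [IsLocalRing Ash] [Algebra (Localization.AtPrime p) Ash]
    [IsLocalHom (algebraMap (Localization.AtPrime p) Ash)]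
    [hAsh : Hensel.IsStrictHenselization (Localization.AtPrime p) Ash]
    [CommRing Bsh] [IsLocalRing Bsh] [Algebra (Localization.AtPrime q) Bsh]
    [IsLocalHom (algebraMap (Localization.AtPrime q) Bsh)]
    [hBsh : Hensel.IsStrictHenselization (Localization.AtPrime q) Bsh] :
    (minimalPrimes Ash).encard = (minimalPrimes Bsh).encard := by
  haveI := hAsh.henselian
  haveI := hBsh.henselian
  haveI := hAsh.isSepClosure
  haveI := hBsh.isSepClosure
  haveI : IsSepClosed (ResidueField Ash) := IsSepClosure.sep_closed (ResidueField (Localization.AtPrime p))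
  haveI : IsSepClosed (ResidueField Bsh) := IsSepClosure.sep_closed (ResidueField (Localization.AtPrime q))
  let g₀ : Localization.AtPrime p →+* Localization.AtPrime q :=
    Localization.localRingHom p q (algebraMap R S) (q.over_def p)
  obtain ⟨Φ, hΦ, hΦl⟩ := exists_map_of_strictHenselization (Ash := Ash)
    ((algebraMap (Localization.AtPrime q) Bsh).comp g₀)
  let : Algebra R Ash := ((algebraMap (Localization.AtPrime p) Ash).comp (algebraMap R _)).toAlgebra
  haveI : IsScalarTower R (Localization.AtPrime p) Ash := IsScalarTower.of_algebraMap_eq' rfl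
  let : Algebra S Bsh := ((algebraMap (Localization.AtPrime q) Bsh).comp (algebraMap S _)).toAlgebra
  haveI : IsScalarTower S (Localization.AtPrime q) Bsh := IsScalarTower.of_algebraMap_eq' rfl
  let : Algebra R Bsh := ((algebraMap S Bsh).comp (algebraMap R S)).toAlgebra
  haveI : IsScalarTower R S Bsh := IsScalarTower.of_algebraMap_eq' rfl
  let : Algebra Ash Bsh := Φ.toAlgebra
  haveI : IsScalarTower R Ash Bsh := IsScalarTower.of_algebraMap_eq fun r => by
    show algebraMap S Bsh (algebraMap R S r) = Φ (algebraMap (Localization.AtPrime p) Ash (algebraMap R _ r))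
    rw [← RingHom.comp_apply Φ, hΦ, RingHom.comp_apply, Localization.localRingHom_to_map]
    rfl
  let φ : Ash ⊗[R] S →ₐ[R] Bsh :=
    Algebra.TensorProduct.productMap (IsScalarTower.toAlgHom R Ash Bsh) (IsScalarTower.toAlgHom R S Bsh)
  let Q : Ideal (Ash ⊗[R] S) := (maximalIdeal Bsh).comap φ.toRingHom
  haveI : Q.IsPrime := Ideal.comap_isPrime _ _
  obtain ⟨e, -⟩ := exists_strictHenselization_baseChange_equiv R S p q Ash Bsh φ (fun x s => rfl) Q
    (fun d => Iff.rfl) (StrictHenselization (Localization.AtPrime Q))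
  rw [show (minimalPrimes Bsh).encard = (minimalPrimes (StrictHenselization (Localization.AtPrime Q))).encard
    from (ENat.card_congr (Brnch26.minimalPrimesEquiv e))]
  let L := Localization.AtPrime Q
  let E := StrictHenselization L
  have hQm : (maximalIdeal Ash).map (algebraMap Ash (Ash ⊗[R] S)) ≤ Q := by
    refine Ideal.map_le_iff_le_comap.2 fun x hx => ?_
    show φ (x ⊗ₜ 1) ∈ maximalIdeal Bsh
    rw [Algebra.TensorProduct.productMap_left_apply]
    exact map_nonunit Φ x hx
  let : Algebra Ash E := ((algebraMap L E).comp (algebraMap Ash L)).toAlgebra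
  haveI : IsScalarTower Ash L E := IsScalarTower.of_algebraMap_eq' rfl
  haveI : Module.FaithfullyFlat L E := strictHenselization_faithfullyFlat E
  haveI : Module.Flat Ash L := Module.Flat.trans Ash (Ash ⊗[R] S) L
  haveI : Module.Flat Ash E := Module.Flat.trans Ash L E
  haveI : IsLocalHom (algebraMap Ash L) := ⟨fun x hx => by
    by_contra hx'
    rw [IsScalarTower.algebraMap_apply Ash (Ash ⊗[R] S) L] at hx
    exact (IsLocalization.AtPrime.to_map_mem_maximal_iff L Q _).2
      (hQm (Ideal.mem_map_of_mem _ ((mem_maximalIdeal x).2 hx'))) hx⟩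
  haveI : IsLocalHom (algebraMap Ash E) := RingHom.isLocalHom_comp _ _
  haveI : Module.FaithfullyFlat Ash E := Module.FaithfullyFlat.of_flat_of_isLocalHom
  refine encard_minimalPrimes_eq_of_fibres fun P hP => ?_
  haveI := hP.1.1
  have hI : P.map (algebraMap Ash L) ≠ ⊤ := ne_top_of_le_ne_top (maximalIdeal.isMaximal L).ne_top
    ((Ideal.map_mono (le_maximalIdeal hP.1.1.ne_top)).trans
      (IsLocalRing.map_maximalIdeal_le (algebraMap Ash L)))
  obtain ⟨_, _, _, _⟩ := isStrictHenselization_quotient L E (P.map (algebraMap Ash L)) hI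
  have hmm : (P.map (algebraMap Ash L)).map (algebraMap L E) = P.map (algebraMap Ash E) := by
    rw [Ideal.map_map]; rfl
  rw [← hmm]
  exact (Props58.GeomUnibranch.subsingleton_minimalPrimes_iff _).1 (fibre_geomUnibranch P Q hQm)

end Groth.Agent.Henz21.SmoothBranches

namespace Groth.Agent.Henz21.SmoothBranches

/-- A criterion for unibranchness through a local model of the normalization. -/
theorem isUnibranch_of_model {R C : Type u} [CommRing R] [IsLocalRing R] [IsDomain R] [CommRing C]
    [IsDomain C] [IsLocalRing C] [IsIntegrallyClosed C] (φ : R →+* C)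
    (hφ : Function.Injective φ) (hint : φ.IsIntegral)
    (hbir : ∀ c : C, ∃ a b : R, b ≠ 0 ∧ c * φ b = φ a) :
    CAlg2.IsUnibranch R := by
  have hnil : nilradical R = ⊥ := nilradical_eq_zero R
  let e₀ : CAlg2.red R ≃+* R := (Ideal.quotEquivOfEq hnil).trans (RingEquiv.quotientBot R)
  have hdom : IsDomain (CAlg2.red R) := MulEquiv.isDomain R e₀.toMulEquiv
  let L := FractionRing C
  let ψ : CAlg2.red R →+* C := φ.comp e₀.toRingHom
  let _ : Algebra (CAlg2.red R) C := ψ.toAlgebra
  have hinj : Function.Injective (algebraMap (CAlg2.red R) C) := hφ.comp e₀.injective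
  have : FaithfulSMul (CAlg2.red R) C := (faithfulSMul_iff_algebraMap_injective _ _).2 hinj
  have hψ : ∀ x, ψ (e₀.symm x) = φ x := fun x => congrArg φ (e₀.apply_symm_apply x)
  have hintC : Algebra.IsIntegral (CAlg2.red R) C := ⟨fun c => by
    obtain ⟨p, hp, hp0⟩ := hint c
    refine ⟨p.map e₀.symm.toRingHom, hp.map _, ?_⟩
    rw [Polynomial.eval₂_map, RingHom.algebraMap_toAlgebra,
      show ψ.comp e₀.symm.toRingHom = φ from RingHom.ext hψ]
    exact hp0⟩
  have hfr : IsFractionRing (CAlg2.red R) L := by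
    refine IsFractionRing.of_field _ _ fun z => ?_
    obtain ⟨c, d, hd, rfl⟩ := IsFractionRing.div_surjective (A := C) z
    obtain ⟨a, b, hb, hab⟩ := hbir c
    obtain ⟨a', b', hb', hab'⟩ := hbir d
    refine ⟨e₀.symm (a * b'), e₀.symm (b * a'), ?_⟩
    rw [IsScalarTower.algebraMap_apply (CAlg2.red R) C L, IsScalarTower.algebraMap_apply (CAlg2.red R) C L]
    simp only [RingHom.algebraMap_toAlgebra]
    rw [hψ, hψ, map_mul φ, map_mul φ, ← hab, ← hab', map_mul, map_mul, map_mul, map_mul]
    have hb0 : algebraMap C L (φ b) ≠ 0 := fun h =>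
      hb (hφ (IsFractionRing.injective C L (by rw [h, map_zero, map_zero])))
    have hb0' : algebraMap C L (φ b') ≠ 0 := fun h =>
      hb' (hφ (IsFractionRing.injective C L (by rw [h, map_zero, map_zero])))
    have hd0 : algebraMap C L d ≠ 0 := IsFractionRing.to_map_ne_zero_of_mem_nonZeroDivisors hd
    rw [div_eq_div_iff hd0 (mul_ne_zero hb0 (mul_ne_zero hd0 hb0'))]
    ring
  let θ : CAlg2.normRed R ≃ₐ[CAlg2.red R] integralClosure (CAlg2.red R) L :=
    (FractionRing.algEquiv (CAlg2.red R) L).mapIntegralClosure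
  let ι : C →+* integralClosure (CAlg2.red R) L :=
    (algebraMap C L).codRestrict (integralClosure (CAlg2.red R) L) fun c =>
      (Algebra.IsIntegral.isIntegral (R := CAlg2.red R) c).map (IsScalarTower.toAlgHom (CAlg2.red R) C L)
  have hι : Function.Bijective ι := by
    refine ⟨fun a b h => IsFractionRing.injective C L (congrArg Subtype.val h), fun z => ?_⟩
    obtain ⟨c, hc⟩ := IsIntegrallyClosed.isIntegral_iff.1 (z.2.tower_top : IsIntegral C z.1)
    exact ⟨c, Subtype.ext hc⟩
  let eC : CAlg2.normRed R ≃+* C := θ.toRingEquiv.trans (RingEquiv.ofBijective ι hι).symm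
  exact ⟨hdom, eC.symm.isLocalRing⟩

section model

open SmoothUnib

variable (D R' : Type u) [CommRing D] [IsDomain D] [HenselianLocalRing D] [CommRing R'] [Algebra D R']
  (M₀ : Type u) [CommRing M₀] [Algebra D M₀] [IsLocalRing M₀] [Algebra.IsIntegral D M₀]
  (Q : Ideal R') [Q.IsPrime]

omit [IsDomain D] [IsLocalRing M₀] in
theorem isIntegralElem_includeRight (z : T D R' M₀) :
    ((Algebra.TensorProduct.includeRight : R' →ₐ[D] T D R' M₀).toRingHom).IsIntegralElem z := by
  let _ : Algebra R' (T D R' M₀) := (Algebra.TensorProduct.includeRight : R' →ₐ[D] T D R' M₀).toRingHom.toAlgebra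
  haveI : IsScalarTower D R' (T D R' M₀) := IsScalarTower.of_algebraMap_eq fun r =>
    ((Algebra.TensorProduct.includeRight : R' →ₐ[D] T D R' M₀).commutes r).symm
  show IsIntegral R' z
  induction z using TensorProduct.induction_on with
  | zero => exact isIntegral_zero
  | tmul a b =>
    have h : IsIntegral D (a ⊗ₜ[D] (1 : R') : T D R' M₀) :=
      (Algebra.IsIntegral.isIntegral (R := D) a).map
        (Algebra.TensorProduct.includeLeft : M₀ →ₐ[D] T D R' M₀)
    have h2 : (a ⊗ₜ b : T D R' M₀) = (a ⊗ₜ 1) * algebraMap R' (T D R' M₀) b := by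
      show _ = (a ⊗ₜ 1) * ((1 : M₀) ⊗ₜ b)
      simp
    rw [h2]
    exact IsIntegral.mul (A := T D R' M₀) (IsIntegral.tower_top (B := T D R' M₀) h) isIntegral_algebraMap
  | add x y hx hy => exact IsIntegral.add (A := T D R' M₀) hx hy

omit [IsLocalRing M₀] [Algebra.IsIntegral D M₀] in
theorem exists_smul_mem_range_right (hbir : ∀ n : M₀, ∃ a b : D, b ≠ 0 ∧ b • n = algebraMap D M₀ a)
    (z : T D R' M₀) :
    ∃ a : D, a ≠ 0 ∧ ∃ r : R', a • z = (1 : M₀) ⊗ₜ[D] r := by
  induction z using TensorProduct.induction_on with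
  | zero => exact ⟨1, one_ne_zero, 0, by simp⟩
  | tmul n b =>
    obtain ⟨u, v, hv, huv⟩ := hbir n
    refine ⟨v, hv, u • b, ?_⟩
    rw [TensorProduct.smul_tmul', huv, Algebra.algebraMap_eq_smul_one, TensorProduct.smul_tmul]
  | add x y hx hy =>
    obtain ⟨a, ha, r, hr⟩ := hx
    obtain ⟨c, hc, s, hs⟩ := hy
    refine ⟨a * c, mul_ne_zero ha hc, c • r + a • s, ?_⟩
    rw [smul_add, TensorProduct.tmul_add, TensorProduct.tmul_smul, TensorProduct.tmul_smul, ← hr, ← hs,
      smul_smul, smul_smul, mul_comm c a]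

/-- The ideal of the unique point of the model over `Q`. -/
abbrev JQ : Ideal (T D R' M₀) :=
  (maximalIdeal M₀).map (Algebra.TensorProduct.includeLeft : M₀ →ₐ[D] T D R' M₀).toRingHom ⊔
    Q.map (Algebra.TensorProduct.includeRight : R' →ₐ[D] T D R' M₀).toRingHom

omit [IsDomain D] in
theorem JQ_le (hQ : (maximalIdeal D).map (algebraMap D R') ≤ Q) {P : Ideal (T D R' M₀)} [P.IsPrime]
    (hPQ : P.comap (Algebra.TensorProduct.includeRight : R' →ₐ[D] T D R' M₀).toRingHom = Q) :
    JQ D R' M₀ Q ≤ P := by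
  refine sup_le ?_ (Ideal.map_le_iff_le_comap.2 hPQ.ge)
  rw [Ideal.map_le_iff_le_comap]
  set Q₀ := P.comap (Algebra.TensorProduct.includeLeft : M₀ →ₐ[D] T D R' M₀).toRingHom
  have hle : maximalIdeal D ≤ Q₀.comap (algebraMap D M₀) := fun r hr => by
    have h1 : algebraMap D R' r ∈ Q := hQ (Ideal.mem_map_of_mem _ hr)
    rw [← hPQ, Ideal.mem_comap] at h1
    show (Algebra.TensorProduct.includeLeft : M₀ →ₐ[D] T D R' M₀) (algebraMap D M₀ r) ∈ P
    rw [AlgHom.commutes, ← (Algebra.TensorProduct.includeRight : R' →ₐ[D] T D R' M₀).commutes r]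
    exact h1
  haveI : Q₀.IsPrime := Ideal.comap_isPrime _ _
  haveI : (Q₀.comap (algebraMap D M₀)).IsMaximal :=
    (maximalIdeal.isMaximal D).eq_of_le (Ideal.IsPrime.ne_top inferInstance) hle ▸ inferInstance
  exact (eq_maximalIdeal (Ideal.isMaximal_of_isIntegral_of_isMaximal_comap Q₀ this)).ge

omit [IsDomain D] [Q.IsPrime] [Algebra.IsIntegral D M₀] in
theorem exists_pow_mem_JQ (hQ : (maximalIdeal D).map (algebraMap D R') ≤ Q)
    (hpi : ∀ r : R', ∃ (n : ℕ) (a : D),
      r ^ ringExpChar (ResidueField D) ^ n - algebraMap D R' a ∈ Q) (z : T D R' M₀) :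
    ∃ (n : ℕ) (w : M₀), z ^ ringExpChar (ResidueField D) ^ n - w ⊗ₜ[D] (1 : R') ∈ JQ D R' M₀ Q := by
  set q := ringExpChar (ResidueField D) with hq
  set J := JQ D R' M₀ Q with hJ
  have hfrob : ∀ (x y : T D R' M₀) (n : ℕ), (x + y) ^ q ^ n - (x ^ q ^ n + y ^ q ^ n) ∈ J := by
    intro x y n
    haveI : ExpChar (ResidueField D) q := inferInstance
    have key : ∀ (e : ℕ), ExpChar (ResidueField D) e → e = 1 ∨ (e.Prime ∧ (e : ResidueField D) = 0) :=
      fun e he => by
        cases he with
        | zero => exact Or.inl rfl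
        | prime hp => exact Or.inr ⟨hp, CharP.cast_eq_zero _ e⟩
    rcases key q inferInstance with h1 | ⟨hp, hq0⟩
    · simp [h1]
    · obtain ⟨c, hc⟩ := exists_add_pow_prime_pow_eq hp x y n
      have hqR : (q : D) ∈ maximalIdeal D := by rw [← residue_eq_zero_iff, map_natCast]; exact hq0
      have hqJ : ((q : ℕ) : T D R' M₀) ∈ J := by
        have h := Ideal.mem_map_of_mem (Algebra.TensorProduct.includeRight : R' →ₐ[D] T D R' M₀).toRingHom
          (hQ (Ideal.mem_map_of_mem _ hqR))
        rw [map_natCast, map_natCast] at h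
        exact Ideal.mem_sup_right h
      rw [hc, show ∀ a b : T D R' M₀, a + b - a = b from fun a b => add_sub_cancel_left a b]
      exact Ideal.mul_mem_right _ _ (Ideal.mul_mem_right _ _ (Ideal.mul_mem_right _ _ hqJ))
  induction z using TensorProduct.induction_on with
  | zero => exact ⟨0, 0, by simp⟩
  | tmul m r =>
    obtain ⟨n, a, ha⟩ := hpi r
    refine ⟨n, a • m ^ q ^ n, ?_⟩
    have h0 : (1 : M₀) ⊗ₜ[D] (r ^ q ^ n - algebraMap D R' a) ∈ J := Ideal.mem_sup_right
      (Ideal.mem_map_of_mem (Algebra.TensorProduct.includeRight : R' →ₐ[D] T D R' M₀).toRingHom ha)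
    have h1 := J.mul_mem_left ((m ^ q ^ n) ⊗ₜ[D] (1 : R')) h0
    convert h1 using 1
    rw [Algebra.TensorProduct.tmul_mul_tmul, mul_one, one_mul, TensorProduct.tmul_sub,
      Algebra.TensorProduct.tmul_pow, Algebra.algebraMap_eq_smul_one, TensorProduct.tmul_smul,
      TensorProduct.smul_tmul']
  | add x y hx hy =>
    obtain ⟨n, v, hv⟩ := hx
    obtain ⟨m, w, hw⟩ := hy
    refine ⟨n + m, v ^ q ^ m + w ^ q ^ n, ?_⟩
    have h1 := Ideal.mem_of_dvd J (sub_dvd_pow_sub_pow (R := T D R' M₀) _ _ (q ^ m)) hv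
    have h2 := Ideal.mem_of_dvd J (sub_dvd_pow_sub_pow (R := T D R' M₀) _ _ (q ^ n)) hw
    rw [← pow_mul, ← pow_add, Algebra.TensorProduct.tmul_pow, one_pow] at h1 h2
    rw [add_comm m n] at h2
    rw [TensorProduct.add_tmul]
    convert add_mem (hfrob x y (n + m)) (add_mem h1 h2) using 1
    ring

omit [IsDomain D] in
theorem eq_of_comap_eq' (hQ : (maximalIdeal D).map (algebraMap D R') ≤ Q)
    (hpi : ∀ r : R', ∃ (n : ℕ) (a : D),
      r ^ ringExpChar (ResidueField D) ^ n - algebraMap D R' a ∈ Q) {P P' : Ideal (T D R' M₀)}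
    [P.IsPrime] [P'.IsPrime]
    (hP : P.comap (Algebra.TensorProduct.includeRight : R' →ₐ[D] T D R' M₀).toRingHom = Q)
    (hP' : P'.comap (Algebra.TensorProduct.includeRight : R' →ₐ[D] T D R' M₀).toRingHom = Q) :
    P = P' := by
  ext z
  obtain ⟨n, w, hw⟩ := exists_pow_mem_JQ D R' M₀ Q hQ hpi z
  have hq0 : 0 < ringExpChar (ResidueField D) ^ n :=
    Nat.pos_of_ne_zero (pow_ne_zero _ (expChar_ne_zero (ResidueField D) _))
  have h : ∀ P : Ideal (T D R' M₀), P.IsPrime →
      P.comap (Algebra.TensorProduct.includeRight : R' →ₐ[D] T D R' M₀).toRingHom = Q →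
        (z ∈ P ↔ w ∈ maximalIdeal M₀) := by
    intro P hPp e
    have hle := JQ_le D R' M₀ Q hQ e
    have hz : z ^ ringExpChar (ResidueField D) ^ n ∈ P ↔ w ⊗ₜ[D] (1 : R') ∈ P := by
      refine ⟨fun h => ?_, fun h => ?_⟩
      · exact sub_sub_cancel (z ^ ringExpChar (ResidueField D) ^ n) (w ⊗ₜ[D] (1 : R')) ▸ P.sub_mem h (hle hw)
      · exact sub_add_cancel (z ^ ringExpChar (ResidueField D) ^ n) (w ⊗ₜ[D] (1 : R')) ▸ P.add_mem (hle hw) h
    rw [← hPp.pow_mem_iff_mem _ hq0, hz]
    constructor
    · intro h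
      by_contra hu
      exact hPp.ne_top (P.eq_top_of_isUnit_mem h ((IsLocalRing.notMem_maximalIdeal.1 hu).map
        (Algebra.TensorProduct.includeLeft : M₀ →ₐ[D] T D R' M₀).toRingHom))
    · intro h
      exact hle (Ideal.mem_sup_left (Ideal.mem_map_of_mem
        (Algebra.TensorProduct.includeLeft : M₀ →ₐ[D] T D R' M₀).toRingHom h))
  rw [h P ‹_› hP, h P' ‹_› hP']

set_option maxHeartbeats 1000000 in
/-- Local rings of smooth algebras over henselian domains at points with purely inseparable residue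
extension are unibranch. -/
theorem unibranch_smooth_of_model [Algebra.Smooth D R'] [IsDomain M₀] [IsIntegrallyClosed M₀]
    (hinj : Function.Injective (algebraMap D M₀))
    (hbir : ∀ n : M₀, ∃ a b : D, b ≠ 0 ∧ b • n = algebraMap D M₀ a)
    (hQ : (maximalIdeal D).map (algebraMap D R') ≤ Q)
    (hpi : ∀ r : R', ∃ (n : ℕ) (a : D),
      r ^ ringExpChar (ResidueField D) ^ n - algebraMap D R' a ∈ Q) :
    CAlg2.IsUnibranch (Localization.AtPrime Q) := by
  classical
  let ι : R' →+* T D R' M₀ := (Algebra.TensorProduct.includeRight : R' →ₐ[D] T D R' M₀).toRingHom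
  let _ : Algebra R' (T D R' M₀) := ι.toAlgebra
  haveI : Algebra.IsIntegral R' (T D R' M₀) := ⟨isIntegralElem_includeRight D R' M₀⟩
  have hι : Function.Injective ι := Algebra.TensorProduct.includeRight_injective hinj
  let S := Algebra.algebraMapSubmonoid (T D R' M₀) Q.primeCompl
  let C := Localization S
  let φ : Localization.AtPrime Q →+* C :=
    IsLocalization.map C (algebraMap R' (T D R' M₀))
      (show Q.primeCompl ≤ S.comap _ from Q.primeCompl.le_comap_map)
  have hφi : φ.IsIntegral :=
    isIntegral_localization (R := R') (S := T D R' M₀) (M := Q.primeCompl) (Rₘ := Localization.AtPrime Q) (Sₘ := C)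
  haveI : IsLocalization (Submonoid.map ι Q.primeCompl) C := (inferInstance : IsLocalization S C)
  have hφinj : Function.Injective φ :=
    IsLocalization.map_injective_of_injective (M := Q.primeCompl) (S := Localization.AtPrime Q) C hι
  obtain ⟨P, hPp, hP⟩ : ∃ P : Ideal (T D R' M₀), P.IsPrime ∧ P.comap ι = Q := by
    obtain ⟨P, hP⟩ := (algebraMap_isIntegral_iff.mpr ‹_›).comap_surjective hι ⟨Q, inferInstance⟩
    exact ⟨P.asIdeal, P.isPrime, congrArg PrimeSpectrum.asIdeal hP⟩
  have hmax : ∀ M : Ideal C, M.IsMaximal → M.comap (algebraMap (T D R' M₀) C) = P := by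
    intro M hM
    haveI := hM
    have h1 : (M.comap φ).IsMaximal := Ideal.isMaximal_comap_of_isIntegral_of_isMaximal' φ hφi M
    have h2 := congrArg (Ideal.comap (algebraMap R' (Localization.AtPrime Q))) (eq_maximalIdeal h1)
    rw [Ideal.comap_comap, show φ.comp (algebraMap R' (Localization.AtPrime Q)) =
      (algebraMap (T D R' M₀) C).comp ι from IsLocalization.map_comp _, ← Ideal.comap_comap] at h2
    exact eq_of_comap_eq' D R' M₀ Q hQ hpi
      (h2.trans (IsLocalization.AtPrime.under_maximalIdeal (Localization.AtPrime Q) Q)) hP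
  haveI : Nontrivial C := hφinj.nontrivial
  haveI : IsLocalRing C := by
    obtain ⟨M, hM⟩ := Ideal.exists_maximal C
    exact IsLocalRing.of_unique_max_ideal ⟨M, hM, fun M' hM' => by
      rw [← IsLocalization.map_under S C M', ← IsLocalization.map_under S C M,
        show M'.under (T D R' M₀) = P from hmax M' hM', show M.under (T D R' M₀) = P from hmax M hM]⟩
  haveI hCP : IsLocalization P.primeCompl C :=
    IsLocalization.of_le S P.primeCompl
      (by
        rintro _ ⟨r, hr, rfl⟩ hrP
        exact hr (hP ▸ hrP))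
      fun z hz => by
        by_contra hu
        obtain ⟨M, hM, hzM⟩ := exists_max_ideal_of_mem_nonunits hu
        exact hz (hmax M hM ▸ hzM)
  haveI : IsIntegrallyClosed (Localization.AtPrime (P.under M₀)) :=
    isIntegrallyClosed_of_isLocalization _ (P.under M₀).primeCompl
      (Ideal.primeCompl_le_nonZeroDivisors _)
  obtain ⟨h1, h2⟩ := (Desc59.SmoothRing.normal_iff M₀ (T D R' M₀) P).mpr ⟨inferInstance, inferInstance⟩
  let e : Localization.AtPrime P ≃ₐ[T D R' M₀] C := IsLocalization.algEquiv P.primeCompl _ _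
  haveI : IsDomain C := e.toRingEquiv.symm.toMulEquiv.isDomain (Localization.AtPrime P)
  haveI : IsIntegrallyClosed C := IsIntegrallyClosed.of_equiv e.toRingEquiv
  haveI : IsDomain (Localization.AtPrime Q) := hφinj.isDomain φ
  refine isUnibranch_of_model φ hφinj hφi fun c => ?_
  obtain ⟨z, ⟨_, s, hs, rfl⟩, rfl⟩ := IsLocalization.exists_mk'_eq S c
  obtain ⟨a, ha, r, hr⟩ := exists_smul_mem_range_right D R' M₀ hbir z
  haveI : IsLocalHom (algebraMap D (Localization.AtPrime Q)) := ⟨fun x hx => by
    by_contra hx'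
    rw [IsScalarTower.algebraMap_apply D R' (Localization.AtPrime Q)] at hx
    exact (IsLocalization.AtPrime.to_map_mem_maximal_iff (Localization.AtPrime Q) Q _).mpr
      (hQ (Ideal.mem_map_of_mem _ ((mem_maximalIdeal x).mpr hx'))) hx⟩
  haveI : Module.Flat D (Localization.AtPrime Q) := Module.Flat.trans D R' _
  haveI : Module.FaithfullyFlat D (Localization.AtPrime Q) :=
    Module.FaithfullyFlat.of_flat_of_isLocalHom
  refine ⟨algebraMap R' _ r, algebraMap R' _ (s * algebraMap D R' a), ?_, ?_⟩
  · rw [map_mul]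
    refine mul_ne_zero (IsLocalization.map_units (Localization.AtPrime Q) ⟨s, hs⟩).ne_zero fun h => ha ?_
    rw [← IsScalarTower.algebraMap_apply] at h
    exact (map_eq_zero_iff _ (FaithfulSMul.algebraMap_injective D (Localization.AtPrime Q))).mp h
  · simp only [φ, IsLocalization.map_eq, map_mul]
    rw [← mul_assoc, IsLocalization.mk'_spec, ← map_mul]
    congr 1
    show z * ι (algebraMap D R' a) = (1 : M₀) ⊗ₜ[D] r
    rw [← hr]
    show z * (Algebra.TensorProduct.includeRight : R' →ₐ[D] T D R' M₀) (algebraMap D R' a) = a • z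
    rw [AlgHom.commutes, Algebra.smul_def, mul_comm]

end model

open SmoothUnib in
/-- Local rings of smooth algebras over henselian domains at points with purely inseparable residue
extension are unibranch. -/
theorem unibranch_smooth (D R' : Type u) [CommRing D] [IsDomain D] [HenselianLocalRing D] [CommRing R']
    [Algebra D R'] [Algebra.Smooth D R'] (Q : Ideal R') [Q.IsPrime]
    (hQ : (maximalIdeal D).map (algebraMap D R') ≤ Q)
    (hpi : ∀ r : R', ∃ (n : ℕ) (a : D),
      r ^ ringExpChar (ResidueField D) ^ n - algebraMap D R' a ∈ Q) :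
    CAlg2.IsUnibranch (Localization.AtPrime Q) := by
  haveI := isIntegrallyClosed_N D
  haveI : IsLocalRing (N D) := isLocalRing_of_integral_henselian D (N D)
  refine unibranch_smooth_of_model D R' (N D) Q (injective_N D) (fun n => ?_) hQ hpi
  obtain ⟨u, v, hv, huv⟩ := IsFractionRing.div_surjective (A := D) (n : FractionRing D)
  refine ⟨u, v, nonZeroDivisors.ne_zero hv, Subtype.ext ?_⟩
  show v • (n : FractionRing D) = algebraMap D (FractionRing D) u
  rw [← huv, Algebra.smul_def, mul_div_cancel₀ _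
    (IsFractionRing.to_map_ne_zero_of_mem_nonZeroDivisors hv)]

/-- A quotient of a henselization over a unibranch base has one minimal prime. -/
theorem subsingleton_minimalPrimes_quot {L E X : Type u} [CommRing L] [IsLocalRing L] [CommRing E]
    [IsLocalRing E] [Algebra L E] [IsLocalHom (algebraMap L E)] [Hensel.IsHenselization L E]
    (I : Ideal L) (hI : I ≠ ⊤) [CommRing X] [IsLocalRing X] (e : X ≃+* L ⧸ I)
    (hX : CAlg2.IsUnibranch X) : Subsingleton (minimalPrimes (E ⧸ I.map (algebraMap L E))) := by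
  have hIm : I ≤ maximalIdeal L := le_maximalIdeal hI
  obtain ⟨_, _⟩ := isLocalRing_quot hI
  obtain ⟨_, _⟩ := isLocalRing_quot (I := I.map (algebraMap L E))
    (ne_top_of_le_ne_top (maximalIdeal.isMaximal E).ne_top
      ((Ideal.map_mono hIm).trans (IsLocalRing.map_maximalIdeal_le (algebraMap L E))))
  haveI : IsLocalHom (algebraMap (L ⧸ I) (E ⧸ I.map (algebraMap L E))) := ⟨fun x hx => by
    obtain ⟨a, rfl⟩ := Ideal.Quotient.mk_surjective x
    have hx' : IsUnit (Ideal.Quotient.mk (I.map (algebraMap L E)) (algebraMap L E a)) := hx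
    exact (isUnit_of_map_unit (algebraMap L E) a (isUnit_of_map_unit (Ideal.Quotient.mk _) _ hx')).map _⟩
  haveI := S13598.result (A := L) (S := E) I hIm
  let : Algebra X (E ⧸ I.map (algebraMap L E)) :=
    ((algebraMap (L ⧸ I) (E ⧸ I.map (algebraMap L E))).comp e.toRingHom).toAlgebra
  obtain ⟨_, _⟩ := isHenselization_of_ringEquiv (M := E ⧸ I.map (algebraMap L E)) e rfl
  have h := Brnch26.card_minimalPrimes_of_isHenselization (A := X) (E ⧸ I.map (algebraMap L E))
  rw [(Brnch26.isUnibranch_iff X).2 hX, Brnch26.card_eq_one_iff] at h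
  exact h.1

/-- The number of minimal primes of henselizations is preserved by smooth maps with purely
inseparable residue extension. -/
theorem encard_hens {R S Ah Bh : Type u} [CommRing R] [CommRing S] [Algebra R S]
    [Algebra.Smooth R S] (q : Ideal S) [q.IsPrime] (p : Ideal R) [p.IsPrime] [q.LiesOver p]
    (hpi : ∀ s : S, ∀ t : q.primeCompl, ∃ (n : ℕ) (x : Localization.AtPrime p),
      (IsLocalization.mk' (Localization.AtPrime q) s t) ^ ringExpChar (ResidueField (Localization.AtPrime p)) ^ n
        - Localization.localRingHom p q (algebraMap R S) (q.over_def p) x ∈ maximalIdeal _)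
    [CommRing Ah] [IsLocalRing Ah] [Algebra (Localization.AtPrime p) Ah]
    [IsLocalHom (algebraMap (Localization.AtPrime p) Ah)]
    [hAh : Hensel.IsHenselization (Localization.AtPrime p) Ah]
    [CommRing Bh] [IsLocalRing Bh] [Algebra (Localization.AtPrime q) Bh]
    [IsLocalHom (algebraMap (Localization.AtPrime q) Bh)]
    [hBh : Hensel.IsHenselization (Localization.AtPrime q) Bh] :
    (minimalPrimes Ah).encard = (minimalPrimes Bh).encard := by
  haveI := hAh.henselian
  haveI := hBh.henselian
  let g₀ : Localization.AtPrime p →+* Localization.AtPrime q :=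
    Localization.localRingHom p q (algebraMap R S) (q.over_def p)
  haveI : IsLocalHom g₀ := Localization.isLocalHom_localRingHom p q (algebraMap R S) (q.over_def p)
  obtain ⟨Φ, hΦ, -⟩ := hAh.universal Bh ((algebraMap (Localization.AtPrime q) Bh).comp g₀)
    (RingHom.isLocalHom_comp _ _)
  haveI hΦl : IsLocalHom Φ := by
    refine ((local_hom_TFAE _).out 0 2).mpr ?_
    rw [← henselization_map_maximalIdeal (R := Localization.AtPrime p) (S := Ah), Ideal.map_map, hΦ]
    exact IsLocalRing.map_maximalIdeal_le _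
  let : Algebra R Ah := ((algebraMap (Localization.AtPrime p) Ah).comp (algebraMap R _)).toAlgebra
  haveI : IsScalarTower R (Localization.AtPrime p) Ah := IsScalarTower.of_algebraMap_eq' rfl
  let : Algebra S Bh := ((algebraMap (Localization.AtPrime q) Bh).comp (algebraMap S _)).toAlgebra
  haveI : IsScalarTower S (Localization.AtPrime q) Bh := IsScalarTower.of_algebraMap_eq' rfl
  let : Algebra R Bh := ((algebraMap S Bh).comp (algebraMap R S)).toAlgebra
  haveI : IsScalarTower R S Bh := IsScalarTower.of_algebraMap_eq' rfl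
  let : Algebra Ah Bh := Φ.toAlgebra
  haveI : IsScalarTower R Ah Bh := IsScalarTower.of_algebraMap_eq fun r => by
    show algebraMap S Bh (algebraMap R S r) = Φ (algebraMap (Localization.AtPrime p) Ah (algebraMap R _ r))
    rw [← RingHom.comp_apply Φ, hΦ, RingHom.comp_apply, Localization.localRingHom_to_map]
    rfl
  let φ : Ah ⊗[R] S →ₐ[R] Bh :=
    Algebra.TensorProduct.productMap (IsScalarTower.toAlgHom R Ah Bh) (IsScalarTower.toAlgHom R S Bh)
  let Q : Ideal (Ah ⊗[R] S) := (maximalIdeal Bh).comap φ.toRingHom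
  haveI : Q.IsPrime := Ideal.comap_isPrime _ _
  obtain ⟨e, -⟩ := exists_henselization_baseChange_equiv R S p q Ah Bh φ (fun x s => rfl) Q
    (fun d => Iff.rfl) (Henselization (Localization.AtPrime Q))
  rw [show (minimalPrimes Bh).encard = (minimalPrimes (Henselization (Localization.AtPrime Q))).encard
    from (ENat.card_congr (Brnch26.minimalPrimesEquiv e))]
  let L := Localization.AtPrime Q
  let E := Henselization L
  have hQm : (maximalIdeal Ah).map (algebraMap Ah (Ah ⊗[R] S)) ≤ Q := by
    refine Ideal.map_le_iff_le_comap.2 fun x hx => ?_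
    show φ (x ⊗ₜ 1) ∈ maximalIdeal Bh
    rw [Algebra.TensorProduct.productMap_left_apply]
    exact map_nonunit Φ x hx
  let : Algebra Ah E := ((algebraMap L E).comp (algebraMap Ah L)).toAlgebra
  haveI : IsScalarTower Ah L E := IsScalarTower.of_algebraMap_eq' rfl
  haveI : Module.FaithfullyFlat L E := henselization_faithfullyFlat E
  haveI : Module.Flat Ah L := Module.Flat.trans Ah (Ah ⊗[R] S) L
  haveI : Module.Flat Ah E := Module.Flat.trans Ah L E
  haveI : IsLocalHom (algebraMap Ah L) := ⟨fun x hx => by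
    by_contra hx'
    rw [IsScalarTower.algebraMap_apply Ah (Ah ⊗[R] S) L] at hx
    exact (IsLocalization.AtPrime.to_map_mem_maximal_iff L Q _).2
      (hQm (Ideal.mem_map_of_mem _ ((mem_maximalIdeal x).2 hx'))) hx⟩
  haveI : IsLocalHom (algebraMap Ah E) := RingHom.isLocalHom_comp _ _
  haveI : Module.FaithfullyFlat Ah E := Module.FaithfullyFlat.of_flat_of_isLocalHom
  refine encard_minimalPrimes_eq_of_fibres fun P hP => ?_
  haveI := hP.1.1
  let D := Ah ⧸ P
  haveI : IsLocalRing D := IsLocalRing.of_surjective' (Ideal.Quotient.mk P) Ideal.Quotient.mk_surjective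
  haveI : HenselianLocalRing D :=
    henselianLocalRing_of_surjective (Ideal.Quotient.mk P) Ideal.Quotient.mk_surjective
  haveI : IsLocalHom (Ideal.Quotient.mk P) := IsLocalHom.of_surjective _ Ideal.Quotient.mk_surjective
  let R' := Ah ⊗[R] S
  haveI : Algebra.Smooth D (R' ⧸ P.map (algebraMap Ah R')) :=
    Algebra.Smooth.of_equiv (Algebra.TensorProduct.quotIdealMapEquivQuotTensor R' P).symm
  have hPQ : P.map (algebraMap Ah R') ≤ Q :=
    (Ideal.map_mono (le_maximalIdeal hP.1.1.ne_top)).trans hQm
  obtain ⟨Q₁, _, hc, ⟨e₁⟩⟩ := exists_fibre_equiv P Q hPQ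
  have hq : ringExpChar (ResidueField D) = ringExpChar (ResidueField (Localization.AtPrime p)) := by
    haveI : ExpChar (ResidueField D) (ringExpChar (ResidueField (Localization.AtPrime p))) :=
      expChar_of_injective_ringHom (ResidueField.map ((Ideal.Quotient.mk P).comp
        (algebraMap (Localization.AtPrime p) Ah))).injective _
    exact ringExpChar.eq _ _
  have hu : CAlg2.IsUnibranch (Localization.AtPrime Q₁) := by
    refine unibranch_smooth D _ Q₁ ?_ fun r => ?_
    · rw [Ideal.map_le_iff_le_comap]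
      intro x hx
      obtain ⟨x, rfl⟩ := Ideal.Quotient.mk_surjective x
      have h1 : algebraMap Ah R' x ∈ Q := hQm (Ideal.mem_map_of_mem _ (by
        rw [mem_maximalIdeal, mem_nonunits_iff] at hx ⊢
        exact fun hu => hx (hu.map _)))
      rw [← hc] at h1
      exact h1
    · obtain ⟨r, rfl⟩ := Ideal.Quotient.mk_surjective r
      obtain ⟨y, hy⟩ := Hensel20.henselization_residue_surjective (R := Localization.AtPrime q) Bh
        (residue Bh (φ r))
      obtain ⟨y, rfl⟩ := residue_surjective y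
      rw [ResidueField.map_residue] at hy
      obtain ⟨s, t, rfl⟩ := IsLocalization.exists_mk'_eq q.primeCompl y
      obtain ⟨n, x, hx⟩ := hpi s t
      refine ⟨n, Ideal.Quotient.mk P (algebraMap (Localization.AtPrime p) Ah x), ?_⟩
      rw [hq]
      have h2 := map_nonunit (algebraMap (Localization.AtPrime q) Bh) _ hx
      rw [← residue_eq_zero_iff, map_sub, map_sub, map_pow, map_pow, hy, sub_eq_zero] at h2
      have h3 : r ^ ringExpChar (ResidueField (Localization.AtPrime p)) ^ n -
          algebraMap Ah R' (algebraMap (Localization.AtPrime p) Ah x) ∈ Q := by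
        show φ _ ∈ maximalIdeal Bh
        rw [← residue_eq_zero_iff, map_sub, map_sub, map_pow, map_pow, sub_eq_zero, h2,
          show algebraMap Ah R' (algebraMap (Localization.AtPrime p) Ah x) =
            (algebraMap (Localization.AtPrime p) Ah x) ⊗ₜ[R] (1 : S) from rfl,
          Algebra.TensorProduct.productMap_left_apply]
        exact congrArg (residue Bh) (RingHom.congr_fun hΦ x).symm
      rw [← hc] at h3
      exact h3
  have hI : P.map (algebraMap Ah L) ≠ ⊤ := ne_top_of_le_ne_top (maximalIdeal.isMaximal L).ne_top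
    ((Ideal.map_mono (le_maximalIdeal hP.1.1.ne_top)).trans
      (IsLocalRing.map_maximalIdeal_le (algebraMap Ah L)))
  have hmm : (P.map (algebraMap Ah L)).map (algebraMap L E) = P.map (algebraMap Ah E) := by
    rw [Ideal.map_map]; rfl
  rw [← hmm]
  exact subsingleton_minimalPrimes_quot _ hI e₁ hu

end Groth.Agent.Henz21.SmoothBranches
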