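import Mathlib
import Groth.Agent.E4O.UnibranchPoly

/-!
Specialisations and points closed in their fibres, algebraic form.
-/

universe u

namespace Groth.Agent.Henz21

open IsLocalRing

section Fibre

variable {A B : Type u} [CommRing A] [CommRing B] [Algebra A B]

/-- A prime maximal in its fibre, algebra of finite type: the quotient is algebraic. -/
theorem isAlgebraic_of_maximal_fibre [Algebra.FiniteType A B] [IsDomain A] [IsDomain B]
    [FaithfulSMul A B]
    (h : ∀ Q : Ideal B, Q.IsPrime → Q.under A = ⊥ → Q = ⊥) :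
    Algebra.IsAlgebraic A B := by
  let S := Algebra.algebraMapSubmonoid B (nonZeroDivisors A)
  let C := Localization S
  let Kf := FractionRing A
  have hS : S ≤ nonZeroDivisors B := by
    rintro _ ⟨a, ha, rfl⟩
    exact mem_nonZeroDivisors_of_ne_zero
      (by simpa using nonZeroDivisors.ne_zero ha)
  have : IsDomain C := IsLocalization.isDomain_localization hS
  let : Algebra Kf C := localizationAlgebra (nonZeroDivisors A) B
  have : IsScalarTower A Kf C := IsScalarTower.of_algebraMap_eq
    fun a => ((IsLocalization.map_eq _ a).trans (IsScalarTower.algebraMap_apply A B C a).symm).symm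
  have : IsLocalization (Submonoid.map (algebraMap A B) (nonZeroDivisors A)) C :=
    inferInstanceAs (IsLocalization S C)
  have hft : Algebra.FiniteType Kf C := by
    rw [← RingHom.finiteType_algebraMap]
    exact RingHom.finiteType_localizationPreserves (algebraMap A B) (nonZeroDivisors A)
      Kf C (RingHom.finiteType_algebraMap.2 inferInstance)
  have hfield : IsField C := by
    obtain ⟨Q, hQ⟩ := Ideal.exists_maximal C
    refine Ring.isField_iff_maximal_bot.2 ?_
    suffices Q = ⊥ from this ▸ hQ
    obtain ⟨hp, hd⟩ := (IsLocalization.isPrime_iff_isPrime_disjoint S C Q).1 hQ.isPrime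
    have h0 : (Q.under B).under A = ⊥ := by
      rw [eq_bot_iff]
      intro a ha
      by_contra hne
      exact Set.disjoint_left.1 hd ⟨a, mem_nonZeroDivisors_of_ne_zero hne, rfl⟩ ha
    have h1 := IsLocalization.map_comap S C Q
    rw [h _ hp h0, Ideal.map_bot] at h1
    exact h1.symm
  let := hfield.toField
  have : Module.Finite Kf C := finite_of_finite_type_of_isJacobsonRing Kf C
  have : Algebra.IsAlgebraic Kf C := Algebra.IsAlgebraic.of_finite Kf C
  constructor
  intro b
  have h1 : IsAlgebraic A (algebraMap B C b) :=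
    (IsFractionRing.isAlgebraic_iff A Kf C).2 (Algebra.IsAlgebraic.isAlgebraic _)
  exact (isAlgebraic_algebraMap_iff (IsLocalization.injective C hS)).1 h1

/-- An algebraic domain extension has only the zero prime over zero. -/
theorem eq_bot_of_isAlgebraic [IsDomain B] [Algebra.IsAlgebraic A B] {Q : Ideal B}
    (h : Q.under A = ⊥) : Q = ⊥ := by
  refine eq_bot_iff.2 fun x hx => ?_
  by_contra hne
  exact Ideal.comap_ne_bot_of_algebraic_mem hne hx (Algebra.IsAlgebraic.isAlgebraic x) h

end Fibre

/-- Finitely many nonzero elements of a valuation domain are divisible by one of them. -/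
theorem exists_dvd_all {W : Type u} [CommRing W] [IsDomain W] [ValuationRing W]
    {s : Finset W} (hs : s.Nonempty) : ∃ c ∈ s, ∀ x ∈ s, c ∣ x := by
  classical
  induction hs using Finset.Nonempty.cons_induction with
  | singleton a => exact ⟨a, by simp, by simp⟩
  | cons a t hat ht ih =>
    obtain ⟨c, hc, hdvd⟩ := ih
    rcases ValuationRing.dvd_total a c with h | h
    · refine ⟨a, by simp, fun x hx => ?_⟩
      rcases Finset.mem_cons.1 hx with rfl | hx
      · exact dvd_rfl
      · exact h.trans (hdvd x hx)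
    · refine ⟨c, by simp [hc], fun x hx => ?_⟩
      rcases Finset.mem_cons.1 hx with rfl | hx
      · exact h
      · exact hdvd x hx

/-- The residue field of a valuation ring of an algebraically closed field is algebraically
closed. -/
theorem isAlgClosed_residueField {L : Type u} [Field L] [IsAlgClosed L] (V : ValuationSubring L) :
    IsAlgClosed (ResidueField V) := by
  refine IsAlgClosed.of_exists_root _ fun p hp hpi => ?_
  have hl : p ∈ Polynomial.lifts (residue V) := by
    rw [Polynomial.lifts_iff_coeff_lifts]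
    exact fun n => residue_surjective (p.coeff n)
  obtain ⟨q, hq1, hq2, hq3⟩ := Polynomial.lifts_and_degree_eq_and_monic hl hp
  have hd : (q.map (algebraMap V L)).degree ≠ 0 := by
    rw [Polynomial.degree_map_eq_of_injective (IsFractionRing.injective V L), hq2]
    exact (Polynomial.degree_pos_of_irreducible hpi).ne'
  obtain ⟨x, hx⟩ := IsAlgClosed.exists_root _ hd
  have hint : IsIntegral V x := ⟨q, hq3, by simpa [Polynomial.IsRoot, Polynomial.eval_map] using hx⟩
  obtain ⟨y, rfl⟩ := IsIntegrallyClosed.isIntegral_iff.1 hint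
  refine ⟨residue V y, ?_⟩
  rw [Polynomial.IsRoot.def, Polynomial.eval_map, Polynomial.eval₂_hom] at hx
  rw [← hq1, Polynomial.eval_map, Polynomial.eval₂_hom,
    (map_eq_zero_iff _ (IsFractionRing.injective V L)).1 hx, map_zero]

section Valuation

variable {W B : Type u} [CommRing W] [IsDomain W] [ValuationRing W] [CommRing B] [IsDomain B]
  [Algebra W B] [FaithfulSMul W B] [Algebra.FiniteType W B]

/-- Over a non-trivial valuation ring: below a closed point of the special fibre there are closed
points of the generic fibre avoiding any given nonzero element. -/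
theorem exists_prime_algebraic_of_valuationRing (hW : maximalIdeal W ≠ ⊥) (P : Ideal B)
    [P.IsPrime] [P.LiesOver (maximalIdeal W)]
    [Algebra.IsAlgebraic (W ⧸ maximalIdeal W) (B ⧸ P)] (g : B) (hg : g ≠ 0) :
    ∃ P₁ : Ideal B, P₁.IsPrime ∧ P₁ ≤ P ∧ g ∉ P₁ ∧ P₁.under W = ⊥ ∧
      Algebra.IsAlgebraic W (B ⧸ P₁) := by
  classical
  let : Field (W ⧸ maximalIdeal W) := Ideal.Quotient.field _
  set mB := (maximalIdeal W).map (algebraMap W B) with hmB
  have hPm : mB ≤ P := Ideal.map_le_iff_le_comap.2 (Ideal.over_def P (maximalIdeal W)).le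
  have : Nontrivial (B ⧸ mB) := Ideal.Quotient.nontrivial_iff.2
    fun h => ‹P.IsPrime›.ne_top (top_le_iff.1 (h ▸ hPm))
  have : Algebra.FiniteType (W ⧸ maximalIdeal W) (B ⧸ mB) :=
    Algebra.FiniteType.of_restrictScalars_finiteType W _ _
  obtain ⟨e, nn, hnn, hnnfin⟩ :=
    exists_finite_inj_algHom_of_fg (W ⧸ maximalIdeal W) (B ⧸ mB)
  choose t ht using fun i => Ideal.Quotient.mk_surjective (nn (MvPolynomial.X i))
  let φ : MvPolynomial (Fin e) W →ₐ[W] B := MvPolynomial.aeval t
  let red : MvPolynomial (Fin e) W →+* MvPolynomial (Fin e) (W ⧸ maximalIdeal W) :=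
    MvPolynomial.map (Ideal.Quotient.mk (maximalIdeal W))
  have hcompat : (Ideal.Quotient.mk mB).comp φ.toRingHom = nn.toRingHom.comp red := by
    refine MvPolynomial.ringHom_ext (fun w => ?_) fun i => ?_
    · simp only [φ, red, RingHom.comp_apply, AlgHom.toRingHom_eq_coe, RingHom.coe_coe,
        MvPolynomial.aeval_C, MvPolynomial.map_C]
      rw [← MvPolynomial.algebraMap_eq, AlgHom.commutes]
      rfl
    · simp only [φ, red, RingHom.comp_apply, AlgHom.toRingHom_eq_coe, RingHom.coe_coe,
        MvPolynomial.aeval_X, MvPolynomial.map_X]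
      exact ht i
  have hφinj : Function.Injective φ := by
    refine (injective_iff_map_eq_zero φ).2 fun G hG => ?_
    by_contra hG0
    have hs : (G.support.image fun m => G.coeff m).Nonempty :=
      (Finset.nonempty_iff_ne_empty.2 (by simpa using hG0)).image _
    obtain ⟨c, hc, hdvd⟩ := exists_dvd_all hs
    obtain ⟨m₀, hm₀, rfl⟩ := Finset.mem_image.1 hc
    have hall : MvPolynomial.C (G.coeff m₀) ∣ G := by
      rw [MvPolynomial.C_dvd_iff_dvd_coeff]
      intro m
      by_cases hm : m ∈ G.support
      · exact hdvd _ (Finset.mem_image_of_mem _ hm)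
      · rw [MvPolynomial.notMem_support_iff.1 hm]; exact dvd_zero _
    obtain ⟨G₀, hG₀⟩ := hall
    have hcne : G.coeff m₀ ≠ 0 := MvPolynomial.mem_support_iff.1 hm₀
    have hcoef : G₀.coeff m₀ = 1 := by
      have h1 : G.coeff m₀ = G.coeff m₀ * G₀.coeff m₀ := by
        conv_lhs => rw [hG₀, MvPolynomial.coeff_C_mul]
      exact (mul_left_cancel₀ hcne (by rw [mul_one]; exact h1)).symm
    rw [hG₀, map_mul, mul_eq_zero] at hG
    rcases hG with hG | hG
    · simp only [φ, MvPolynomial.aeval_C] at hG
      exact hcne ((map_eq_zero_iff _ (FaithfulSMul.algebraMap_injective W B)).1 hG)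
    · have h2 := DFunLike.congr_fun hcompat G₀
      simp only [RingHom.comp_apply, AlgHom.toRingHom_eq_coe, RingHom.coe_coe, hG, map_zero] at h2
      have h3 : red G₀ = 0 := hnn (by rw [← h2, map_zero])
      have h4 := congrArg (MvPolynomial.coeff m₀) h3
      simp only [red, MvPolynomial.coeff_map, hcoef, map_one, MvPolynomial.coeff_zero] at h4
      exact one_ne_zero h4
  letI : Algebra (MvPolynomial (Fin e) W) B := φ.toRingHom.toAlgebra
  have : IsScalarTower W (MvPolynomial (Fin e) W) B :=
    IsScalarTower.of_algebraMap_eq fun w => (φ.commutes w).symm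
  have : FaithfulSMul (MvPolynomial (Fin e) W) B :=
    (faithfulSMul_iff_algebraMap_injective _ _).2 hφinj
  have : Algebra.FiniteType (MvPolynomial (Fin e) W) B :=
    Algebra.FiniteType.of_restrictScalars_finiteType W _ _
  set M := P.under (MvPolynomial (Fin e) W) with hM
  have hfin : ((Ideal.Quotient.mk mB).comp φ.toRingHom).Finite := by
    rw [hcompat]
    exact RingHom.Finite.comp hnnfin
      (RingHom.Finite.of_surjective _ (MvPolynomial.map_surjective _ Ideal.Quotient.mk_surjective))
  have hMle : mB ≤ M.map (algebraMap (MvPolynomial (Fin e) W) B) := by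
    refine Ideal.map_le_iff_le_comap.2 fun w hw => ?_
    rw [Ideal.mem_comap, IsScalarTower.algebraMap_apply W (MvPolynomial (Fin e) W) B]
    apply Ideal.mem_map_of_mem
    rw [hM, Ideal.mem_comap, ← IsScalarTower.algebraMap_apply W (MvPolynomial (Fin e) W) B]
    exact hPm (Ideal.mem_map_of_mem _ hw)
  have : Module.Finite (MvPolynomial (Fin e) W)
      (B ⧸ M.map (algebraMap (MvPolynomial (Fin e) W) B)) := by
    rw [← RingHom.finite_algebraMap]
    have : algebraMap (MvPolynomial (Fin e) W) (B ⧸ M.map (algebraMap (MvPolynomial (Fin e) W) B)) =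
        (Ideal.Quotient.factor hMle).comp ((Ideal.Quotient.mk mB).comp φ.toRingHom) := by
      ext x <;> rfl
    rw [this]
    exact RingHom.Finite.comp (RingHom.Finite.of_surjective _
      (Ideal.Quotient.factor_surjective hMle)) hfin
  have : (P.map (Ideal.Quotient.mk (M.map (algebraMap (MvPolynomial (Fin e) W) B)))).IsPrime :=
    Ideal.map_isPrime_of_surjective Ideal.Quotient.mk_surjective
      (by rw [Ideal.mk_ker]; exact Ideal.map_comap_le)
  have : Algebra.WeaklyQuasiFiniteAt (MvPolynomial (Fin e) W) P := inferInstance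
  have hzmt : Algebra.ZariskisMainProperty (MvPolynomial (Fin e) W) P :=
    Algebra.ZariskisMainProperty.of_finiteType_of_weaklyQuasiFiniteAt _
  obtain ⟨r, hrP, hr, hrx⟩ := Algebra.zariskisMainProperty_iff.1 hzmt
  have hr0 : r ≠ 0 := fun h => hrP (h ▸ P.zero_mem)
  obtain ⟨n, hn⟩ := hrx g
  have hg' : r ^ n * g ≠ 0 := mul_ne_zero (pow_ne_zero _ hr0) hg
  let I₀ := Ideal.span {(⟨r ^ n * g, hn⟩ : integralClosure (MvPolynomial (Fin e) W) B)}
  obtain ⟨G, hG, hG0⟩ := Submodule.exists_mem_ne_zero_of_ne_bot
    (Ideal.comap_ne_bot_of_integral_mem (R := MvPolynomial (Fin e) W)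
      (I := I₀) (x := ⟨r ^ n * g, hn⟩) (fun h => hg' (congrArg Subtype.val h))
      (Ideal.subset_span rfl) (Algebra.IsIntegral.isIntegral _))
  -- the point
  let L := AlgebraicClosure (FractionRing W)
  have hWL : Function.Injective (algebraMap W L) := by
    rw [IsScalarTower.algebraMap_eq W (FractionRing W) L]
    exact (algebraMap (FractionRing W) L).injective.comp (IsFractionRing.injective W _)
  obtain ⟨V, hV, hVloc⟩ := IsLocalRing.exists_factor_valuationRing (algebraMap W L)
  letI : Algebra W V := ((algebraMap W L).codRestrict V.toSubring hV).toAlgebra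
  have : IsScalarTower W V L := IsScalarTower.of_algebraMap_eq fun _ => rfl
  have : IsLocalHom (algebraMap W V) := hVloc
  have : IsAlgClosed (ResidueField V) := isAlgClosed_residueField V
  letI : Algebra (W ⧸ maximalIdeal W) (ResidueField V) :=
    (Ideal.quotientMap (maximalIdeal V) (algebraMap W V)
      (IsLocalRing.maximalIdeal_comap (algebraMap W V)).ge).toAlgebra
  have : IsDomain (B ⧸ P) := Ideal.Quotient.isDomain P
  let ψ : (B ⧸ P) →ₐ[W ⧸ maximalIdeal W] ResidueField V := IsAlgClosed.lift
  have : Algebra.IsIntegral (W ⧸ maximalIdeal W) (B ⧸ P) :=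
    Algebra.isAlgebraic_iff_isIntegral.1 inferInstance
  have hψinj : Function.Injective ψ := by
    have hf : IsField (B ⧸ P) := isField_of_isIntegral_of_isField'
      ((Ideal.Quotient.maximal_ideal_iff_isField_quotient (maximalIdeal W)).1 inferInstance)
    let := hf.toField
    exact ψ.toRingHom.injective
  choose a ha using fun i => residue_surjective (ψ (Ideal.Quotient.mk P (t i)))
  let sset : Fin e → Set V := fun i => {v | residue V v = ψ (Ideal.Quotient.mk P (t i))}
  obtain ⟨π, hπ, hπ0⟩ := Submodule.exists_mem_ne_zero_of_ne_bot hW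
  have hinf : ∀ i, (sset i).Infinite := by
    intro i
    have hπV : algebraMap W V π ∈ maximalIdeal V := by
      rwa [← Ideal.mem_comap, IsLocalRing.maximalIdeal_comap]
    have hπV0 : algebraMap W V π ≠ 0 := fun h => hπ0 (hWL (by
      rw [IsScalarTower.algebraMap_apply W V L, h, map_zero, map_zero]))
    have : Infinite V := by
      have hinj : Function.Injective (algebraMap W V) := fun x y h => hWL (by
        rw [IsScalarTower.algebraMap_apply W V L, h, ← IsScalarTower.algebraMap_apply])
      have : Infinite W := by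
        by_contra hni
        rw [not_infinite_iff_finite] at hni
        exact hW (IsLocalRing.isField_iff_maximalIdeal_eq.1 (Finite.isField_of_domain W))
      exact Infinite.of_injective _ hinj
    refine Set.infinite_of_injective_forall_mem (f := fun v : V => a i + algebraMap W V π * v) ?_ ?_
    · intro x y h
      exact mul_left_cancel₀ hπV0 (add_left_cancel h)
    · intro v
      show residue V _ = _
      rw [map_add, ha i, map_mul, (residue_eq_zero_iff _).2 hπV, zero_mul, add_zero]
  have hmapinj : Function.Injective (MvPolynomial.map (algebraMap W V) (σ := Fin e)) :=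
    MvPolynomial.map_injective _ fun x y h => hWL (by
      rw [IsScalarTower.algebraMap_apply W V L, h, ← IsScalarTower.algebraMap_apply])
  obtain ⟨α, hα, hαG⟩ : ∃ α ∈ Set.pi Set.univ sset,
      MvPolynomial.eval α (MvPolynomial.map (algebraMap W V) G) ≠ 0 := by
    by_contra! hall
    refine hG0 (hmapinj ?_)
    rw [map_zero]
    exact MvPolynomial.funext_set sset hinf fun x hx => by rw [map_zero]; exact hall x hx
  let ev : MvPolynomial (Fin e) W →ₐ[W] V := MvPolynomial.aeval α
  have hαG' : ev G ≠ 0 := by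
    simpa [ev, MvPolynomial.aeval_def, MvPolynomial.eval_map] using hαG
  set p₁ : Ideal (MvPolynomial (Fin e) W) := RingHom.ker ev with hp₁
  have hp₁M : p₁ ≤ M := by
    intro G' hG'
    have hsq : (residue V).comp ev.toRingHom =
        ψ.toRingHom.comp ((Ideal.Quotient.mk P).comp φ.toRingHom) := by
      refine MvPolynomial.ringHom_ext (fun w => ?_) fun i => ?_
      · simp only [ev, φ, RingHom.comp_apply, AlgHom.toRingHom_eq_coe, RingHom.coe_coe,
          MvPolynomial.aeval_C]
        exact (ψ.commutes (Ideal.Quotient.mk _ w)).symm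
      · simp only [ev, φ, RingHom.comp_apply, AlgHom.toRingHom_eq_coe, RingHom.coe_coe,
          MvPolynomial.aeval_X]
        exact hα i trivial
    have h1 := DFunLike.congr_fun hsq G'
    simp only [RingHom.comp_apply, AlgHom.toRingHom_eq_coe, RingHom.coe_coe] at h1
    rw [show ev G' = 0 from hG', map_zero] at h1
    show φ G' ∈ P
    exact Ideal.Quotient.eq_zero_iff_mem.1 (hψinj (h1.symm.trans (map_zero ψ).symm))
  have : p₁.IsPrime := RingHom.ker_isPrime _
  have : IsIntegrallyClosed (MvPolynomial (Fin e) W) := by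
    have := Groth.Agent.E4O.isIntegrallyClosed_mvPolynomial W (ULift.{u} (Fin e))
    exact IsIntegrallyClosed.of_equiv (MvPolynomial.renameEquiv W Equiv.ulift).toRingEquiv
  have : IsIntegrallyClosed W := inferInstance
  let B₀ := integralClosure (MvPolynomial (Fin e) W) B
  have : (P.under B₀).LiesOver M := ⟨by rw [hM, Ideal.under_under]⟩
  have : (P.under (MvPolynomial (Fin e) W)).IsPrime := inferInstance
  obtain ⟨Q₀, hQle, hQp, hQover⟩ := Ideal.exists_ideal_le_liesOver_of_le (P.under B₀) hp₁M
  have hrQ : (⟨r, hr⟩ : B₀) ∉ Q₀ := fun h => hrP (hQle h)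
  have hrpow : ∀ k : ℕ, (⟨r, hr⟩ : B₀) ^ k ∉ Q₀ := fun k h => hrQ (hQp.mem_of_pow_mem k h)
  -- the prime of B
  have hmem : ∀ (x : B) (k l : ℕ) (hk : IsIntegral (MvPolynomial (Fin e) W) (r ^ k * x))
      (hl : IsIntegral (MvPolynomial (Fin e) W) (r ^ l * x)),
      (⟨r ^ k * x, hk⟩ : B₀) ∈ Q₀ → (⟨r ^ l * x, hl⟩ : B₀) ∈ Q₀ := by
    intro x k l hk hl h
    refine (hQp.mem_or_mem (x := (⟨r, hr⟩ : B₀) ^ k) (y := ⟨r ^ l * x, hl⟩) ?_).resolve_left
      (hrpow k)
    have : (⟨r, hr⟩ : B₀) ^ k * ⟨r ^ l * x, hl⟩ = (⟨r, hr⟩ : B₀) ^ l * ⟨r ^ k * x, hk⟩ :=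
      Subtype.ext (show r ^ k * (r ^ l * x) = r ^ l * (r ^ k * x) by ring)
    rw [this]
    exact Q₀.mul_mem_left _ h
  let P₁ : Ideal B :=
    { carrier := {x | ∀ k (hk : IsIntegral (MvPolynomial (Fin e) W) (r ^ k * x)),
        (⟨r ^ k * x, hk⟩ : B₀) ∈ Q₀}
      zero_mem' := fun k hk => by
        convert Q₀.zero_mem using 1
        exact Subtype.ext (mul_zero _)
      add_mem' := by
        intro x y hx hy k hk
        obtain ⟨kx, hkx⟩ := hrx x
        obtain ⟨ky, hky⟩ := hrx y
        have h1 : IsIntegral (MvPolynomial (Fin e) W) (r ^ (kx + ky) * x) := by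
          rw [pow_add, mul_comm (r ^ kx), mul_assoc]; exact (hr.pow ky).mul hkx
        have h2 : IsIntegral (MvPolynomial (Fin e) W) (r ^ (kx + ky) * y) := by
          rw [pow_add, mul_assoc]; exact (hr.pow kx).mul hky
        have h3 : IsIntegral (MvPolynomial (Fin e) W) (r ^ (kx + ky) * (x + y)) := by
          rw [mul_add]; exact h1.add h2
        refine hmem (x + y) (kx + ky) k h3 hk ?_
        convert Q₀.add_mem (hx _ h1) (hy _ h2) using 1
        exact Subtype.ext (mul_add _ _ _)
      smul_mem' := by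
        intro c x hx k hk
        obtain ⟨kc, hkc⟩ := hrx c
        obtain ⟨kx, hkx⟩ := hrx x
        have h3 : IsIntegral (MvPolynomial (Fin e) W) (r ^ (kc + kx) * (c • x)) := by
          rw [pow_add, smul_eq_mul,
            show r ^ kc * r ^ kx * (c * x) = (r ^ kc * c) * (r ^ kx * x) by ring]
          exact hkc.mul hkx
        refine hmem (c • x) (kc + kx) k h3 hk ?_
        convert Q₀.mul_mem_left (⟨r ^ kc * c, hkc⟩ : B₀) (hx _ hkx) using 1
        exact Subtype.ext (show r ^ (kc + kx) * (c * x) = r ^ kc * c * (r ^ kx * x) by ring) }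
  have hP₁iff : ∀ (x : B) (k : ℕ) (hk : IsIntegral (MvPolynomial (Fin e) W) (r ^ k * x)),
      x ∈ P₁ ↔ (⟨r ^ k * x, hk⟩ : B₀) ∈ Q₀ :=
    fun x k hk => ⟨fun h => h k hk, fun h l hl => hmem x k l hk hl h⟩
  have hP₁B₀ : ∀ x : B₀, (x : B) ∈ P₁ ↔ x ∈ Q₀ := by
    intro x
    rw [hP₁iff (x : B) 0 (by rw [pow_zero, one_mul]; exact x.2)]
    simp
  have hP₁R : ∀ G' : MvPolynomial (Fin e) W,
      algebraMap (MvPolynomial (Fin e) W) B G' ∈ P₁ ↔ G' ∈ p₁ := by
    intro G'
    rw [Ideal.over_def Q₀ p₁]
    exact hP₁B₀ (algebraMap _ B₀ G')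
  have hP₁prime : P₁.IsPrime := by
    refine ⟨fun h => ?_, fun {x y} hxy => ?_⟩
    · apply hQp.ne_top
      rw [Ideal.eq_top_iff_one, ← hP₁B₀ 1]
      rw [h]; trivial
    · obtain ⟨kx, hkx⟩ := hrx x
      obtain ⟨ky, hky⟩ := hrx y
      rw [hP₁iff x kx hkx, hP₁iff y ky hky]
      apply hQp.mem_or_mem
      have h3 : IsIntegral (MvPolynomial (Fin e) W) (r ^ (kx + ky) * (x * y)) := by
        rw [show r ^ (kx + ky) * (x * y) = (r ^ kx * x) * (r ^ ky * y) by ring]
        exact hkx.mul hky
      convert hxy (kx + ky) h3 using 1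
      exact Subtype.ext (show r ^ kx * x * (r ^ ky * y) = r ^ (kx + ky) * (x * y) by ring)
  refine ⟨P₁, hP₁prime, fun x hx => ?_, fun hgP => hαG' ?_, eq_bot_iff.2 fun w hw => ?_, ?_⟩
  · obtain ⟨k, hk⟩ := hrx x
    have := hQle ((hP₁iff x k hk).1 hx)
    exact (‹P.IsPrime›.mem_or_mem this).resolve_left
      fun h => hrP (‹P.IsPrime›.mem_of_pow_mem k h)
  · have h1 : (⟨r ^ n * g, hn⟩ : B₀) ∈ Q₀ := (hP₁iff g n hn).1 hgP
    have h2 : I₀ ≤ Q₀ := Ideal.span_le.2 (Set.singleton_subset_iff.2 h1)
    have h3 : G ∈ p₁ := by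
      rw [Ideal.over_def Q₀ p₁]
      exact h2 hG
    exact h3
  · rw [Ideal.mem_comap, IsScalarTower.algebraMap_apply W (MvPolynomial (Fin e) W) B, hP₁R,
      hp₁, RingHom.mem_ker, AlgHom.commutes] at hw
    refine Submodule.mem_bot W |>.2 (hWL ?_)
    rw [IsScalarTower.algebraMap_apply W V L, hw, map_zero, map_zero]
  · have hWinj : Function.Injective (algebraMap W V) := fun x y h => hWL (by
      rw [IsScalarTower.algebraMap_apply W V L, h, ← IsScalarTower.algebraMap_apply])
    have : IsDomain (B ⧸ P₁) := Ideal.Quotient.isDomain P₁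
    have halgR : ∀ G', IsAlgebraic W
        (Ideal.Quotient.mk P₁ (algebraMap (MvPolynomial (Fin e) W) B G')) := by
      intro G'
      have h1 : IsAlgebraic W ((ev G' : V) : L) :=
        (IsFractionRing.isAlgebraic_iff W (FractionRing W) L).2 (Algebra.IsAlgebraic.isAlgebraic _)
      obtain ⟨h, hh0, hh⟩ := h1
      refine ⟨h, hh0, ?_⟩
      have h2 : Polynomial.aeval G' h ∈ p₁ := by
        rw [hp₁, RingHom.mem_ker, ← Polynomial.aeval_algHom_apply]
        apply IsFractionRing.injective V L
        rw [map_zero, ← Polynomial.aeval_algebraMap_apply]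
        exact hh
      rw [← Ideal.Quotient.mkₐ_eq_mk W, Polynomial.aeval_algHom_apply,
        Polynomial.aeval_algebraMap_apply, Ideal.Quotient.mkₐ_eq_mk, Ideal.Quotient.eq_zero_iff_mem,
        hP₁R]
      exact h2
    letI : Algebra (MvPolynomial (Fin e) W) (B ⧸ P₁) := inferInstance
    let R' := (IsScalarTower.toAlgHom W (MvPolynomial (Fin e) W) (B ⧸ P₁)).range
    have : Algebra.IsAlgebraic W R' := by
      constructor
      rintro ⟨x, G', rfl⟩
      exact (isAlgebraic_algHom_iff R'.val Subtype.val_injective).1 (halgR G')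
    have hint : ∀ y : B, IsIntegral (MvPolynomial (Fin e) W) y →
        IsAlgebraic W (Ideal.Quotient.mk P₁ y) := by
      intro y hy
      have h1 : IsIntegral R' (Ideal.Quotient.mk P₁ y) := by
        obtain ⟨q, hqm, hq⟩ := hy
        refine ⟨q.map (AlgHom.rangeRestrict
          (IsScalarTower.toAlgHom W (MvPolynomial (Fin e) W) (B ⧸ P₁))).toRingHom, hqm.map _, ?_⟩
        rw [Polynomial.eval₂_map]
        have h := congrArg (Ideal.Quotient.mk P₁) hq
        rw [Polynomial.hom_eval₂, map_zero] at h
        exact h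
      exact IsAlgebraic.restrictScalars (R := W) (S := R') h1.isAlgebraic
    constructor
    intro x
    obtain ⟨x, rfl⟩ := Ideal.Quotient.mk_surjective x
    obtain ⟨k, hk⟩ := hrx x
    refine IsAlgebraic.of_mul (y := Ideal.Quotient.mk P₁ (r ^ k)) ?_ (hint _ (hr.pow k)) ?_
    · refine mem_nonZeroDivisors_of_ne_zero fun h => hrQ ?_
      rw [Ideal.Quotient.eq_zero_iff_mem] at h
      exact (hP₁B₀ ⟨r, hr⟩).1 (hP₁prime.mem_of_pow_mem k h)
    · rw [← map_mul]; exact hint _ hk

end Valuation

/-- Algebraicity of residues is inherited along a commutative square. -/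
theorem isAlgebraic_mk_map {A B W C : Type u} [CommRing A] [CommRing B] [Algebra A B] [CommRing W]
    [CommRing C] [Algebra W C] (m : Ideal W) (Q : Ideal C) [Q.LiesOver m] (P : Ideal B)
    [Algebra.IsAlgebraic (A ⧸ P.under A) (B ⧸ P)] (ι : B →+* C) (ρ : A →+* W)
    (hι : ∀ a, ι (algebraMap A B a) = algebraMap W C (ρ a)) (hQP : Q.comap ι = P)
    (hρ : ∀ a, ρ a ∈ m ↔ a ∈ P.under A) (b : B) :
    IsAlgebraic (W ⧸ m) (Ideal.Quotient.mk Q (ι b)) := by
  obtain ⟨h, hh0, hh⟩ := Algebra.IsAlgebraic.isAlgebraic (R := A ⧸ P.under A)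
    (Ideal.Quotient.mk P b)
  let red : A ⧸ P.under A →+* W ⧸ m := Ideal.quotientMap _ ρ fun a ha => (hρ a).2 ha
  have hredinj : Function.Injective red := Ideal.quotientMap_injective' fun a ha => (hρ a).1 ha
  refine ⟨h.map red, (Polynomial.map_ne_zero_iff hredinj).2 hh0, ?_⟩
  let κ : B ⧸ P →+* C ⧸ Q := Ideal.quotientMap _ ι (fun b hb => by rwa [← hQP] at hb)
  have h2 : (algebraMap (W ⧸ m) (C ⧸ Q)).comp red =
      κ.comp (algebraMap (A ⧸ P.under A) (B ⧸ P)) := by
    refine Ideal.Quotient.ringHom_ext (RingHom.ext fun a => ?_)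
    exact congrArg (Ideal.Quotient.mk Q) (hι a).symm
  have h3 := congrArg κ hh
  rw [Polynomial.aeval_def, Polynomial.hom_eval₂, map_zero, ← h2] at h3
  rw [Polynomial.aeval_def, Polynomial.eval₂_map]
  exact h3

/-- Algebraicity of a residue ring from generators. -/
theorem isAlgebraic_quotient_of_gens {W C : Type u} [CommRing W] [CommRing C] [Algebra W C]
    (m : Ideal W) [m.IsMaximal] (Q : Ideal C) [Q.IsPrime] [Q.LiesOver m] (S : Set C)
    (hS : Algebra.adjoin W S = ⊤)
    (h : ∀ x ∈ S, IsAlgebraic (W ⧸ m) (Ideal.Quotient.mk Q x)) :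
    Algebra.IsAlgebraic (W ⧸ m) (C ⧸ Q) := by
  let := Ideal.Quotient.field m
  constructor
  intro y
  obtain ⟨x, rfl⟩ := Ideal.Quotient.mk_surjective y
  have hx : x ∈ Algebra.adjoin W S := hS ▸ Algebra.mem_top
  induction hx using Algebra.adjoin_induction with
  | mem x hx => exact h x hx
  | algebraMap w => exact isAlgebraic_algebraMap (A := C ⧸ Q) (Ideal.Quotient.mk m w)
  | add x y _ _ hax hay => rw [map_add]; exact hax.add hay
  | mul x y _ _ hax hay => rw [map_mul]; exact hax.mul hay

/-- Algebraicity passes to the contraction. -/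
theorem isAlgebraic_quotient_comap {A B W C : Type u} [CommRing A] [CommRing B] [Algebra A B]
    [CommRing W] [IsDomain W] [Algebra A W] [CommRing C] [Algebra W C] [Algebra.IsAlgebraic A W]
    (ι : B →+* C) (hι : ∀ a, ι (algebraMap A B a) = algebraMap W C (algebraMap A W a))
    (P₁ : Ideal C) [P₁.IsPrime] [Algebra.IsAlgebraic W (C ⧸ P₁)] :
    Algebra.IsAlgebraic A (B ⧸ P₁.comap ι) := by
  letI : Algebra A C := Algebra.compHom C (algebraMap A W)
  have : IsScalarTower A W C := IsScalarTower.of_algebraMap_eq fun _ => rfl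
  have : IsScalarTower A W (C ⧸ P₁) := inferInstance
  have : IsDomain (C ⧸ P₁) := Ideal.Quotient.isDomain P₁
  have : Algebra.IsAlgebraic A (C ⧸ P₁) := Algebra.IsAlgebraic.trans A W (C ⧸ P₁)
  let f : (B ⧸ P₁.comap ι) →ₐ[A] (C ⧸ P₁) :=
    { Ideal.quotientMap P₁ ι le_rfl with
      commutes' := fun a => congrArg (Ideal.Quotient.mk P₁) (hι a) }
  exact Algebra.IsAlgebraic.of_injective f Ideal.quotientMap_injective

set_option maxHeartbeats 1000000 in
set_option synthInstance.maxHeartbeats 200000 in
/-- General domain form. -/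
theorem exists_prime_algebraic_of_domain {A B : Type u} [CommRing A] [CommRing B] [IsDomain A]
    [IsDomain B] [Algebra A B] [FaithfulSMul A B] [Algebra.FiniteType A B] (P : Ideal B)
    [P.IsPrime] (hne : P.under A ≠ ⊥) [Algebra.IsAlgebraic (A ⧸ P.under A) (B ⧸ P)]
    (g : B) (hg : g ≠ 0) :
    ∃ P₁ : Ideal B, P₁.IsPrime ∧ P₁ ≤ P ∧ g ∉ P₁ ∧ P₁.under A = ⊥ ∧
      Algebra.IsAlgebraic A (B ⧸ P₁) := by
  classical
  let L := FractionRing B
  let K := FractionRing A
  letI : Algebra K L := FractionRing.liftAlgebra A L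
  have : IsScalarTower A K L := inferInstance
  have hBL : Function.Injective (algebraMap B L) := IsFractionRing.injective B L
  obtain ⟨V, hV, hVloc⟩ := IsLocalRing.exists_factor_valuationRing
    (algebraMap (Localization.AtPrime P) L)
  have hBV : ∀ b, algebraMap B L b ∈ V := fun b => by
    rw [IsScalarTower.algebraMap_apply B (Localization.AtPrime P) L]
    exact hV _
  let W := V.comap (algebraMap K L)
  letI : Algebra W L := ((algebraMap K L).comp (algebraMap W K)).toAlgebra
  have hWL : Function.Injective (algebraMap W L) :=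
    (algebraMap K L).injective.comp Subtype.val_injective
  obtain ⟨s, hs⟩ := Algebra.FiniteType.out (R := A) (A := B)
  let B' : Subalgebra W L := Algebra.adjoin W (algebraMap B L '' (s : Set B))
  have : Algebra.FiniteType W B' :=
    (Subalgebra.fg_iff_finiteType B').1 ⟨s.image (algebraMap B L), by simp [B']⟩
  have hAW : ∀ a : A, algebraMap A K a ∈ W := fun a => by
    show algebraMap K L (algebraMap A K a) ∈ V
    rw [← IsScalarTower.algebraMap_apply A K L, IsScalarTower.algebraMap_apply A B L]
    exact hBV _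
  letI : Algebra A W := ((algebraMap A K).codRestrict W.toSubring hAW).toAlgebra
  have : IsScalarTower A W L :=
    IsScalarTower.of_algebraMap_eq fun a => IsScalarTower.algebraMap_apply A K L a
  have hBB' : ∀ b, algebraMap B L b ∈ B' := by
    intro b
    have hb : b ∈ Algebra.adjoin A (s : Set B) := hs ▸ Algebra.mem_top
    induction hb using Algebra.adjoin_induction with
    | mem b hb => exact Algebra.subset_adjoin ⟨b, hb, rfl⟩
    | algebraMap a =>
      rw [← IsScalarTower.algebraMap_apply A B L, IsScalarTower.algebraMap_apply A W L]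
      exact B'.algebraMap_mem _
    | add x y _ _ hx hy => rw [map_add]; exact B'.add_mem hx hy
    | mul x y _ _ hx hy => rw [map_mul]; exact B'.mul_mem hx hy
  have hB'V : ∀ x ∈ B', x ∈ V := by
    intro x hx
    induction hx using Algebra.adjoin_induction with
    | mem x hx => obtain ⟨b, _, rfl⟩ := hx; exact hBV b
    | algebraMap w => exact w.2
    | add x y _ _ hx hy => exact add_mem hx hy
    | mul x y _ _ hx hy => exact mul_mem hx hy
  let ι : B →+* B' := (algebraMap B L).codRestrict B'.toSubring hBB'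
  let j : B' →+* V := B'.val.toRingHom.codRestrict V.toSubring fun x => hB'V x x.2
  set Q := (maximalIdeal V).comap j with hQ
  have hQP : Q.comap ι = P := by
    have : IsLocalHom ((algebraMap (Localization.AtPrime P) L).codRestrict V.toSubring hV) := hVloc
    have h1 : j.comp ι = ((algebraMap (Localization.AtPrime P) L).codRestrict V.toSubring hV).comp
        (algebraMap B (Localization.AtPrime P)) :=
      RingHom.ext fun b =>
        Subtype.ext (IsScalarTower.algebraMap_apply B (Localization.AtPrime P) L b)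
    rw [hQ, Ideal.comap_comap, h1, ← Ideal.comap_comap]
    rw [IsLocalRing.maximalIdeal_comap]
    exact Localization.AtPrime.under_maximalIdeal
  have : Q.IsPrime := Ideal.IsPrime.comap _
  have hQW : maximalIdeal W = Q.under W := by
    ext w
    show w ∈ maximalIdeal W ↔ j (algebraMap W B' w) ∈ maximalIdeal V
    rw [IsLocalRing.mem_maximalIdeal, IsLocalRing.mem_maximalIdeal, mem_nonunits_iff,
      mem_nonunits_iff, not_iff_not]
    have e : ((j (algebraMap W B' w) : V) : L) = algebraMap K L (w : K) := rfl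
    constructor
    · intro hu
      exact (hu.map (algebraMap W B')).map j
    · intro hu
      obtain ⟨v, hv⟩ := isUnit_iff_exists_inv.1 hu
      have hv' : algebraMap K L (w : K) * (v : L) = 1 := by
        rw [← e]; exact congrArg Subtype.val hv
      have hw0 : (w : K) ≠ 0 := fun h0 => by
        rw [h0, map_zero, zero_mul] at hv'; exact zero_ne_one hv'
      have hinv : (w : K)⁻¹ ∈ W := by
        show algebraMap K L (w : K)⁻¹ ∈ V
        rw [map_inv₀, ← eq_inv_of_mul_eq_one_right hv']
        exact v.2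
      exact isUnit_iff_exists_inv.2 ⟨⟨_, hinv⟩, Subtype.ext (mul_inv_cancel₀ hw0)⟩
  have : Q.LiesOver (maximalIdeal W) := ⟨hQW⟩
  have hι : ∀ a, ι (algebraMap A B a) = algebraMap W B' (algebraMap A W a) := fun a =>
    Subtype.ext (show algebraMap B L (algebraMap A B a) = algebraMap W L (algebraMap A W a) by
      rw [← IsScalarTower.algebraMap_apply, ← IsScalarTower.algebraMap_apply])
  have hAWmax : ∀ a, algebraMap A W a ∈ maximalIdeal W ↔ a ∈ P.under A := by
    intro a
    rw [hQW, Ideal.mem_comap, ← hι, ← Ideal.mem_comap, hQP]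
    rfl
  have hW : maximalIdeal W ≠ ⊥ := by
    intro h
    obtain ⟨a, ha, ha0⟩ := Submodule.exists_mem_ne_zero_of_ne_bot hne
    have := (hAWmax a).2 ha
    rw [h, Submodule.mem_bot] at this
    exact ha0 (IsFractionRing.injective A K (by rw [map_zero]; exact congrArg Subtype.val this))
  have : Algebra.IsAlgebraic (W ⧸ maximalIdeal W) (B' ⧸ Q) := by
    have hS : Algebra.adjoin W ((Subtype.val : B' → L) ⁻¹' (algebraMap B L '' (s : Set B))) =
        (⊤ : Subalgebra W B') :=
      Algebra.adjoin_adjoin_coe_preimage (R := W) (A := L) (s := algebraMap B L '' (s : Set B))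
    refine isAlgebraic_quotient_of_gens (W := W) (C := B') (maximalIdeal W) Q _ hS ?_
    rintro ⟨x, hx⟩ ⟨b, hb, hbx⟩
    have e : (⟨x, hx⟩ : B') = ι b := Subtype.ext hbx.symm
    rw [e]
    exact isAlgebraic_mk_map (maximalIdeal W) Q P ι (algebraMap A W) hι hQP hAWmax b
  have : FaithfulSMul W B' := (faithfulSMul_iff_algebraMap_injective _ _).2
    fun x y h => hWL (congrArg Subtype.val h)
  obtain ⟨P₁, hP₁, hle, hgn, hbot, halg⟩ := exists_prime_algebraic_of_valuationRing hW Q (ι g)
    (fun h => hg (hBL (by rw [map_zero]; exact congrArg Subtype.val h)))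
  refine ⟨P₁.comap ι, Ideal.IsPrime.comap _, ?_, hgn, ?_, ?_⟩
  · rw [← hQP]; exact Ideal.comap_mono hle
  · refine eq_bot_iff.2 fun a ha => ?_
    rw [Ideal.mem_comap, Ideal.mem_comap, hι, ← Ideal.mem_comap, ← Ideal.under_def, hbot,
      Submodule.mem_bot] at ha
    exact Submodule.mem_bot A |>.2
      (IsFractionRing.injective A K (by rw [map_zero]; exact congrArg Subtype.val ha))
  · have : IsScalarTower A W K := IsScalarTower.of_algebraMap_eq fun _ => rfl
    have : Algebra.IsAlgebraic A K := IsLocalization.isAlgebraic K (nonZeroDivisors A)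
    have : Algebra.IsAlgebraic A W := Algebra.IsAlgebraic.of_injective
      (IsScalarTower.toAlgHom A W K) Subtype.val_injective
    exact isAlgebraic_quotient_comap (W := W) ι hι P₁

/-- The ring form of density of intermediate points closed in their fibre. -/
theorem exists_prime_between {A B : Type u} [CommRing A] [CommRing B] [Algebra A B]
    [Algebra.FiniteType A B] (P P' : Ideal B) [P.IsPrime] [P'.IsPrime] (hle : P ≤ P')
    (hne : P.under A ≠ P'.under A)
    (hmax : ∀ Q : Ideal B, Q.IsPrime → P' ≤ Q → Q.under A = P'.under A → Q = P')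
    (g : B) (hg : g ∉ P) :
    ∃ P₁ : Ideal B, P₁.IsPrime ∧ P ≤ P₁ ∧ P₁ ≤ P' ∧ g ∉ P₁ ∧ P₁.under A = P.under A ∧
      ∀ Q : Ideal B, Q.IsPrime → P₁ ≤ Q → Q.under A = P₁.under A → Q = P₁ := by
  let A' := A ⧸ P.under A
  let B' := B ⧸ P
  have : FaithfulSMul A' B' := (faithfulSMul_iff_algebraMap_injective _ _).2
    (Ideal.quotientMap_injective (I := P) (f := algebraMap A B))
  have : Algebra.FiniteType A' B' := Algebra.FiniteType.of_restrictScalars_finiteType A _ _
  have hunder : ∀ (J : Ideal B'), (J.comap (Ideal.Quotient.mk P)).under A =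
      (J.under A').comap (Ideal.Quotient.mk (P.under A)) := fun J => rfl
  set Q' := P'.map (Ideal.Quotient.mk P) with hQ'
  have hQ'c : Q'.comap (Ideal.Quotient.mk P) = P' := by
    rw [hQ', Ideal.comap_map_of_surjective _ Ideal.Quotient.mk_surjective, ← RingHom.ker_eq_comap_bot,
      Ideal.mk_ker, sup_eq_left.2 hle]
  have : Q'.IsPrime := Ideal.map_isPrime_of_surjective Ideal.Quotient.mk_surjective
    (by rwa [Ideal.mk_ker])
  have hne' : Q'.under A' ≠ ⊥ := by
    intro h
    apply hne
    have := hunder Q'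
    rw [hQ'c, h, ← RingHom.ker_eq_comap_bot, Ideal.mk_ker] at this
    exact this.symm
  have : Algebra.IsAlgebraic (A' ⧸ Q'.under A') (B' ⧸ Q') := by
    have : Algebra.FiniteType (A' ⧸ Q'.under A') (B' ⧸ Q') :=
      Algebra.FiniteType.of_restrictScalars_finiteType A' _ _
    have : FaithfulSMul (A' ⧸ Q'.under A') (B' ⧸ Q') :=
      (faithfulSMul_iff_algebraMap_injective _ _).2
        (Ideal.quotientMap_injective (I := Q') (f := algebraMap A' B'))
    refine isAlgebraic_of_maximal_fibre fun J hJ hJ0 => ?_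
    let J' := J.comap (Ideal.Quotient.mk Q')
    have hJ' : Q' ≤ J' := fun x hx => by
      simp [J', Ideal.Quotient.eq_zero_iff_mem.2 hx]
    have hJu : J'.under A' = Q'.under A' := by
      have : J'.under A' = (J.under (A' ⧸ Q'.under A')).comap (Ideal.Quotient.mk (Q'.under A')) :=
        rfl
      rw [this, hJ0, ← RingHom.ker_eq_comap_bot, Ideal.mk_ker]
    have hJeq : J'.comap (Ideal.Quotient.mk P) = P' := by
      refine hmax _ inferInstance ?_ ?_
      · rw [← hQ'c]; exact Ideal.comap_mono hJ'
      · rw [hunder, hJu, ← hunder, hQ'c]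
    have hJQ : J' = Q' :=
      Ideal.comap_injective_of_surjective _ Ideal.Quotient.mk_surjective (hJeq.trans hQ'c.symm)
    apply Ideal.comap_injective_of_surjective _ Ideal.Quotient.mk_surjective
    rw [← RingHom.ker_eq_comap_bot, Ideal.mk_ker]
    exact hJQ
  obtain ⟨J, hJp, hJle, hgJ, hJ0, hJalg⟩ := exists_prime_algebraic_of_domain Q' hne'
    (Ideal.Quotient.mk P g) (fun h => hg (Ideal.Quotient.eq_zero_iff_mem.1 h))
  refine ⟨J.comap (Ideal.Quotient.mk P), Ideal.IsPrime.comap _, fun x hx => ?_, ?_, hgJ, ?_, ?_⟩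
  · simp [Ideal.Quotient.eq_zero_iff_mem.2 hx]
  · rw [← hQ'c]; exact Ideal.comap_mono hJle
  · rw [hunder, hJ0, ← RingHom.ker_eq_comap_bot, Ideal.mk_ker]
  · intro Q hQ hQle hQu
    rw [hunder, hJ0, ← RingHom.ker_eq_comap_bot, Ideal.mk_ker] at hQu
    have hPQ : P ≤ Q := le_trans (fun x hx => by
      simp [Ideal.Quotient.eq_zero_iff_mem.2 hx]) hQle
    let q : B →+* B' ⧸ J := (Ideal.Quotient.mk J).comp (Ideal.Quotient.mk P)
    have hq : Function.Surjective q :=
      Ideal.Quotient.mk_surjective.comp Ideal.Quotient.mk_surjective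
    have hker : RingHom.ker q = J.comap (Ideal.Quotient.mk P) := by
      rw [RingHom.ker_eq_comap_bot, ← Ideal.comap_comap, ← RingHom.ker_eq_comap_bot, Ideal.mk_ker]
    have hQc : (Q.map q).comap q = Q := by
      rw [Ideal.comap_map_of_surjective _ hq, ← RingHom.ker_eq_comap_bot, hker, sup_eq_left.2 hQle]
    have : IsDomain (B' ⧸ J) := Ideal.Quotient.isDomain J
    have h0 : Q.map q = ⊥ := eq_bot_of_isAlgebraic (A := A') (eq_bot_iff.2 fun a ha => by
      obtain ⟨a, rfl⟩ := Ideal.Quotient.mk_surjective a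
      have h1 : algebraMap A B a ∈ (Q.map q).comap q := ha
      rw [hQc] at h1
      have h2 : a ∈ P.under A := hQu ▸ h1
      rw [Ideal.Quotient.eq_zero_iff_mem.2 h2]
      exact Submodule.zero_mem _)
    rw [← hQc, h0, ← RingHom.ker_eq_comap_bot, hker]

end Groth.Agent.Henz21
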