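import Mathlib
import Groth.Agent.Henz21.SepClosedMain
import Groth.Agent.Henz21.ShBranch

/-!
Normalization of a finite étale algebra over a unibranch henselian domain: separable closedness of
the residue fields against splitting of the separable residue extension.
-/

universe u

open IsLocalRing Polynomial TensorProduct

namespace Groth.Agent.Henz21

/-- All embeddings into an algebraic closure factor through `F` iff there are as many embeddings
into `F` as the degree. -/
theorem card_algHom_eq_finrank_iff {k K F : Type u} [Field k] [Field K] [Field F] [Algebra k K]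
    [Algebra k F] [FiniteDimensional k K] [Algebra.IsSeparable k K] :
    Nat.card (K →ₐ[k] F) = Module.finrank k K ↔
      ∀ σ : K →ₐ[k] AlgebraicClosure F, ∀ z, σ z ∈ Set.range (algebraMap F (AlgebraicClosure F)) := by
  classical
  let ι : F →ₐ[k] AlgebraicClosure F := IsScalarTower.toAlgHom k F _
  let c : (K →ₐ[k] F) → (K →ₐ[k] AlgebraicClosure F) := fun f => ι.comp f
  have hc : Function.Injective c := fun f g h => AlgHom.ext fun z =>
    ι.toRingHom.injective (DFunLike.congr_fun h z)
  have hcard : Nat.card (K →ₐ[k] AlgebraicClosure F) = Module.finrank k K := by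
    rw [Nat.card_eq_fintype_card, AlgHom.card]
  constructor
  · intro h σ z
    have hb : Function.Bijective c :=
      (Nat.bijective_iff_injective_and_card c).2 ⟨hc, h.trans hcard.symm⟩
    obtain ⟨f, rfl⟩ := hb.2 σ
    exact ⟨f z, rfl⟩
  · intro h
    rw [← hcard]
    refine Nat.card_eq_of_bijective c ⟨hc, fun σ => ?_⟩
    choose f hf using h σ
    have hinj : Function.Injective ι := ι.toRingHom.injective
    refine ⟨⟨⟨⟨⟨f, hinj ?_⟩, fun x y => hinj ?_⟩, hinj ?_, fun x y => hinj ?_⟩, fun r => hinj ?_⟩,
      AlgHom.ext hf⟩
    · exact (hf 1).trans ((map_one σ).trans (map_one ι).symm)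
    · exact (hf _).trans ((map_mul σ x y).trans (((map_mul ι (f x) (f y)).trans
        (congrArg₂ (· * ·) (hf x) (hf y))).symm))
    · exact (hf 0).trans ((map_zero σ).trans (map_zero ι).symm)
    · exact (hf _).trans ((map_add σ x y).trans (((map_add ι (f x) (f y)).trans
        (congrArg₂ (· + ·) (hf x) (hf y))).symm))
    · exact (hf _).trans ((σ.commutes r).trans (ι.commutes r).symm)

variable {A : Type u} [CommRing A] [HenselianLocalRing A] [IsNoetherianRing A] [IsDomain A]
  (D : Type u) [CommRing D] [IsLocalRing D] [Algebra A D] [IsLocalHom (algebraMap A D)]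
  [Module.Finite A D] [Algebra.Etale A D]

/-- The normalization of a finite étale algebra is generated by the algebra and the normalization
of the base. -/
theorem exists_equiv_integralClosure :
    ∃ e : D ⊗[A] integralClosure A (FractionRing A) ≃ₐ[D] integralClosure D (FractionRing D),
      ∃ ι : integralClosure A (FractionRing A) →ₐ[A] integralClosure D (FractionRing D),
        ∀ d a, e (d ⊗ₜ a) = algebraMap D _ d * ι a := by
  classical
  have hmin : (minimalPrimes A).Finite := minimalPrimes.finite_of_isNoetherianRing A
  have hloc := SubSh14.isLocalization_fractionRing (A := A) hmin D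
  let e₀ : D ⊗[A] FractionRing A ≃ₐ[D] FractionRing D :=
    IsLocalization.algEquiv (Algebra.algebraMapSubmonoid D (nonZeroDivisors A)) _ _
  let e : D ⊗[A] integralClosure A (FractionRing A) ≃ₐ[D] integralClosure D (FractionRing D) :=
    (AlgEquiv.ofBijective (TensorProduct.toIntegralClosure A D (FractionRing A))
      TensorProduct.toIntegralClosure_bijective_of_smooth).trans (AlgEquiv.mapIntegralClosure e₀)
  refine ⟨e, (e.restrictScalars A).toAlgHom.comp Algebra.TensorProduct.includeRight, fun d a => ?_⟩
  show e (d ⊗ₜ a) = algebraMap D _ d * e (1 ⊗ₜ a)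
  rw [← AlgEquiv.commutes e d, ← map_mul, Algebra.TensorProduct.algebraMap_apply, Algebra.algebraMap_self,
    RingHom.id_apply, Algebra.TensorProduct.tmul_mul_tmul, mul_one, one_mul]

set_option maxHeartbeats 1000000 in
set_option synthInstance.maxHeartbeats 200000 in
/-- The criterion. -/
theorem separableClosure_eq_bot_iff_card [IsLocalRing (integralClosure A (FractionRing A))]
    [IsLocalHom (algebraMap A (integralClosure A (FractionRing A)))]
    (hG : CAlg.IsGRing A) :
    (∀ (M : Ideal (integralClosure D (FractionRing D))) [M.IsMaximal],
      separableClosure (Subfield.closure (Set.range ((algebraMap (integralClosure D (FractionRing D))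
        M.ResidueField).comp (algebraMap D (integralClosure D (FractionRing D)))))) M.ResidueField = ⊥) ↔
      Nat.card (separableClosure (ResidueField A) (ResidueField (integralClosure A (FractionRing A))) →ₐ[ResidueField A]
          ResidueField D) =
        Module.finrank (ResidueField A)
          (separableClosure (ResidueField A) (ResidueField (integralClosure A (FractionRing A)))) := by
  classical
  let A' := integralClosure A (FractionRing A)
  have hA'fin : Module.Finite A A' := by
    refine SubSh14.finite_integralClosure_field hG (FractionRing A) {1} fun x => ?_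
    obtain ⟨⟨a, b⟩, hab⟩ := IsLocalization.surj (nonZeroDivisors A) x
    refine ⟨b, (map_ne_zero_iff _ (IsFractionRing.injective A _)).2 (nonZeroDivisors.ne_zero b.2), ?_⟩
    rw [mul_comm, hab, Finset.coe_singleton, Submodule.mem_span_singleton]
    exact ⟨a, (Algebra.algebraMap_eq_smul_one a).symm⟩
  have : Module.Finite (ResidueField A) (ResidueField A') := by
    have : Module.Finite A (ResidueField A') :=
      Module.Finite.of_surjective (IsScalarTower.toAlgHom A A' (ResidueField A')).toLinearMap
        residue_surjective
    exact Module.Finite.of_restrictScalars_finite A _ _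
  obtain ⟨e, ι, he⟩ := exists_equiv_integralClosure (A := A) D
  have : HenselianLocalRing D := henselianLocalRing_of_isIntegral (A := A)
  have hgen : ∀ y : integralClosure D (FractionRing D), ∀ (P : integralClosure D (FractionRing D) → Prop),
      P 0 → (∀ y z, P y → P z → P (y + z)) → (∀ d a, P (algebraMap D _ d * ι a)) → P y := by
    intro y P h0 hadd hmul
    obtain ⟨z, rfl⟩ := e.surjective y
    induction z using TensorProduct.induction_on with
    | zero => rw [map_zero]; exact h0
    | add a b ha hb => rw [map_add]; exact hadd _ _ ha hb
    | tmul d a => rw [he]; exact hmul d a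
  rw [card_algHom_eq_finrank_iff]
  constructor
  · intro hsep σ z
    let Ω := AlgebraicClosure (ResidueField D)
    let : Algebra (separableClosure (ResidueField A) (ResidueField A')) Ω := σ.toRingHom.toAlgebra
    have : IsScalarTower (ResidueField A) (separableClosure (ResidueField A) (ResidueField A')) Ω :=
      IsScalarTower.of_algebraMap_eq fun x => (σ.commutes x).symm
    let τ₀ : ResidueField A' →ₐ[separableClosure (ResidueField A) (ResidueField A')] Ω := IsAlgClosed.lift
    let τ : ResidueField A' →ₐ[ResidueField A] Ω := τ₀.restrictScalars (ResidueField A)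
    have : IsScalarTower A (ResidueField A) Ω := IsScalarTower.of_algebraMap_eq fun x => by
      rw [IsScalarTower.algebraMap_apply A (ResidueField D) Ω,
        IsScalarTower.algebraMap_apply (ResidueField A) (ResidueField D) Ω,
        ← IsScalarTower.algebraMap_apply A (ResidueField A) (ResidueField D)]
    let φA : A' →ₐ[A] Ω := (τ.restrictScalars A).comp (IsScalarTower.toAlgHom A A' (ResidueField A'))
    let φD : D →ₐ[D] Ω := Algebra.ofId D Ω
    let Φ : D ⊗[A] A' →ₐ[D] Ω := Algebra.TensorProduct.lift φD φA fun _ _ => Commute.all _ _
    let Φ' : integralClosure D (FractionRing D) →ₐ[D] Ω := Φ.comp e.symm.toAlgHom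
    set M := RingHom.ker Φ'.toRingHom with hM
    have : M.IsPrime := RingHom.ker_isPrime _
    have hMD : M.comap (algebraMap D _) = maximalIdeal D := by
      ext d
      rw [hM, Ideal.mem_comap, RingHom.mem_ker, AlgHom.toRingHom_eq_coe, RingHom.coe_coe, AlgHom.commutes,
        IsScalarTower.algebraMap_apply D (ResidueField D) Ω, map_eq_zero]
      exact residue_eq_zero_iff d
    have : M.IsMaximal := Ideal.isMaximal_of_isIntegral_of_isMaximal_comap (R := D) M
      (hMD ▸ maximalIdeal.isMaximal D)
    let θ := algebraMap (integralClosure D (FractionRing D)) M.ResidueField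
    let ω : M.ResidueField →+* Ω := Ideal.ResidueField.lift M Φ'.toRingHom le_rfl
      fun x hx => isUnit_iff_ne_zero.2 hx
    have hω : ∀ y, ω (θ y) = Φ' y := fun y => by simp [ω, θ]
    have hkerD : RingHom.ker (θ.comp (algebraMap D _)) = maximalIdeal D := by
      rw [← RingHom.comap_ker, show RingHom.ker θ = M by
        ext w; exact Ideal.algebraMap_residueField_eq_zero, hMD]
    set k₀ := Subfield.closure (Set.range (θ.comp (algebraMap D _))) with hk₀
    obtain ⟨a, ha⟩ := residue_surjective (z : ResidueField A')
    let g₀ : ResidueField A →+* k₀ := Ideal.Quotient.lift (maximalIdeal A)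
      (((θ.comp (algebraMap D _)).comp (algebraMap A D)).codRestrict k₀
        fun d => Subfield.subset_closure ⟨algebraMap A D d, rfl⟩)
      (fun d hd => Subtype.ext (show (θ.comp (algebraMap D _)) (algebraMap A D d) = 0 by
        rw [← RingHom.mem_ker, hkerD]; exact map_nonunit (algebraMap A D) d hd))
    have hsepa : IsSeparable k₀ (θ (ι a)) := by
      have hz : IsSeparable (ResidueField A) (z : ResidueField A') := mem_separableClosure_iff.1 z.2
      refine Polynomial.Separable.of_dvd
        (Polynomial.Separable.map (f := g₀) (hz : (minpoly (ResidueField A) (z : ResidueField A')).Separable))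
        (minpoly.dvd k₀ _ ?_)
      apply ω.injective
      rw [map_zero, aeval_def, eval₂_map, hom_eval₂, hω]
      have h1 : Φ' (ι a) = τ (z : ResidueField A') := by
        rw [← ha]
        show Φ (e.symm (ι a)) = _
        rw [show ι a = e (1 ⊗ₜ a) by rw [he, map_one, one_mul], AlgEquiv.symm_apply_apply,
          Algebra.TensorProduct.lift_tmul, map_one, one_mul]
        rfl
      have h2 : ω.comp ((algebraMap k₀ M.ResidueField).comp g₀) = algebraMap (ResidueField A) Ω := by
        refine Ideal.Quotient.ringHom_ext (RingHom.ext fun r => ?_)
        show ω (θ (algebraMap D _ (algebraMap A D r))) = algebraMap (ResidueField A) Ω (residue A r)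
        rw [hω, AlgHom.commutes, ← IsScalarTower.algebraMap_apply A D Ω]
        exact IsScalarTower.algebraMap_apply A (ResidueField A) Ω r
      rw [h2, h1, ← aeval_def, aeval_algHom_apply, minpoly.aeval, map_zero]
    have h3 : θ (ι a) ∈ (⊥ : IntermediateField k₀ M.ResidueField) :=
      hsep M ▸ mem_separableClosure_iff.2 hsepa
    obtain ⟨w, hw⟩ := IntermediateField.mem_bot.1 h3
    have hw' : (w : M.ResidueField) ∈ Set.range (θ.comp (algebraMap D _)) := by
      rw [← coe_closure_range_of_isField _ hkerD]; exact w.2
    obtain ⟨d, hd⟩ := hw'
    refine ⟨residue D d, ?_⟩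
    have h4 : Φ' (ι a) = σ z := by
      rw [show ι a = e (1 ⊗ₜ a) by rw [he, map_one, one_mul]]
      show Φ (e.symm (e (1 ⊗ₜ a))) = _
      rw [AlgEquiv.symm_apply_apply, Algebra.TensorProduct.lift_tmul, map_one, one_mul]
      show τ₀ (residue A' a) = _
      rw [ha]
      exact τ₀.commutes z
    have h5 : Φ' (algebraMap D _ d) = σ z := by
      rw [← h4, ← hω, ← hω]
      exact congrArg ω (hd.trans hw)
    rw [← h5, AlgHom.commutes, IsScalarTower.algebraMap_apply D (ResidueField D) Ω]
    rfl
  · intro hH M hM
    let θ := algebraMap (integralClosure D (FractionRing D)) M.ResidueField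
    have hkerθ : RingHom.ker θ = M := by ext w; exact Ideal.algebraMap_residueField_eq_zero
    have hkerD : RingHom.ker (θ.comp (algebraMap D _)) = maximalIdeal D := by
      rw [← RingHom.comap_ker, hkerθ]
      exact IsLocalRing.eq_maximalIdeal (Ideal.isMaximal_comap_of_isIntegral_of_isMaximal M)
    set k₀ := Subfield.closure (Set.range (θ.comp (algebraMap D _))) with hk₀
    let g : ResidueField D →+* M.ResidueField := Ideal.Quotient.lift (maximalIdeal D)
      (θ.comp (algebraMap D _)) (fun d hd => by rw [← RingHom.mem_ker, hkerD]; exact hd)
    have hg : ∀ x, g x ∈ k₀ := fun x => by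
      obtain ⟨d, rfl⟩ := residue_surjective x
      exact Subfield.subset_closure ⟨d, rfl⟩
    let : Algebra (ResidueField D) M.ResidueField := g.toAlgebra
    have : Algebra.IsAlgebraic (ResidueField D) M.ResidueField := by
      constructor
      intro x
      obtain ⟨w, hw⟩ := (Ideal.bijective_algebraMap_quotient_residueField M).2 x
      obtain ⟨w, rfl⟩ := Ideal.Quotient.mk_surjective w
      obtain ⟨p, hp, hpw⟩ := Algebra.IsIntegral.isIntegral (R := D) w
      refine IsIntegral.isAlgebraic ⟨p.map (residue D), hp.map _, ?_⟩
      rw [eval₂_map, ← hw]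
      have h := congrArg θ hpw
      rw [hom_eval₂, map_zero] at h
      exact h
    have hιker : RingHom.ker (θ.comp ι.toRingHom) = maximalIdeal A' := by
      have : (RingHom.ker (θ.comp ι.toRingHom)).IsPrime := RingHom.ker_isPrime _
      refine IsLocalRing.eq_maximalIdeal (Ideal.isMaximal_of_isIntegral_of_isMaximal_comap (R := A) _ ?_)
      have heq : (RingHom.ker (θ.comp ι.toRingHom)).comap (algebraMap A A') = maximalIdeal A := by
        ext r
        rw [Ideal.mem_comap, RingHom.mem_ker, RingHom.comp_apply, AlgHom.toRingHom_eq_coe, RingHom.coe_coe,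
          AlgHom.commutes, IsScalarTower.algebraMap_apply A D (integralClosure D (FractionRing D)),
          ← RingHom.comp_apply, ← RingHom.mem_ker, hkerD, IsLocalRing.mem_maximalIdeal,
          IsLocalRing.mem_maximalIdeal, mem_nonunits_iff, mem_nonunits_iff, isUnit_map_iff]
      exact heq ▸ maximalIdeal.isMaximal A
    let gA : ResidueField A' →+* M.ResidueField := Ideal.Quotient.lift (maximalIdeal A')
      (θ.comp ι.toRingHom) (fun d hd => by rw [← RingHom.mem_ker, hιker]; exact hd)
    let χ : M.ResidueField →ₐ[ResidueField D] AlgebraicClosure (ResidueField D) := IsAlgClosed.lift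
    let σ : separableClosure (ResidueField A) (ResidueField A') →ₐ[ResidueField A]
        AlgebraicClosure (ResidueField D) :=
      { χ.toRingHom.comp (gA.comp
          (algebraMap (separableClosure (ResidueField A) (ResidueField A')) (ResidueField A'))) with
        commutes' := fun r => by
          obtain ⟨r, rfl⟩ := residue_surjective r
          show χ (θ (ι (algebraMap A A' r))) = algebraMap (ResidueField A) _ (residue A r)
          rw [AlgHom.commutes, IsScalarTower.algebraMap_apply A D (integralClosure D (FractionRing D)),
            show θ (algebraMap D _ (algebraMap A D r)) = algebraMap (ResidueField D) M.ResidueField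
              (residue D (algebraMap A D r)) from rfl, AlgHom.commutes,
            IsScalarTower.algebraMap_apply (ResidueField A) (ResidueField D) _ (residue A r)]
          rfl }
    have hsub : ∀ z : separableClosure (ResidueField A) (ResidueField A'), gA z ∈ k₀ := by
      intro z
      obtain ⟨x, hx⟩ := hH σ z
      have h1 : χ (algebraMap (ResidueField D) M.ResidueField x) = χ (gA z) := by
        rw [AlgHom.commutes]; exact hx
      rw [← χ.toRingHom.injective h1]
      exact hg x
    rw [eq_bot_iff]
    intro x hx
    have hpc : ∀ y, θ y ∈ perfectClosure k₀ M.ResidueField := by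
      intro y
      refine hgen y (fun y => θ y ∈ perfectClosure k₀ M.ResidueField) (by rw [map_zero]; exact zero_mem _) (fun y z hy hz => by
        rw [map_add]; exact add_mem hy hz) fun d a => ?_
      rw [map_mul]
      refine mul_mem ?_ ?_
      · exact IntermediateField.algebraMap_mem _ (⟨_, Subfield.subset_closure ⟨d, rfl⟩⟩ : k₀)
      · rw [mem_perfectClosure_iff]
        let ks := separableClosure (ResidueField A) (ResidueField A')
        obtain ⟨n, w, hw⟩ := (isPurelyInseparable_iff_pow_mem ks (ringExpChar ks)).1
          inferInstance (residue A' a)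
        refine ⟨n, ⟨gA w, hsub w⟩, ?_⟩
        have hq : ringExpChar ks = ringExpChar k₀ := by
          have : ExpChar k₀ (ringExpChar ks) :=
            expChar_of_injective_ringHom ((gA.comp (algebraMap ks (ResidueField A'))).codRestrict k₀ hsub).injective _
          exact (ringExpChar.eq k₀ (ringExpChar ks)).symm
        have h := congrArg gA hw
        rw [map_pow] at h
        rw [← hq]
        exact h
    have hsepx : x ∈ separableClosure k₀ M.ResidueField := hx
    have : IsPurelyInseparable k₀ M.ResidueField := by
      rw [isPurelyInseparable_iff_perfectClosure_eq_top, eq_top_iff]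
      intro w _
      obtain ⟨v, hv⟩ := (Ideal.bijective_algebraMap_quotient_residueField M).2 w
      obtain ⟨v, rfl⟩ := Ideal.Quotient.mk_surjective v
      rw [← hv]
      exact hpc v
    rw [separableClosure.eq_bot_of_isPurelyInseparable] at hsepx
    exact hsepx

end Groth.Agent.Henz21
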