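import Groth.Agent.CAlgH2.NoethLimit
import Groth.Agent.Hens22.PairHens
import Groth.Agent.S1994
import Mathlib.RingTheory.RingHom.Flat
import Mathlib.RingTheory.EssentialFiniteness
import Mathlib.RingTheory.Localization.Submodule
import Mathlib.FieldTheory.IntermediateField.Adjoin.Algebra

/-! Noetherianity of the henselization of `R ⊗_k A` along the maximal ideal of `R`. -/

set_option autoImplicit false
set_option linter.style.haveILetI false

universe u

open IsLocalRing TensorProduct

noncomputable section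

namespace Groth.Agent.Henz21.TensorNoeth

variable {k R : Type u} [Field k] [CommRing R] [IsLocalRing R] [Algebra k R]

/-- The residue map of `R`, with values in `k`. -/
def resK (hres : Function.Bijective (algebraMap k (ResidueField R))) : R →ₐ[k] k :=
  (AlgEquiv.ofBijective (Algebra.ofId k (ResidueField R)) hres).symm.toAlgHom.comp
    (IsScalarTower.toAlgHom k R (ResidueField R))

variable (hres : Function.Bijective (algebraMap k (ResidueField R)))

theorem resK_eq_zero {r : R} : resK hres r = 0 ↔ r ∈ maximalIdeal R := by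
  rw [← residue_eq_zero_iff]
  exact map_eq_zero_iff _ (AlgEquiv.ofBijective (Algebra.ofId k (ResidueField R)) hres).symm.injective

theorem sub_resK_mem (r : R) : r - algebraMap k R (resK hres r) ∈ maximalIdeal R := by
  rw [← resK_eq_zero hres, map_sub, AlgHom.commutes, Algebra.algebraMap_self, RingHom.id_apply,
    sub_self]

variable (A : Type u) [CommRing A] [Algebra k A]

/-- The projection `R ⊗ A → A`. -/
def rho : R ⊗[k] A →ₐ[k] A :=
  Algebra.TensorProduct.lift ((Algebra.ofId k A).comp (resK hres)) (AlgHom.id k A)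
    fun _ _ => .all _ _

theorem rho_tmul (r : R) (a : A) : rho hres A (r ⊗ₜ a) = algebraMap k A (resK hres r) * a := by
  simp [rho]

theorem rho_one_tmul (a : A) : rho hres A (1 ⊗ₜ a) = a := by simp [rho_tmul]

/-- The extension of the maximal ideal of `R`. -/
abbrev mExt : Ideal (R ⊗[k] A) :=
  (maximalIdeal R).map (Algebra.TensorProduct.includeLeftRingHom : R →+* R ⊗[k] A)

theorem sub_rho_mem (x : R ⊗[k] A) : x - 1 ⊗ₜ rho hres A x ∈ mExt (k := k) (R := R) A := by
  induction x using TensorProduct.induction_on with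
  | zero => simp
  | tmul r a =>
    have h := (mExt (k := k) (R := R) A).mul_mem_right (1 ⊗ₜ a) (Ideal.mem_map_of_mem
      (Algebra.TensorProduct.includeLeftRingHom : R →+* R ⊗[k] A) (sub_resK_mem hres r))
    simpa [rho_tmul, Algebra.TensorProduct.includeLeftRingHom_apply, TensorProduct.sub_tmul,
      sub_mul, Algebra.algebraMap_eq_smul_one, TensorProduct.smul_tmul] using h
  | add x y hx hy =>
    rw [map_add, TensorProduct.tmul_add, add_sub_add_comm]
    exact Ideal.add_mem _ hx hy

theorem rho_eq_zero_of_mem {x : R ⊗[k] A} (hx : x ∈ mExt (k := k) (R := R) A) : rho hres A x = 0 := by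
  suffices mExt (k := k) (R := R) A ≤ RingHom.ker (rho hres A) from this hx
  rw [Ideal.map_le_iff_le_comap]
  intro r hr
  simp [RingHom.mem_ker, Algebra.TensorProduct.includeLeftRingHom_apply, rho_tmul,
    (resK_eq_zero hres).mpr hr]

theorem rho_map {G : Type u} [CommRing G] [Algebra k G] (g : G →ₐ[k] A) (x : R ⊗[k] G) :
    rho hres A (Algebra.TensorProduct.map (AlgHom.id k R) g x) = g (rho hres G x) := by
  induction x using TensorProduct.induction_on with
  | zero => simp
  | tmul r a => simp [rho_tmul]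
  | add x y hx hy => simp [map_add, hx, hy]

variable [IsLocalRing A]

/-- The maximal ideal above `m` and `m_A`. -/
abbrev P : Ideal (R ⊗[k] A) := (maximalIdeal A).comap (rho hres A)

/-- The localization of `R ⊗ A` at `P`. -/
abbrev T : Type u := Localization.AtPrime (P hres A)

theorem mExt_le_P : mExt (k := k) (R := R) A ≤ P hres A := fun x hx => by
  rw [Ideal.mem_comap, rho_eq_zero_of_mem hres A hx]
  exact zero_mem _

variable {A} {G : Type u} [CommRing G] [Algebra k G] [IsLocalRing G] (g : G →ₐ[k] A)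
  [IsLocalHom g.toRingHom]

theorem comap_P : P hres G =
    (P hres A).comap (Algebra.TensorProduct.map (AlgHom.id k R) g).toRingHom := by
  ext x
  rw [Ideal.mem_comap, Ideal.mem_comap, Ideal.mem_comap]
  show _ ↔ rho hres A (Algebra.TensorProduct.map (AlgHom.id k R) g x) ∈ _
  rw [rho_map, mem_maximalIdeal, mem_maximalIdeal, mem_nonunits_iff, mem_nonunits_iff]
  exact not_congr (isUnit_map_iff g.toRingHom _).symm

/-- The map of localizations. -/
def Tmap : T hres G →+* T hres A :=
  Localization.localRingHom (P hres G) (P hres A)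
    (Algebra.TensorProduct.map (AlgHom.id k R) g).toRingHom (comap_P hres g)

theorem Tmap_to_map (x : R ⊗[k] G) : Tmap hres g (algebraMap _ _ x) =
    algebraMap _ (T hres A) (Algebra.TensorProduct.map (AlgHom.id k R) g x) :=
  Localization.localRingHom_to_map _ _ _ (comap_P hres g) x

omit [IsLocalRing A] [IsLocalRing G] [IsLocalHom g.toRingHom] in
theorem flat_map_id (hg : g.toRingHom.Flat) :
    (Algebra.TensorProduct.map (AlgHom.id k R) g).toRingHom.Flat := by
  exact RingHom.Flat.tensorProductMap (S := k) (f := AlgHom.id k R) (g := g) (RingHom.Flat.id R) hg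

theorem map_maximalIdeal_Tmap (hg : (maximalIdeal G).map g.toRingHom = maximalIdeal A) :
    (maximalIdeal (T hres G)).map (Tmap hres g) = maximalIdeal (T hres A) := by
  let φ := (Algebra.TensorProduct.map (AlgHom.id k R) g).toRingHom
  refine le_antisymm (Ideal.map_le_iff_le_comap.mpr (((local_hom_TFAE (Tmap hres g)).out 0 3).mp
    (Localization.isLocalHom_localRingHom _ _ _ (comap_P hres g)))) ?_
  rw [← Localization.AtPrime.map_eq_maximalIdeal (I := P hres A),
    ← Localization.AtPrime.map_eq_maximalIdeal (I := P hres G), Ideal.map_map,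
    show (Tmap hres g).comp (algebraMap (R ⊗[k] G) (T hres G)) =
      (algebraMap (R ⊗[k] A) (T hres A)).comp φ from RingHom.ext (Tmap_to_map hres g),
    ← Ideal.map_map]
  refine Ideal.map_mono fun x hx => ?_
  have h1 : mExt (k := k) (R := R) A ≤ (P hres G).map φ := by
    refine le_trans ?_ (Ideal.map_mono (mExt_le_P hres G))
    rw [Ideal.map_map]
    exact le_of_eq (congrArg (fun f => (maximalIdeal R).map f) (RingHom.ext fun r => by
      simp [φ, Algebra.TensorProduct.includeLeftRingHom_apply]))
  have h2 : (maximalIdeal A).map (Algebra.TensorProduct.includeRight : A →ₐ[k] R ⊗[k] A).toRingHom ≤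
      (P hres G).map φ := by
    rw [← hg, Ideal.map_map, show (Algebra.TensorProduct.includeRight : A →ₐ[k] R ⊗[k] A).toRingHom.comp
      g.toRingHom = φ.comp (Algebra.TensorProduct.includeRight : G →ₐ[k] R ⊗[k] G).toRingHom from
        RingHom.ext fun a => by simp [φ], ← Ideal.map_map]
    refine Ideal.map_mono (Ideal.map_le_iff_le_comap.mpr fun a ha => ?_)
    rw [Ideal.mem_comap, Ideal.mem_comap]
    simpa [rho_one_tmul] using ha
  have h3 : x = (x - 1 ⊗ₜ rho hres A x) + 1 ⊗ₜ rho hres A x := by ring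
  rw [h3]
  exact Ideal.add_mem _ (h1 (sub_rho_mem hres A x)) (h2 (Ideal.mem_map_of_mem _ hx))

theorem isNoetherianRing_tensor [IsNoetherianRing R] (G : Type u) [CommRing G] [Algebra k G]
    [Algebra.EssFiniteType k G] : IsNoetherianRing (R ⊗[k] G) :=
  Algebra.EssFiniteType.isNoetherianRing R (R ⊗[k] G)

/-- The Noetherianity criterion. -/
theorem isNoetherianRing_T [IsNoetherianRing R] {ι : Type u} [Nonempty ι] (G : ι → Type u)
    [∀ i, CommRing (G i)] [∀ i, IsLocalRing (G i)] [∀ i, Algebra k (G i)]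
    [∀ i, Algebra.EssFiniteType k (G i)] (g : ∀ i, G i →ₐ[k] A)
    [∀ i, IsLocalHom (g i).toRingHom] (hflat : ∀ i, (g i).toRingHom.Flat)
    (hmax : ∀ i, (maximalIdeal (G i)).map (g i).toRingHom = maximalIdeal A)
    (hcov : ∀ s : Finset A, ∃ i, ∀ a ∈ s, a ∈ Set.range (g i)) :
    IsNoetherianRing (T hres A) := by
  classical
  haveI : ∀ i, IsNoetherianRing (T hres (G i)) := fun i =>
    haveI := isNoetherianRing_tensor (R := R) (k := k) (G i)
    IsLocalization.isNoetherianRing (P hres (G i)).primeCompl _ inferInstance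
  refine CAlgH2.isNoetherianRing_of_stages (fun i => T hres (G i)) (T hres A)
    (fun i => Tmap hres (g i)) (fun i => (flat_map_id (R := R) (g i) (hflat i)).localRingHom _ _ (comap_P hres (g i)))
    (fun i => map_maximalIdeal_Tmap hres (g i) (hmax i)) fun s => ?_
  choose num den hnd using fun z : T hres A => IsLocalization.exists_mk'_eq (P hres A).primeCompl z
  obtain ⟨S₀, hS₀⟩ : ∃ F : (R ⊗[k] A) → Finset (R × A), ∀ x,
      x = ∑ p ∈ F x, p.1 ⊗ₜ p.2 := ⟨_, fun x => (TensorProduct.exists_finset x).choose_spec⟩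
  obtain ⟨i, hi⟩ := hcov (s.biUnion fun z =>
    ((S₀ (num z)) ∪ (S₀ (den z : R ⊗[k] A))).image Prod.snd)
  have hr : ∀ z ∈ s, ∀ x ∈ ({num z, (den z : R ⊗[k] A)} : Set (R ⊗[k] A)),
      x ∈ (Algebra.TensorProduct.map (AlgHom.id k R) (g i)).range := by
    intro z hz x hx
    rw [hS₀ x]
    refine Subalgebra.sum_mem _ fun p hp => ?_
    obtain ⟨y, hy⟩ := hi p.2 (Finset.mem_biUnion.mpr ⟨z, hz, Finset.mem_image.mpr ⟨p, by
      rcases hx with rfl | rfl
      · exact Finset.mem_union_left _ hp
      · exact Finset.mem_union_right _ hp, rfl⟩⟩)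
    exact ⟨p.1 ⊗ₜ y, by simp [hy]⟩
  refine ⟨i, fun z hz => ?_⟩
  obtain ⟨a, ha⟩ := hr z hz (num z) (Set.mem_insert _ _)
  obtain ⟨b, hb⟩ := hr z hz (den z : R ⊗[k] A) (Set.mem_insert_of_mem _ rfl)
  have hbP : b ∈ (P hres (G i)).primeCompl := by
    intro hbm
    rw [comap_P hres (g i)] at hbm
    exact (den z).2 (hb ▸ hbm)
  refine ⟨IsLocalization.mk' _ a ⟨b, hbP⟩, ?_⟩
  rw [Tmap, Localization.localRingHom_mk', ← hnd z]
  exact congrArg₂ (fun x y => IsLocalization.mk' (T hres A) x y) ha (Subtype.ext hb)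

/-- The field case. -/
theorem isNoetherianRing_T_field [IsNoetherianRing R] (K : Type u) [Field K] [Algebra k K] :
    IsNoetherianRing (T hres K) := by
  classical
  let G : Finset K → IntermediateField k K := fun s => IntermediateField.adjoin k (s : Set K)
  haveI : ∀ s, Algebra.EssFiniteType k (G s) := fun s =>
    IntermediateField.essFiniteType_iff.mpr (IntermediateField.fg_adjoin_finset s)
  haveI : ∀ s, IsLocalHom (G s).val.toRingHom := fun s =>
    ⟨fun x hx => isUnit_iff_ne_zero.mpr fun h => hx.ne_zero (by simp [h])⟩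
  refine isNoetherianRing_T hres (fun s => G s) (fun s => (G s).val) (fun s => ?_) (fun s => ?_)
    fun s => ⟨s, fun a ha => ⟨⟨a, IntermediateField.subset_adjoin k _ ha⟩, rfl⟩⟩
  · show Module.Flat (G s) K
    infer_instance
  · rw [maximalIdeal_eq_bot, maximalIdeal_eq_bot, Ideal.map_bot]

/-- The henselization of `R ⊗ A` is local, and Noetherian if `T` is. -/
theorem local_noetherian (B : Type u) [CommRing B] [Algebra (R ⊗[k] A) B]
    (hB : Hens2.IsPairHenselization (R ⊗[k] A) (mExt (k := k) (R := R) A) B)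
    (hT : IsNoetherianRing (T hres A)) : IsLocalRing B ∧ IsNoetherianRing B := by
  set I := mExt (k := k) (R := R) A with hI
  haveI := hB.1
  have hbot : HenselianRing A (⊥ : Ideal A) :=
    { jac := bot_le
      is_henselian := fun f _ a₀ h _ => ⟨a₀, by simpa using h, by simp⟩ }
  obtain ⟨π, hπ, -⟩ := hB.2 A ⊥ (rho hres A).toRingHom hbot
    (Ideal.map_le_iff_le_comap.mpr fun x hx => by
      rw [Ideal.mem_comap, Ideal.mem_bot]; exact rho_eq_zero_of_mem hres A hx)
  have hπI : ∀ z ∈ I.map (algebraMap _ B), π z = 0 := by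
    suffices I.map (algebraMap _ B) ≤ RingHom.ker π from this
    rw [Ideal.map_le_iff_le_comap]
    intro x hx
    rw [Ideal.mem_comap, RingHom.mem_ker, ← RingHom.comp_apply, hπ]
    exact rho_eq_zero_of_mem hres A hx
  -- every element is congruent to one of `1 ⊗ a`
  have hrep : ∀ z : B, z - algebraMap _ B ((1 : R) ⊗ₜ[k] π z) ∈ I.map (algebraMap _ B) := by
    intro z
    let e := Hens22.equivH hB
    obtain ⟨y, hy⟩ := Ideal.Quotient.mk_surjective (Henz21.H.proj (R ⊗[k] A) (_ ⧸ I) (e.symm z))
    have h1 : e.symm z - algebraMap _ _ y ∈ I.map (algebraMap _ (Henz21.H (R ⊗[k] A) (_ ⧸ I))) := by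
      rw [← Hens22.ker_proj_eq, RingHom.mem_ker, map_sub, AlgHom.commutes,
        Ideal.Quotient.algebraMap_eq, hy, sub_self]
    have h2 := Ideal.mem_map_of_mem e.toAlgHom.toRingHom h1
    rw [Ideal.map_map, show e.toAlgHom.toRingHom.comp (algebraMap (R ⊗[k] A) _) =
      algebraMap (R ⊗[k] A) B from e.toAlgHom.comp_algebraMap] at h2
    simp only [AlgHom.toRingHom_eq_coe, RingHom.coe_coe, AlgEquiv.coe_toAlgHom, map_sub,
      AlgEquiv.commutes, AlgEquiv.apply_symm_apply] at h2
    have h3 : π z = rho hres A y := by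
      have h4 := hπI _ h2
      rw [map_sub, sub_eq_zero] at h4
      exact h4.trans (RingHom.congr_fun hπ y)
    have h5 := Ideal.mem_map_of_mem (algebraMap _ B) (sub_rho_mem hres A y)
    rw [map_sub] at h5
    have h6 := Ideal.add_mem _ h2 h5
    rw [h3]
    convert h6 using 1
    ring
  haveI : IsLocalHom π := ⟨fun z hz => by
    obtain ⟨u, hu⟩ := (hz.map (Algebra.TensorProduct.includeRight : A →ₐ[k] R ⊗[k] A)).map
      (algebraMap _ B)
    have h := (HenselianRing.jac (I := I.map (algebraMap _ B))) (hrep z)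
    have h7 := Ideal.mem_jacobson_bot.mp h (↑u⁻¹ : B)
    have : (z - algebraMap _ B ((1 : R) ⊗ₜ[k] π z)) * ↑u⁻¹ + 1 = z * ↑u⁻¹ := by
      rw [sub_mul, ← Algebra.TensorProduct.includeRight_apply, ← hu, Units.mul_inv]; ring
    rw [this] at h7
    exact isUnit_of_mul_isUnit_left h7⟩
  haveI hBl : IsLocalRing B := RingHom.domain_isLocalRing π
  refine ⟨hBl, ?_⟩
  -- `B` is a henselization of `T`
  have hu : ∀ y : (P hres A).primeCompl, IsUnit (algebraMap _ B (y : R ⊗[k] A)) := fun y => by
    refine isUnit_of_map_unit π _ ?_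
    rw [← RingHom.comp_apply, hπ]
    exact notMem_maximalIdeal.mp y.2
  let _ : Algebra (T hres A) B := (IsLocalization.lift hu : T hres A →+* B).toAlgebra
  have hcomp : (algebraMap (T hres A) B).comp (algebraMap (R ⊗[k] A) (T hres A)) =
      algebraMap (R ⊗[k] A) B := IsLocalization.lift_comp hu
  have hBT : Hens2.IsPairHenselization (T hres A) (I.map (algebraMap _ (T hres A))) B := by
    refine ⟨by rw [Ideal.map_map, hcomp]; exact hB.1, fun C _ J f hC hJ => ?_⟩
    obtain ⟨h, hh, huniq⟩ := hB.2 C J (f.comp (algebraMap _ (T hres A))) hC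
      (by rw [← Ideal.map_map]; exact hJ)
    refine ⟨h, IsLocalization.ringHom_ext (P hres A).primeCompl ?_, fun h' hh' => huniq h' ?_⟩
    · rw [RingHom.comp_assoc, hcomp, hh]
    · rw [← hh', RingHom.comp_assoc, hcomp]
  exact S1994.isNoetherianRing_pairHens _ hBT

end Groth.Agent.Henz21.TensorNoeth
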