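import Groth.Agent.Henz21.IntegralSh
import Groth.Agent.Henz21.PurelyInsepTensor
import Groth.Agent.Henz21.FiniteLocal
import Mathlib.RingTheory.IntegralClosure.Algebra.Basic
import Mathlib.RingTheory.Localization.AtPrime.Basic

/-! Strict henselization commutes with tensor products along locally integral maps. -/

set_option autoImplicit false
set_option linter.style.haveILetI false

universe u

open IsLocalRing TensorProduct

namespace Groth.Agent.Henz21

/-- If every element of the local ring `S` is a fraction of elements integral over `A`, the strict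
henselization of `S` is integral over that of `A`. -/
theorem isIntegral_strictHenselization_tensor {A S Ash Ssh : Type u} [CommRing A] [IsLocalRing A]
    [CommRing S] [IsLocalRing S] [Algebra A S] [CommRing Ash] [IsLocalRing Ash] [Algebra A Ash]
    [IsLocalHom (algebraMap A Ash)] [Hensel.IsStrictHenselization A Ash]
    [CommRing Ssh] [IsLocalRing Ssh] [Algebra S Ssh] [IsLocalHom (algebraMap S Ssh)]
    [Hensel.IsStrictHenselization S Ssh] [Algebra A Ssh] [IsScalarTower A S Ssh]
    [Algebra Ash Ssh] [IsScalarTower A Ash Ssh] [IsLocalHom (algebraMap Ash Ssh)]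
    (hfrac : ∀ x : S, ∃ b r : S, IsIntegral A b ∧ IsIntegral A r ∧ IsUnit r ∧ r * x = b) :
    Algebra.IsIntegral Ash Ssh := by
  let B' := integralClosure A S
  haveI : Algebra.IsIntegral A B' := ⟨integralClosure.isIntegral⟩
  haveI : IsLocalHom (IsScalarTower.toAlgHom A Ash Ssh).toRingHom :=
    ‹IsLocalHom (algebraMap Ash Ssh)›
  have hsur := (baseChangeMap_strict (S := S) (B' := B') (IsScalarTower.toAlgHom A Ash Ssh)
    (fun x => by
      obtain ⟨b, r, hb, hr, hu, h⟩ := hfrac x
      exact ⟨⟨b, hb⟩, ⟨r, hr⟩, hu, h⟩)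
    (fun b hb => ⟨1, by simp, by rw [one_mul]; exact Subtype.ext hb⟩)).1
  refine ⟨fun y => ?_⟩
  obtain ⟨z, rfl⟩ := hsur y
  induction z using TensorProduct.induction_on with
  | zero => rw [map_zero]; exact isIntegral_zero
  | tmul b a =>
    rw [baseChangeMap_tmul]
    refine IsIntegral.mul ?_ (isIntegral_algebraMap (x := a))
    exact IsIntegral.tower_top (R := A) ((Algebra.IsIntegral.isIntegral (R := A) b).map
      ((IsScalarTower.toAlgHom A S Ssh).comp (IsScalarTower.toAlgHom A B' S)))
  | add x y hx hy => rw [map_add]; exact hx.add hy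

section Primes

variable {A B C : Type u} [CommRing A] [CommRing B]
    [CommRing C] [Algebra A B] [Algebra A C]
    (pA : Ideal A) [pA.IsPrime] (pB : Ideal B) [pB.IsPrime]
    (pC : Ideal C) [pC.IsPrime]
    (pD : Ideal (B ⊗[A] C)) [pD.IsPrime]
    (Ash : Type u) [CommRing Ash] [IsLocalRing Ash] [Algebra (Localization.AtPrime pA) Ash]
    [IsLocalHom (algebraMap (Localization.AtPrime pA) Ash)]
    [Hensel.IsStrictHenselization (Localization.AtPrime pA) Ash] [Algebra A Ash]
    [IsScalarTower A (Localization.AtPrime pA) Ash]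
    (Bsh : Type u) [CommRing Bsh] [IsLocalRing Bsh] [Algebra (Localization.AtPrime pB) Bsh]
    [IsLocalHom (algebraMap (Localization.AtPrime pB) Bsh)]
    [Hensel.IsStrictHenselization (Localization.AtPrime pB) Bsh] [Algebra B Bsh]
    [IsScalarTower B (Localization.AtPrime pB) Bsh] [Algebra A Bsh] [IsScalarTower A B Bsh]
    [Algebra Ash Bsh] [IsScalarTower A Ash Bsh] [IsLocalHom (algebraMap Ash Bsh)]

include pA pB in
/-- The integrality for localizations at primes. -/
theorem isIntegral_strictHenselization_atPrime [pB.LiesOver pA]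
    (hfrac : ∀ x : Localization.AtPrime pB, ∃ b r : Localization.AtPrime pB,
      IsIntegral A b ∧ IsIntegral A r ∧ IsUnit r ∧ r * x = b) :
    Algebra.IsIntegral Ash Bsh := by
  let i : Localization.AtPrime pA →+* Localization.AtPrime pB :=
    Localization.localRingHom pA pB (algebraMap A B) (Ideal.over_def pB pA)
  letI : Algebra (Localization.AtPrime pA) (Localization.AtPrime pB) := i.toAlgebra
  haveI : IsScalarTower A (Localization.AtPrime pA) (Localization.AtPrime pB) :=
    IsScalarTower.of_algebraMap_eq fun x => (IsScalarTower.algebraMap_apply A B _ x).trans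
      (Localization.localRingHom_to_map pA pB _ _ x).symm
  letI : Algebra (Localization.AtPrime pA) Bsh :=
    ((algebraMap (Localization.AtPrime pB) Bsh).comp i).toAlgebra
  haveI : IsScalarTower (Localization.AtPrime pA) (Localization.AtPrime pB) Bsh :=
    IsScalarTower.of_algebraMap_eq' rfl
  haveI : IsScalarTower (Localization.AtPrime pA) Ash Bsh := IsScalarTower.of_algebraMap_eq' (by
    refine IsLocalization.ringHom_ext pA.primeCompl (RingHom.ext fun x => ?_)
    show algebraMap _ Bsh (algebraMap _ (Localization.AtPrime pB) (algebraMap A (Localization.AtPrime pA) x)) =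
      algebraMap Ash Bsh (algebraMap _ Ash (algebraMap A (Localization.AtPrime pA) x))
    rw [← IsScalarTower.algebraMap_apply A _ Ash, ← IsScalarTower.algebraMap_apply A Ash Bsh,
      ← IsScalarTower.algebraMap_apply A _ (Localization.AtPrime pB),
      IsScalarTower.algebraMap_apply A B (Localization.AtPrime pB),
      ← IsScalarTower.algebraMap_apply B _ Bsh, ← IsScalarTower.algebraMap_apply A B Bsh])
  exact isIntegral_strictHenselization_tensor (A := Localization.AtPrime pA)
    (S := Localization.AtPrime pB) fun x => by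
      obtain ⟨b, r, hb, hr, h⟩ := hfrac x
      exact ⟨b, r, hb.tower_top, hr.tower_top, h⟩

variable
    (Csh : Type u) [CommRing Csh] [IsLocalRing Csh] [Algebra (Localization.AtPrime pC) Csh]
    [IsLocalHom (algebraMap (Localization.AtPrime pC) Csh)]
    [Hensel.IsStrictHenselization (Localization.AtPrime pC) Csh] [Algebra C Csh]
    [IsScalarTower C (Localization.AtPrime pC) Csh] [Algebra A Csh] [IsScalarTower A C Csh]
    [Algebra Ash Csh] [IsScalarTower A Ash Csh] [IsLocalHom (algebraMap Ash Csh)]
    (Dsh : Type u) [CommRing Dsh] [IsLocalRing Dsh] [Algebra (Localization.AtPrime pD) Dsh]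
    [IsLocalHom (algebraMap (Localization.AtPrime pD) Dsh)]
    [Hensel.IsStrictHenselization (Localization.AtPrime pD) Dsh] [Algebra (B ⊗[A] C) Dsh]
    [IsScalarTower (B ⊗[A] C) (Localization.AtPrime pD) Dsh]
    [Algebra Bsh Dsh] [IsLocalHom (algebraMap Bsh Dsh)] [Algebra B Dsh] [IsScalarTower B Bsh Dsh]
    [IsScalarTower B (B ⊗[A] C) Dsh]
    [Algebra Csh Dsh] [IsLocalHom (algebraMap Csh Dsh)]
    [Algebra Ash Dsh] [IsScalarTower Ash Bsh Dsh] [IsScalarTower Ash Csh Dsh]

include pA pB pC pD in
/-- If the map of strict henselizations is integral, tensor products commute with strict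
henselization. -/
theorem bijective_tensor_strictHenselization [Algebra.IsIntegral Ash Bsh]
    (hC : ∀ c : C, algebraMap Csh Dsh (algebraMap C Csh c) =
      algebraMap (B ⊗[A] C) Dsh (1 ⊗ₜ[A] c)) :
    Function.Bijective (Algebra.TensorProduct.lift (IsScalarTower.toAlgHom Ash Bsh Dsh)
      (IsScalarTower.toAlgHom Ash Csh Dsh) (fun _ _ => Commute.all _ _)) := by
  haveI := (‹Hensel.IsStrictHenselization (Localization.AtPrime pA) Ash›).henselian
  haveI := (‹Hensel.IsStrictHenselization (Localization.AtPrime pC) Csh›).henselian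
  haveI := (‹Hensel.IsStrictHenselization (Localization.AtPrime pA) Ash›).isSepClosure
  haveI := (‹Hensel.IsStrictHenselization (Localization.AtPrime pC) Csh›).isSepClosure
  haveI : IsSepClosed (ResidueField Ash) :=
    IsSepClosure.sep_closed (ResidueField (Localization.AtPrime pA))
  haveI : IsSepClosed (ResidueField Csh) :=
    IsSepClosure.sep_closed (ResidueField (Localization.AtPrime pC))
  haveI : Algebra.IsIntegral (ResidueField Ash) (ResidueField Bsh) := ⟨fun x => by
    obtain ⟨t, rfl⟩ := residue_surjective x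
    exact IsIntegral.tower_top ((Algebra.IsIntegral.isIntegral (R := Ash) t).map
      (IsScalarTower.toAlgHom Ash Bsh (ResidueField Bsh)))⟩
  haveI : Algebra.IsAlgebraic (ResidueField Ash) (ResidueField Bsh) :=
    Algebra.IsIntegral.isAlgebraic
  haveI hloc := isLocalRing_tensorProduct (R := Ash) (A := Bsh) (B := Csh)
  let iL : Bsh →+* Bsh ⊗[Ash] Csh := Algebra.TensorProduct.includeLeftRingHom
  let iR : Csh →+* Bsh ⊗[Ash] Csh :=
    (Algebra.TensorProduct.includeRight : Csh →ₐ[Ash] Bsh ⊗[Ash] Csh).toRingHom
  letI : Algebra Csh (Bsh ⊗[Ash] Csh) := iR.toAlgebra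
  haveI hint : Algebra.IsIntegral Csh (Bsh ⊗[Ash] Csh) := ⟨isIntegral_includeRight⟩
  haveI : IsLocalHom (algebraMap Csh (Bsh ⊗[Ash] Csh)) :=
    ((local_hom_TFAE _).out 0 4).mpr (comap_maximal _)
  haveI : HenselianLocalRing (Bsh ⊗[Ash] Csh) := henselianLocalRing_of_isIntegral (A := Csh)
  haveI : IsSepClosed (ResidueField (Bsh ⊗[Ash] Csh)) :=
    isSepClosed_residueField_of_isIntegral (P := Csh)
  let φ := Algebra.TensorProduct.lift (IsScalarTower.toAlgHom Ash Bsh Dsh)
      (IsScalarTower.toAlgHom Ash Csh Dsh) (fun _ _ => Commute.all _ _)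
  have hφL : ∀ x, φ (iL x) = algebraMap Bsh Dsh x := fun x => by
    show φ (x ⊗ₜ 1) = _
    simp [φ]
  have hφR : ∀ x, φ (iR x) = algebraMap Csh Dsh x := fun x => by
    show φ (1 ⊗ₜ x) = _
    simp [φ]
  -- `φ` is local
  haveI hφl : IsLocalHom φ.toRingHom := by
    refine ((local_hom_TFAE _).out 0 4).mpr ?_
    haveI hP : ((maximalIdeal Dsh).comap φ.toRingHom).IsPrime := inferInstance
    refine eq_maximalIdeal (Ideal.isMaximal_of_isIntegral_of_isMaximal_comap (R := Csh) _ ?_)
    rw [Ideal.comap_comap, show φ.toRingHom.comp (algebraMap Csh _) = algebraMap Csh Dsh from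
      RingHom.ext hφR]
    have h5 : (maximalIdeal Dsh).comap (algebraMap Csh Dsh) = maximalIdeal Csh :=
      ((local_hom_TFAE (algebraMap Csh Dsh)).out 0 4).mp ‹IsLocalHom (algebraMap Csh Dsh)›
    rw [h5]
    exact maximalIdeal.isMaximal Csh
  -- the map from the local ring of `B ⊗ C`
  let j₀ : B ⊗[A] C →+* Bsh ⊗[Ash] Csh :=
    (Algebra.TensorProduct.lift
      ({ iL.comp (algebraMap B Bsh) with
          commutes' := fun a => congrArg iL (IsScalarTower.algebraMap_apply A B Bsh a).symm } :
        B →ₐ[A] Bsh ⊗[Ash] Csh)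
      ({ iR.comp (algebraMap C Csh) with
          commutes' := fun a => by
            show iR (algebraMap C Csh (algebraMap A C a)) = iL (algebraMap A Bsh a)
            rw [← IsScalarTower.algebraMap_apply A C Csh, IsScalarTower.algebraMap_apply A Ash Csh,
              IsScalarTower.algebraMap_apply A Ash Bsh]
            exact ((Algebra.TensorProduct.includeRight :
              Csh →ₐ[Ash] Bsh ⊗[Ash] Csh).commutes _).trans
              (Algebra.TensorProduct.algebraMap_apply _) } :
        C →ₐ[A] Bsh ⊗[Ash] Csh) (fun _ _ => Commute.all _ _)).toRingHom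
  have hj₀ : ∀ b c, j₀ (b ⊗ₜ c) = iL (algebraMap B Bsh b) * iR (algebraMap C Csh c) :=
    fun b c => rfl
  have hψ₀ : ∀ d, φ (j₀ d) = algebraMap (B ⊗[A] C) Dsh d := fun d => by
    induction d using TensorProduct.induction_on with
    | zero => simp
    | tmul b c =>
      rw [hj₀, map_mul, hφL, hφR, hC, ← IsScalarTower.algebraMap_apply B Bsh Dsh,
        IsScalarTower.algebraMap_apply B (B ⊗[A] C) Dsh, ← map_mul]
      congr 1
      show (b ⊗ₜ[A] (1 : C)) * ((1 : B) ⊗ₜ[A] c) = _
      rw [Algebra.TensorProduct.tmul_mul_tmul, mul_one, one_mul]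
    | add x y hx hy => simp only [map_add, hx, hy]
  have hu : ∀ y : pD.primeCompl, IsUnit (j₀ y) := fun y => isUnit_of_map_unit φ.toRingHom _ (by
    show IsUnit (φ (j₀ y))
    rw [hψ₀, IsScalarTower.algebraMap_apply _ (Localization.AtPrime pD) Dsh]
    exact (IsLocalization.map_units _ y).map _)
  let j : Localization.AtPrime pD →+* Bsh ⊗[Ash] Csh := IsLocalization.lift hu
  have hj : ∀ d, j (algebraMap _ _ d) = j₀ d := fun d => IsLocalization.lift_eq hu d
  clear_value j j₀
  refine bijective_of_strictHenselization (R := Localization.AtPrime pD) (S := Dsh) j φ.toRingHom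
    (IsLocalization.ringHom_ext pD.primeCompl (RingHom.ext fun d => ?_)) fun h _ h1 h2 => ?_
  · show φ (j (algebraMap _ _ d)) = algebraMap _ Dsh (algebraMap _ (Localization.AtPrime pD) d)
    rw [hj, hψ₀, ← IsScalarTower.algebraMap_apply]
  · haveI : IsLocalHom iL := ⟨fun x hx => isUnit_of_map_unit (algebraMap Bsh Dsh) x (by
      rw [← hφL]; exact hx.map φ.toRingHom)⟩
    haveI : IsLocalHom iR := ‹IsLocalHom (algebraMap Csh (Bsh ⊗[Ash] Csh))›
    have hjB : ∀ b, iL (algebraMap B Bsh b) = j (algebraMap (B ⊗[A] C) _ (b ⊗ₜ (1 : C))) := fun b => by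
      rw [hj, hj₀, map_one, map_one, mul_one]
    have hjC : ∀ c, iR (algebraMap C Csh c) = j (algebraMap (B ⊗[A] C) _ ((1 : B) ⊗ₜ c)) := fun c => by
      rw [hj, hj₀, map_one, map_one, one_mul]
    have hL : h.comp iL = iL := rigid_of_strictHenselization (A := Localization.AtPrime pB) iL h
      (IsLocalization.ringHom_ext pB.primeCompl (RingHom.ext fun b => by
        show h (iL (algebraMap _ Bsh (algebraMap B _ b))) = iL (algebraMap _ Bsh (algebraMap B _ b))
        rw [← IsScalarTower.algebraMap_apply B (Localization.AtPrime pB) Bsh, hjB]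
        exact RingHom.congr_fun h1 _)) h2
    have hR : h.comp iR = iR := rigid_of_strictHenselization (A := Localization.AtPrime pC) iR h
      (IsLocalization.ringHom_ext pC.primeCompl (RingHom.ext fun c => by
        show h (iR (algebraMap _ Csh (algebraMap C _ c))) = iR (algebraMap _ Csh (algebraMap C _ c))
        rw [← IsScalarTower.algebraMap_apply C (Localization.AtPrime pC) Csh, hjC]
        exact RingHom.congr_fun h1 _)) h2
    refine RingHom.ext fun z => ?_
    show h z = z
    induction z using TensorProduct.induction_on with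
    | zero => simp
    | tmul x y =>
      have hxy : (x ⊗ₜ[Ash] y : Bsh ⊗[Ash] Csh) = iL x * iR y := by
        show _ = (x ⊗ₜ[Ash] (1 : Csh)) * ((1 : Bsh) ⊗ₜ[Ash] y)
        rw [Algebra.TensorProduct.tmul_mul_tmul, mul_one, one_mul]
      rw [hxy, map_mul]
      congr 1
      exacts [RingHom.congr_fun hL x, RingHom.congr_fun hR y]
    | add x y hx hy => rw [map_add, hx, hy]

end Primes

end Groth.Agent.Henz21
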