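import Mathlib.RingTheory.Henselian
import Mathlib.RingTheory.Valuation.ValuationRing
import Mathlib.RingTheory.Polynomial.ScaleRoots
import Mathlib.Algebra.Polynomial.Taylor
import Mathlib.Algebra.Polynomial.Reverse
import Mathlib.Algebra.Polynomial.Div
import Mathlib.RingTheory.Localization.AtPrime.Basic

/-! Localizations of henselian valuation rings are henselian. -/

universe u

open Polynomial IsLocalRing

namespace Groth.Agent.Henz21

variable {V : Type u} [CommRing V] [HenselianLocalRing V]

/-- A root near `0` of `z + Y + Y ^ 2 * h Y`. -/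
theorem exists_small_root (h : V[X]) (z : V) (hz : z ∈ maximalIdeal V) :
    ∃ y : V, z + y + y ^ 2 * h.eval y = 0 ∧ z ∣ y := by
  let G : V[X] := C 1 - X + C z * X ^ 2 * h.comp (C (-z) * X)
  let N := max G.natDegree 1
  have hN : G.natDegree ≤ N := le_max_left _ _
  let P := reflect N G
  have hG0 : G.coeff 0 = 1 := by
    simp [G, coeff_zero_eq_eval_zero]
  have hPdeg : P.natDegree ≤ N := natDegree_le_iff_coeff_eq_zero.mpr fun i hi => by
    rw [coeff_reflect, show revAt N i = i from revAtFun_eq N i ▸ (if_neg (by omega)),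
      coeff_eq_zero_of_natDegree_lt (by omega)]
  have hPm : P.Monic := by
    refine monic_of_natDegree_le_of_coeff_eq_one N hPdeg ?_
    rw [coeff_reflect, revAt_le (le_refl N), Nat.sub_self, hG0]
  have hmap : P.map (residue V) = reflect N (C 1 - X : (ResidueField V)[X]) := by
    ext i
    rw [coeff_map, coeff_reflect, coeff_reflect]
    have hz' : residue V z = 0 := (residue_eq_zero_iff z).mpr hz
    simp only [G, coeff_add, coeff_sub, map_add, map_sub]
    rw [← coeff_map (residue V), ← coeff_map (residue V), ← coeff_map (residue V)]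
    simp [Polynomial.map_mul, hz']
  have hrefl : reflect N (C 1 - X : (ResidueField V)[X]) = X ^ N - X ^ (N - 1) := by
    have hX : reflect N (X : (ResidueField V)[X]) = X ^ (N - 1) := by
      have := reflect_C_mul_X_pow (R := ResidueField V) N 1 (c := 1)
      rw [map_one, one_mul, one_mul, pow_one, revAt_le (show 1 ≤ N from le_max_right _ _)] at this
      exact this
    rw [reflect_sub, reflect_C, hX]
    simp
  have hN1 : N - 1 + 1 = N := Nat.sub_add_cancel (le_max_right _ _)
  obtain ⟨T, hT, hT1⟩ := HenselianLocalRing.is_henselian P hPm 1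
    (by
      rw [← residue_eq_zero_iff, ← eval_map_apply, hmap, hrefl]
      simp)
    (by
      refine isUnit_of_map_unit (residue V) _ ?_
      rw [← eval_map_apply, ← derivative_map, hmap, hrefl, map_one]
      simp only [derivative_sub, derivative_X_pow, eval_sub, eval_mul, eval_C, eval_pow, eval_X,
        one_pow, mul_one]
      rw [← Nat.cast_sub (Nat.sub_le _ _), show N - (N - 1) = 1 by omega, Nat.cast_one]
      exact isUnit_one)
  have hTu : IsUnit T := by
    by_contra hTn
    have h1 : (1 : V) ∈ maximalIdeal V := by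
      have := (maximalIdeal V).sub_mem (show T ∈ maximalIdeal V from hTn) hT1
      simpa using this
    exact (maximalIdeal.isMaximal V).ne_top ((Ideal.eq_top_iff_one _).mpr h1)
  obtain ⟨t, rfl⟩ := hTu
  haveI : Invertible ((t⁻¹ : Vˣ) : V) := (t⁻¹).invertible
  have h0 : G.eval ((t⁻¹ : Vˣ) : V) = 0 := by
    have := (eval₂_reflect_eq_zero_iff (RingHom.id V) ((t⁻¹ : Vˣ) : V) N G hN).mp (by
      rw [eval₂_id, invOf_units, inv_inv]
      exact hT)
    rwa [eval₂_id] at this
  refine ⟨-z * ((t⁻¹ : Vˣ) : V), ?_, ⟨-((t⁻¹ : Vˣ) : V), by ring⟩⟩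
  simp only [G, eval_add, eval_sub, eval_C, eval_X, eval_mul, eval_pow, eval_comp] at h0
  linear_combination z * h0

variable [IsDomain V] [ValuationRing V]


omit [HenselianLocalRing V] in
theorem dvd_of_mem_of_notMem {p : Ideal V} {x d : V} (hx : x ∈ p) (hd : d ∉ p) : d ∣ x := by
  rcases ValuationRing.dvd_total d x with h | h
  · exact h
  · obtain ⟨c, rfl⟩ := h
    exact absurd (p.mul_mem_right c hx) hd

/-- Roots simple modulo a prime of a henselian valuation ring lift. -/
theorem exists_root_mod_prime (p : Ideal V) [p.IsPrime] (g : V[X]) (b₀ : V) (h₁ : g.eval b₀ ∈ p)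
    (h₂ : g.derivative.eval b₀ ∉ p) : ∃ b : V, g.eval b = 0 ∧ b - b₀ ∈ p := by
  set d := g.derivative.eval b₀ with hd
  have hd2 : d ^ 2 ∉ p := fun h => h₂ (‹p.IsPrime›.mem_of_pow_mem 2 h)
  obtain ⟨z, hz⟩ := dvd_of_mem_of_notMem h₁ hd2
  have hzp : z ∈ p := (‹p.IsPrime›.mem_or_mem (hz ▸ h₁)).resolve_left hd2
  obtain ⟨q, hq⟩ : X ^ 2 ∣ taylor b₀ g - C (g.eval b₀) - C d * X := by
    rw [X_pow_dvd_iff]
    intro i hi
    rcases i with _ | _ | i
    · simp only [coeff_sub, coeff_C_mul_X, coeff_C, taylor_coeff_zero]; simp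
    · simp only [coeff_sub, coeff_C_mul_X, coeff_C, taylor_coeff_one, hd]; simp
    · omega
  obtain ⟨y, hy, hzy⟩ := exists_small_root (q.comp (C d * X)) z (le_maximalIdeal ‹p.IsPrime›.ne_top hzp)
  refine ⟨b₀ + d * y, ?_, ?_⟩
  · have := congrArg (eval (d * y)) hq
    simp only [eval_sub, eval_mul, eval_C, eval_X, eval_pow, taylor_eval] at this
    simp only [eval_comp, eval_mul, eval_C, eval_X] at hy
    rw [add_comm b₀]
    linear_combination this + d ^ 2 * hy + hz
  · rw [add_sub_cancel_left]
    obtain ⟨c, rfl⟩ := hzy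
    exact p.mul_mem_left _ (p.mul_mem_right _ hzp)

end Groth.Agent.Henz21
namespace Groth.Agent.Henz21

variable {V : Type u} [CommRing V] [HenselianLocalRing V] [IsDomain V] [ValuationRing V]

theorem derivative_scaleRoots_eval {R : Type*} [CommRing R] (f : R[X]) (r s : R) :
    s * (f.scaleRoots s).derivative.eval (s * r) = s ^ f.natDegree * f.derivative.eval r := by
  have h := scaleRoots_eval₂_mul (p := f) (C : R →+* R[X]) (C r + X) s
  change (f.scaleRoots s).comp (C s * (C r + X)) = C s ^ f.natDegree * f.comp (C r + X) at h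
  have := congrArg (fun q => (derivative q).eval 0) h
  simpa [derivative_comp, derivative_pow, mul_add] using this

theorem henselianLocalRing_localization (p : Ideal V) [p.IsPrime] :
    HenselianLocalRing (Localization.AtPrime p) where
  is_henselian := by
    intro f hf a₀ h₁ h₂
    let L := Localization.AtPrime p
    classical
    obtain ⟨⟨s, hs⟩, hsf⟩ := IsLocalization.exist_integer_multiples_of_finset p.primeCompl
      (insert a₀ f.coeffs)
    let s' := algebraMap V L s
    have hsu : IsUnit s' := IsLocalization.map_units L ⟨s, hs⟩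
    have hlift : f.scaleRoots s' ∈ lifts (algebraMap V L) := by
      rw [lifts_iff_coeff_lifts]
      intro i
      rw [coeff_scaleRoots]
      rcases lt_trichotomy i f.natDegree with hi | hi | hi
      · by_cases h0 : f.coeff i = 0
        · exact ⟨0, by simp [h0]⟩
        obtain ⟨c, hc⟩ := hsf _ (Finset.mem_insert_of_mem (coeff_mem_coeffs h0))
        refine ⟨c * s ^ (f.natDegree - i - 1), ?_⟩
        rw [map_mul, map_pow, hc, Algebra.smul_def]
        show s' * f.coeff i * s' ^ (f.natDegree - i - 1) = _
        rw [mul_comm s' (f.coeff i), mul_assoc, ← pow_succ', Nat.sub_add_cancel (by omega)]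
      · exact ⟨1, by simp [hi, hf.coeff_natDegree]⟩
      · exact ⟨0, by simp [coeff_eq_zero_of_natDegree_lt hi]⟩
    obtain ⟨g, hg⟩ := (mem_lifts _).mp hlift
    obtain ⟨b₀, hb₀⟩ := hsf _ (Finset.mem_insert_self a₀ _)
    rw [Algebra.smul_def] at hb₀
    have e1 : algebraMap V L (g.eval b₀) = s' ^ f.natDegree * f.eval a₀ := by
      rw [← eval_map_apply, hg, hb₀]
      exact scaleRoots_eval_mul f a₀ s'
    have e2 : s' * algebraMap V L (g.derivative.eval b₀) =
        s' ^ f.natDegree * f.derivative.eval a₀ := by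
      rw [← eval_map_apply, ← derivative_map, hg, hb₀]
      exact derivative_scaleRoots_eval f a₀ s'
    have hp₁ : g.eval b₀ ∈ p := by
      rw [← IsLocalization.AtPrime.to_map_mem_maximal_iff L p, e1]
      exact Ideal.mul_mem_left _ _ h₁
    have hp₂ : g.derivative.eval b₀ ∉ p := fun h => by
      rw [← IsLocalization.AtPrime.to_map_mem_maximal_iff L p] at h
      exact (mem_maximalIdeal _).mp (e2 ▸ Ideal.mul_mem_left _ s' h) ((hsu.pow _).mul h₂)
    obtain ⟨b, hb, hbb⟩ := exists_root_mod_prime p g b₀ hp₁ hp₂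
    obtain ⟨t, ht⟩ := hsu.exists_right_inv
    refine ⟨t * algebraMap V L b, ?_, ?_⟩
    · have h3 := scaleRoots_eval_mul f (t * algebraMap V L b) s'
      rw [← mul_assoc, ht, one_mul, ← hg, eval_map_apply, hb, map_zero] at h3
      exact (hsu.pow _).mul_right_eq_zero.mp h3.symm
    · have h4 : t * algebraMap V L b - a₀ = t * algebraMap V L (b - b₀) := by
        rw [map_sub, mul_sub, hb₀]
        show _ = _ - t * (s' * a₀)
        linear_combination a₀ * ht
      rw [h4]
      exact Ideal.mul_mem_left _ _
        ((IsLocalization.AtPrime.to_map_mem_maximal_iff L p _).mpr hbb)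

end Groth.Agent.Henz21
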